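import Groth.Agent.AmpleEmb.SectionsGe
import Groth.Agent.AmpleLib.RelLocal

/-!
# Very ample modules are relatively ample; immersions into projective space
-/

set_option autoImplicit false
set_option backward.isDefEq.respectTransparency false
set_option linter.style.haveILetI false

universe u

open CategoryTheory CategoryTheory.Limits AlgebraicGeometry TopologicalSpace Opposite
open Groth.Agent.PullbackMod Groth.Agent.DCohLib Groth.Agent.ParaFLib Groth.Agent.AmpleLib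

noncomputable section

namespace Groth.Agent.AmpleEmb

variable {X Y : Scheme.{u}} {n : ℕ}

theorem isAffineOpen_toInt_inf {V : Y.Opens} (hV : IsAffineOpen V)
    {A : (CohB1.ProjSpace n (ULift.{u} ℤ)).Opens} (hA : IsAffineOpen A) :
    IsAffineOpen (ProjMap.toInt Y n ⁻¹ᵁ A ⊓ CohB1.ProjSpaceOver.toBase n Y ⁻¹ᵁ V) := by
  haveI : IsAffine V.toScheme := hV
  haveI : IsAffine A.toScheme := hA
  let j := pullback.map (A.ι ≫ CohB1.ProjSpace.toSpec n (ULift.{u} ℤ))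
    (V.ι ≫ specULiftZIsTerminal.from Y) (CohB1.ProjSpace.toSpec n (ULift.{u} ℤ)) (specULiftZIsTerminal.from Y)
    A.ι V.ι (𝟙 _) (by simp) (by simp)
  have h : j.opensRange = ProjMap.toInt Y n ⁻¹ᵁ A ⊓ CohB1.ProjSpaceOver.toBase n Y ⁻¹ᵁ V := by
    refine Opens.ext ((Scheme.Pullback.range_map _ _ _ _ _ _ _ _ _).trans ?_)
    rw [Scheme.Opens.range_ι, Scheme.Opens.range_ι]
    rfl
  exact h ▸ isAffineOpen_opensRange j

theorem isAffineHom_ι_toInt {V : Y.Opens} (hV : IsAffineOpen V) :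
    IsAffineHom ((CohB1.ProjSpaceOver.toBase n Y ⁻¹ᵁ V).ι ≫ ProjMap.toInt Y n) := by
  refine ⟨fun A hA => ?_⟩
  rw [← (CohB1.ProjSpaceOver.toBase n Y ⁻¹ᵁ V).ι.isAffineOpen_iff_of_isOpenImmersion,
    Scheme.Hom.comp_preimage, Scheme.Hom.image_preimage_eq_opensRange_inf, Scheme.Opens.opensRange_ι, inf_comm]
  exact isAffineOpen_toInt_inf hV hA

theorem ampleOn_of_isRelVeryAmplePn (f : X ⟶ Y) [QuasiCompact f] {L : X.Modules}
    (h : RelAmple.IsRelVeryAmplePn f L) {V : Y.Opens} (hV : IsAffineOpen V) : AmpleOn L (f ⁻¹ᵁ V) := by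
  obtain ⟨n, i, hi, hf, ⟨e⟩⟩ := h
  let W := CohB1.ProjSpaceOver.toBase n Y ⁻¹ᵁ V
  haveI := isAffineHom_ι_toInt (n := n) hV
  have hA := isAmple_pullback (W.ι ≫ ProjMap.toInt Y n) (isAmple_twistOne n (ULift.{u} ℤ))
  have hle : f ⁻¹ᵁ V ≤ i ⁻¹ᵁ W := by
    intro x hx
    show (i ≫ CohB1.ProjSpaceOver.toBase n Y) x ∈ V
    rw [show i ≫ CohB1.ProjSpaceOver.toBase n Y = f from hf]
    exact hx
  let k := i.resLE W (f ⁻¹ᵁ V) hle
  have hk : k ≫ W.ι = (f ⁻¹ᵁ V).ι ≫ i := Scheme.Hom.resLE_comp_ι _ _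
  haveI : CompactSpace (f ⁻¹ᵁ V : Scheme.{u}) :=
    isCompact_iff_compactSpace.1 (f.isCompact_preimage hV.isCompact)
  have hind : Topology.IsInducing k.base := by
    refine Topology.IsInducing.of_comp k.continuous W.ι.continuous ?_
    have := i.isEmbedding.isInducing.comp (f ⁻¹ᵁ V).ι.isOpenEmbedding.isInducing
    convert this using 1
    exact funext fun x => congrArg (fun g => g x) (congrArg (fun g : (f ⁻¹ᵁ V : Scheme.{u}) ⟶ _ => (g : _ → _)) hk)
  refine isAmple_of_iso (Iso.symm ?_) (isAmple_pullback_of_isInducing k hind hA)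
  exact restrictIso _ L ≪≫ (Scheme.Modules.pullback _).mapIso e ≪≫
    (Scheme.Modules.pullbackComp (f ⁻¹ᵁ V).ι i).app _ ≪≫
    (Scheme.Modules.pullbackComp ((f ⁻¹ᵁ V).ι ≫ i) (ProjMap.toInt Y n)).app _ ≪≫
    (Scheme.Modules.pullbackCongr (show ((f ⁻¹ᵁ V).ι ≫ i) ≫ ProjMap.toInt Y n = k ≫ W.ι ≫ ProjMap.toInt Y n by
      rw [← hk, Category.assoc])).app _ ≪≫
    ((Scheme.Modules.pullbackComp k (W.ι ≫ ProjMap.toInt Y n)).app _).symm

/-- A module very ample for some projective space is relatively ample. -/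
theorem isRelAmple_of_isRelVeryAmplePn (f : X ⟶ Y) [QuasiCompact f] {L : X.Modules}
    (h : RelAmple.IsRelVeryAmplePn f L) : RelAmple.IsRelAmple f L :=
  isRelAmple_of_locally fun y => by
    obtain ⟨_, ⟨V, hV, rfl⟩, hy, -⟩ :=
      Y.isBasis_affineOpens.exists_subset_of_mem_open (Set.mem_univ y) isOpen_univ
    exact ⟨V, hV, hy, ampleOn_of_isRelVeryAmplePn f h hV⟩

theorem isRelVeryAmplePn_of_iso {f : X ⟶ Y} {L L' : X.Modules} (e : L ≅ L')
    (h : RelAmple.IsRelVeryAmplePn f L) : RelAmple.IsRelVeryAmplePn f L' := by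
  obtain ⟨n, i, hi, hf, ⟨θ⟩⟩ := h
  exact ⟨n, i, hi, hf, ⟨e.symm ≪≫ θ⟩⟩

end Groth.Agent.AmpleEmb
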