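import Groth.Agent.AmpleEmb.Closed
import Groth.Agent.AmpleLib.Basis
import Mathlib.AlgebraicGeometry.Morphisms.FiniteType

/-!
# Sections of a power of an ample module embedding a proper scheme
-/

set_option autoImplicit false
set_option backward.isDefEq.respectTransparency false
set_option linter.style.haveILetI false

universe u

open CategoryTheory CategoryTheory.Limits AlgebraicGeometry TopologicalSpace Opposite
open Groth.Agent.DCohLib Groth.Agent.ParaFLib Groth.Agent.AmpleLib

noncomputable section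

namespace Groth.Agent.AmpleEmb

variable {X : Scheme.{u}}

theorem gen_genLocus {P : X.Modules} (hP : PicF.IsInvertible P) (s : Coh.structureModule X ⟶ P) :
    Gen (CohB1.genLocus P s) (resT (sec s) (CohB1.genLocus P s)) := gen_of_germ fun y hy => by
  rw [TopCat.Presheaf.germ_res_apply]
  exact (mem_genLocus_iff hP).1 hy

variable {R : Type u} [CommRing R]

/-- Sections of one invertible module with affine loci covering `X`, some of which generate. -/
structure Emb (φ : R →+* Γ(X, ⊤)) (L : X.Modules) where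
  /-- The exponent. -/
  D : ℕ
  hD : 0 < D
  /-- The number of sections, less one. -/
  n : ℕ
  /-- The module. -/
  P : X.Modules
  iso : P ≅ CohB1.tensorPow L D
  inv : PicF.IsInvertible P
  /-- The sections. -/
  s : Fin (n + 1) → (Coh.structureModule X ⟶ P)
  affine : ∀ i, IsAffineOpen (CohB1.genLocus P (s i))
  /-- The ratios. -/
  t : ∀ i, Fin (n + 1) → Γ(X, CohB1.genLocus P (s i))
  ht : ∀ i a, t i a • resT (sec (s i)) (CohB1.genLocus P (s i)) = resT (sec (s a)) (CohB1.genLocus P (s i))
  /-- The generating sections. -/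
  G : Set (Fin (n + 1))
  cover : ∀ x : X, ∃ i ∈ G, x ∈ CohB1.genLocus P (s i)
  gen : ∀ i ∈ G, Function.Surjective (MvPolynomial.eval₂Hom (constV φ (CohB1.genLocus P (s i))) (t i))

theorem exists_raise {L : X.Modules} (hL : PicF.IsInvertible L) {m D : ℕ} (hD : 0 < D) (hdvd : (m + 1) ∣ D)
    (s : Coh.structureModule X ⟶ CohB1.tensorPow L (m + 1)) :
    ∃ s' : Coh.structureModule X ⟶ CohB1.tensorPow L D, CohB1.genLocus _ s' = CohB1.genLocus _ s := by
  obtain ⟨q, rfl⟩ := hdvd
  obtain ⟨q, rfl⟩ : ∃ r, q = r + 1 := Nat.exists_eq_succ_of_ne_zero (by rintro rfl; simp at hD)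
  refine ⟨powS s (q + 1) ≫ (powMul L (m + 1) (q + 1)).hom, ?_⟩
  rw [genLocus_comp_iso, genLocus_powS (isInvertible_tensorPow hL (m + 1))]

/-- Extension of a function on `X_s` with any large enough power. -/
theorem exists_extend_ge [CompactSpace X] [QuasiSeparatedSpace X] {P : X.Modules} (hP : PicF.IsInvertible P)
    (s : Coh.structureModule X ⟶ P) (h : Γ(X, CohB1.genLocus P s)) :
    ∃ k₀ : ℕ, ∀ K, k₀ ≤ K → ∃ ξ : Γ(CohB1.tensorPow P K, ⊤),
      resT ξ (CohB1.genLocus P s) = h • powLoc (resT (sec s) (CohB1.genLocus P s)) K := by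
  obtain ⟨k₀, t, ht⟩ := exists_extend hP s h
  refine ⟨k₀, fun K hK => ?_⟩
  obtain ⟨j, rfl⟩ := Nat.exists_eq_add_of_le hK
  refine ⟨mulPow (sec s) (sec t) j, ?_⟩
  rw [resT, mulPow_res]
  show mulPow _ (resT (sec t) (CohB1.genLocus P s)) j = _
  rw [ht, mulPow_smul, mulPow_powLoc]

theorem exists_emb {L : X.Modules} (h : CohB1.IsAmple L) (f : X ⟶ Spec (CommRingCat.of R)) [LocallyOfFiniteType f]
    (φ : R →+* Γ(X, ⊤)) (hφ : (Scheme.ΓSpecIso (CommRingCat.of R)).inv ≫ f.appTop = CommRingCat.ofHom φ)
    [Nonempty X] : Nonempty (Emb φ L) := by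
  classical
  haveI := h.2.1
  haveI := quasiSeparatedSpace_of_isAmple h
  choose m σ hxσ haσ using h.2.2
  obtain ⟨T, hT⟩ := isCompact_univ.elim_finite_subcover
    (fun x : X => (CohB1.genLocus _ (σ x) : Set X)) (fun x => (CohB1.genLocus _ (σ x)).2)
    (fun x _ => Set.mem_iUnion.2 ⟨x, hxσ x⟩)
  let D := ∏ x ∈ T, (m x + 1)
  have hD : 0 < D := Finset.prod_pos fun x _ => Nat.succ_pos _
  have hraise : ∀ x : T, ∃ s' : Coh.structureModule X ⟶ CohB1.tensorPow L D,
      CohB1.genLocus _ s' = CohB1.genLocus _ (σ x.1) := fun x =>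
    exists_raise h.1 hD (Finset.dvd_prod_of_mem (fun x => m x + 1) x.2) (σ x.1)
  choose s hs using hraise
  let P := CohB1.tensorPow L D
  have hP : PicF.IsInvertible P := isInvertible_tensorPow h.1 D
  let U : T → X.Opens := fun x => CohB1.genLocus P (s x)
  have hUa : ∀ x, IsAffineOpen (U x) := fun x => by
    rw [show U x = _ from hs x]
    exact haσ x.1
  -- generators
  have hgen : ∀ x : T, ∃ S : Finset Γ(X, U x),
      Subring.closure (Set.range (constV φ (U x)) ∪ ↑S) = ⊤ := by
    intro x
    have hft := HasRingHomProperty.appLE (P := @LocallyOfFiniteType) f inferInstance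
      ⟨⊤, isAffineOpen_top _⟩ ⟨U x, hUa x⟩ le_top
    have hψ : (constV φ (U x)).FiniteType := by
      have hc := RingHom.finiteType_respectsIso.2 _
        (Scheme.ΓSpecIso (CommRingCat.of R)).symm.commRingCatIsoToRingEquiv hft
      have he : constV φ (U x) = (f.appLE ⊤ (U x) le_top).hom.comp
          (Scheme.ΓSpecIso (CommRingCat.of R)).inv.hom := by
        rw [constV, show φ = ((Scheme.ΓSpecIso (CommRingCat.of R)).inv ≫ f.appTop).hom by rw [hφ]; rfl]
        rfl
      rw [he]
      exact hc
    algebraize [constV φ (U x)]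
    obtain ⟨S, hS⟩ := (inferInstance : Algebra.FiniteType R Γ(X, U x)).out
    refine ⟨S, ?_⟩
    have := congrArg Subalgebra.toSubring hS
    rw [Algebra.adjoin_eq_ring_closure, Algebra.top_toSubring] at this
    exact this
  choose S hS using hgen
  let J := Σ x : T, (S x : Finset Γ(X, U x))
  choose k₀ hk₀ using fun j : J => exists_extend_ge hP (s j.1) j.2.1
  let K := Finset.univ.sup k₀
  choose ξ hξ using fun j : J => hk₀ j K (Finset.le_sup (Finset.mem_univ j))
  let Q := CohB1.tensorPow P (K + 1)
  have hQ : PicF.IsInvertible Q := isInvertible_tensorPow hP (K + 1)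
  let u : T ⊕ J → (Coh.structureModule X ⟶ Q) := Sum.elim (fun x => powS (s x) (K + 1))
    fun j => tensorS (secHom (CohB1.tensorPow P K) (ξ j)) (s j.1)
  have hlocT : ∀ x, CohB1.genLocus Q (u (Sum.inl x)) = U x := fun x => genLocus_powS hP (s x) K
  have hlocJ : ∀ j : J, CohB1.genLocus Q (u (Sum.inr j)) = X.basicOpen j.2.1 := fun j => by
    refine (genLocus_tensorS (isInvertible_tensorPow hP K) hP _ _).trans ?_
    refine genLocus_inf_eq_basicOpen _ (gen_powLoc (gen_genLocus hP (s j.1)) K) ?_
    rw [sec_secHom]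
    exact (hξ j).symm
  have haff : ∀ i, IsAffineOpen (CohB1.genLocus Q (u i)) := by
    rintro (x | j)
    · rw [hlocT]
      exact hUa x
    · rw [hlocJ]
      exact (hUa j.1).basicOpen _
  choose t ht using fun i a => ((gen_genLocus hQ (u i)) _ le_rfl).2 (resT (sec (u a)) (CohB1.genLocus Q (u i)))
  simp only [res_self] at ht
  haveI : Nonempty T := by
    obtain ⟨x, hx, -⟩ := Set.mem_iUnion₂.1 (hT (Set.mem_univ (Classical.arbitrary X)))
    exact ⟨⟨x, hx⟩⟩
  obtain ⟨n, ⟨ε⟩⟩ : ∃ n, Nonempty (Fin (n + 1) ≃ T ⊕ J) := by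
    refine ⟨Fintype.card (T ⊕ J) - 1, ⟨?_⟩⟩
    exact (finCongr (Nat.sub_add_cancel (Fintype.card_pos : 0 < Fintype.card (T ⊕ J)))).trans (Fintype.equivFin _).symm
  refine ⟨{ D := D * (K + 1), hD := Nat.mul_pos hD K.succ_pos, n := n, P := Q,
            iso := powMul L D (K + 1), inv := hQ, s := fun i => u (ε i), affine := fun i => haff _,
            t := fun i a => t (ε i) (ε a), ht := fun i a => ht _ _,
            G := {i | ∃ x, ε i = Sum.inl x}, cover := fun y => ?_, gen := ?_ }⟩
  · obtain ⟨x, hx, hyx⟩ := Set.mem_iUnion₂.1 (hT (Set.mem_univ y))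
    refine ⟨ε.symm (Sum.inl ⟨x, hx⟩), ⟨⟨x, hx⟩, ε.apply_symm_apply _⟩, ?_⟩
    rw [ε.apply_symm_apply, hlocT]
    exact (hs ⟨x, hx⟩).ge hyx
  · rintro i ⟨x, hx⟩
    suffices h' : Function.Surjective (MvPolynomial.eval₂Hom (constV φ (CohB1.genLocus Q (u (Sum.inl x))))
        (fun a => t (Sum.inl x) (ε a))) by
      rw [hx]
      exact h'
    rw [← RingHom.range_eq_top, eq_top_iff]
    let V := CohB1.genLocus Q (u (Sum.inl x))
    have hVU : U x = V := (hlocT x).symm
    intro y _
    have key : ∀ z : Γ(X, U x), X.presheaf.map (homOfLE hVU.ge).op z ∈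
        (MvPolynomial.eval₂Hom (constV φ V) (fun a => t (Sum.inl x) (ε a))).range := by
      intro z
      have hz : z ∈ Subring.closure (Set.range (constV φ (U x)) ∪ ↑(S x)) := by
        rw [hS x]
        trivial
      induction hz using Subring.closure_induction with
      | zero => rw [map_zero]; exact zero_mem _
      | one => rw [map_one]; exact one_mem _
      | add a b _ _ ha hb => rw [map_add]; exact add_mem ha hb
      | neg a _ ha => rw [map_neg]; exact neg_mem ha
      | mul a b _ _ ha hb => rw [map_mul]; exact mul_mem ha hb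
      | mem a ha =>
        rcases ha with ⟨r, rfl⟩ | ha
        · exact ⟨MvPolynomial.C r, by rw [MvPolynomial.eval₂Hom_C, res_constV]⟩
        · let j : J := ⟨x, a, ha⟩
          refine ⟨MvPolynomial.X (ε.symm (Sum.inr j)), ?_⟩
          rw [MvPolynomial.eval₂Hom_X', ε.apply_symm_apply]
          refine ((gen_genLocus hQ (u (Sum.inl x))) V le_rfl).1 ?_
          simp only [resT, res_res]
          refine (ht (Sum.inl x) (Sum.inr j)).trans ?_
          show resT (sec (tensorS (secHom (CohB1.tensorPow P K) (ξ j)) (s x))) V =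
            X.presheaf.map (homOfLE hVU.ge).op a • resT (sec (powS (s x) (K + 1))) V
          rw [sec_powS, resT, resT, powLoc_res, tensorS]
          have e0 : sec (secHom (tmod (CohB1.tensorPow P K) P)
              (pairS (CohB1.tensorPow P K) P (sec (secHom (CohB1.tensorPow P K) (ξ j))) (sec (s x)))) =
              mulPow (sec (s x)) (ξ j) 1 := by
            rw [sec_secHom, sec_secHom]
            rfl
          refine (congrArg (fun z => (CohB1.tensorPow P (K + 1)).presheaf.map
            (homOfLE (le_top : V ≤ ⊤)).op z) e0).trans ?_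
          rw [mulPow_res]
          have e1 := congrArg ((CohB1.tensorPow P K).presheaf.map (homOfLE hVU.ge).op) (hξ j)
          rw [(CohB1.tensorPow P K).map_smul, powLoc_res, resT, resT, res_res, res_res] at e1
          rw [e1, mulPow_smul, mulPow_powLoc]
    have e : X.presheaf.map (homOfLE hVU.ge).op (X.presheaf.map (homOfLE hVU.le).op y) = y := by
      rw [← ConcreteCategory.comp_apply, ← Functor.map_comp]
      exact ConcreteCategory.congr_hom (X.presheaf.map_id _) y
    exact e ▸ key (X.presheaf.map (homOfLE hVU.le).op y)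

end Groth.Agent.AmpleEmb
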