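import Groth.Agent.AmpleEmb.ExtendMod
import Groth.Agent.AmpleEmb.RelAmple
import Groth.Agent.AmpleEmb.Sections
import Groth.Agent.AmpleLib.RelLocal
import Groth.Agent.CompleteCurve.ProjSpace

/-!
# Ample on a cover by loci of sections of another invertible module
-/

set_option autoImplicit false
set_option backward.isDefEq.respectTransparency false
set_option linter.style.haveILetI false

universe u

open CategoryTheory CategoryTheory.Limits AlgebraicGeometry TopologicalSpace Opposite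
open Groth.Agent.PullbackMod Groth.Agent.DCohLib Groth.Agent.ParaFLib Groth.Agent.AmpleLib

noncomputable section

namespace Groth.Agent.AmpleEmb

variable {X : Scheme.{u}}

theorem gen_near_of_bijective_germ {M : X.Modules} (hM : PicF.IsInvertible M) {U : X.Opens} (m : Γ(M, U)) {y : X}
    (hy : y ∈ U) (h : Function.Bijective fun r : X.presheaf.stalk y => r • M.presheaf.germ U y hy m) :
    ∃ (V : X.Opens) (hV : V ≤ U), y ∈ V ∧ Gen V (M.presheaf.map (homOfLE hV).op m) := by
  obtain ⟨W, e, hyW, he⟩ := exists_gen_nhd hM y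
  obtain ⟨a, ha⟩ := (he (U ⊓ W) inf_le_right).2 (M.presheaf.map (homOfLE (inf_le_left : U ⊓ W ≤ U)).op m)
  simp only at ha
  refine ⟨X.basicOpen a, (X.basicOpen_le a).trans inf_le_left, ?_, ?_⟩
  · refine (X.mem_basicOpen a y ⟨hy, hyW⟩).2 ((bijective_smul_iff ((he.bijective_germ y hyW))
      (X.presheaf.germ (U ⊓ W) y ⟨hy, hyW⟩ a)).1 ?_)
    have e1 : X.presheaf.germ (U ⊓ W) y ⟨hy, hyW⟩ a • M.presheaf.germ W y hyW e = M.presheaf.germ U y hy m := by
      have := congrArg (M.presheaf.germ (U ⊓ W) y ⟨hy, hyW⟩) ha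
      rwa [germ_smul', TopCat.Presheaf.germ_res_apply, TopCat.Presheaf.germ_res_apply] at this
    rw [e1]
    exact h
  · have e1 := congrArg (M.presheaf.map (homOfLE (X.basicOpen_le a)).op) ha
    rw [M.map_smul, res_res, res_res] at e1
    rw [← e1]
    exact (he.res ((X.basicOpen_le a).trans inf_le_right)).smul (RingedSpace.isUnit_res_basicOpen _ a)

theorem mem_image_genLocus_iff {M : X.Modules} (hM : PicF.IsInvertible M) {U : X.Opens}
    (t : Coh.structureModule (U : Scheme.{u}) ⟶ M.restrict U.ι) {y : X} (hy : y ∈ U) :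
    y ∈ U.ι ''ᵁ CohB1.genLocus _ t ↔ Function.Bijective fun r : X.presheaf.stalk y =>
      r • M.presheaf.germ (U.ι ''ᵁ ⊤) y (U.ι_image_top.ge hy) (sec t) := by
  constructor
  · rintro ⟨z, hz, rfl⟩
    obtain ⟨O, hzO, hO⟩ := mem_genLocus_iff'.1 hz
    have hO' := (gen_restrict_iff U.ι M O (M.presheaf.map (homOfLE (U.ι.image_mono le_top)).op (sec t))).1 hO
    have := hO'.bijective_germ (U.ι z) ⟨z, hzO, rfl⟩
    rwa [TopCat.Presheaf.germ_res_apply] at this
  · intro h
    obtain ⟨V, hV, hyV, hgen⟩ := gen_near_of_bijective_germ hM (U := U.ι ''ᵁ ⊤) _ _ h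
    have e : U.ι ''ᵁ (U.ι ⁻¹ᵁ V) ≤ V := by
      rw [Scheme.Hom.image_preimage_eq_opensRange_inf]; exact inf_le_right
    refine ⟨⟨y, hy⟩, mem_genLocus_iff'.2 ⟨U.ι ⁻¹ᵁ V, hyV, ?_⟩, rfl⟩
    refine (gen_restrict_iff U.ι M _ (M.presheaf.map (homOfLE (U.ι.image_mono le_top)).op (sec t))).2 ?_
    have h1 := hgen.res e
    rwa [res_res] at h1

theorem bijective_pair_iff {A B : X.Modules} (hA : PicF.IsInvertible A) {y : X} (a : A.presheaf.stalk y)
    {b : B.presheaf.stalk y} (hb : Function.Bijective fun r : X.presheaf.stalk y => r • b) :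
    (Function.Bijective fun r : X.presheaf.stalk y => r • stalkTensor y A B (a ⊗ₜ b)) ↔
      Function.Bijective fun r : X.presheaf.stalk y => r • a := by
  refine ⟨fun h => ?_, fun h => bijective_stalkTensor h hb⟩
  obtain ⟨e, he⟩ := exists_stalk_gen hA y
  obtain ⟨c, hc⟩ := he.2 a
  simp only at hc
  rw [← hc, bijective_smul_iff he]
  rw [← hc, ← TensorProduct.smul_tmul', map_smul, bijective_smul_iff (bijective_stalkTensor he hb)] at h
  exact h

/-- A locus inside the locus of a section of `P` is the locus of a section of a twist by a power of `P`. -/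
theorem exists_section_genLocus [CompactSpace X] [QuasiSeparatedSpace X] {M P : X.Modules}
    (hM : PicF.IsInvertible M) (hP : PicF.IsInvertible P) (u : Coh.structureModule X ⟶ P)
    (t : Coh.structureModule (CohB1.genLocus P u : Scheme.{u}) ⟶ M.restrict (CohB1.genLocus P u).ι) :
    ∃ k, ∀ K, k ≤ K → ∃ Ξ : Coh.structureModule X ⟶ CohB1.tensorMod (CohB1.tensorMod M (CohB1.tensorPow P K)) P,
      CohB1.genLocus _ Ξ = (CohB1.genLocus P u).ι ''ᵁ CohB1.genLocus _ t := by
  haveI : Coh.IsQCoh M := Groth.Agent.InvExt.isQCoh_of_isInvertible hM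
  obtain ⟨k, hk⟩ := exists_extend_mod hP u M
    (M.presheaf.map (homOfLE (CohB1.genLocus P u).ι_image_top.ge).op (sec t))
  refine ⟨k, fun K hK => ?_⟩
  obtain ⟨ξ, hξ⟩ := hk K hK
  let U := CohB1.genLocus P u
  have hMK := isInvertible_tensor hM (isInvertible_tensorPow hP K)
  refine ⟨tensorS (secHom (tmod M (CohB1.tensorPow P K)) ξ) u, ?_⟩
  refine (genLocus_tensorS hMK hP _ _).trans ?_
  ext z
  by_cases hz : z ∈ U
  · refine Iff.trans ⟨fun h => h.1, fun h => ⟨h, hz⟩⟩ ((mem_genLocus_iff hMK).trans ?_)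
    refine Iff.trans ?_ (mem_image_genLocus_iff hM t hz).symm
    have e : (tmod M (CohB1.tensorPow P K)).presheaf.germ ⊤ z trivial ξ =
        stalkTensor z M (CohB1.tensorPow P K) ((M.presheaf.germ (U.ι ''ᵁ ⊤) z (U.ι_image_top.ge hz) (sec t)) ⊗ₜ
          (CohB1.tensorPow P K).presheaf.germ U z hz (powLoc (resT (sec u) U) K)) := by
      have h1 := congrArg ((tmod M (CohB1.tensorPow P K)).presheaf.germ U z hz) hξ
      rw [resT, TopCat.Presheaf.germ_res_apply, germ_pairS, TopCat.Presheaf.germ_res_apply] at h1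
      exact h1
    show (Function.Bijective fun r : X.presheaf.stalk z => r • (tmod M (CohB1.tensorPow P K)).presheaf.germ ⊤ z trivial
      (sec (L := tmod M (CohB1.tensorPow P K)) (secHom (tmod M (CohB1.tensorPow P K)) ξ))) ↔ _
    rw [show sec (L := tmod M (CohB1.tensorPow P K)) (secHom (tmod M (CohB1.tensorPow P K)) ξ) = ξ from
      sec_secHom _]
    erw [e]
    exact bijective_pair_iff hM _ ((gen_powLoc (gen_genLocus hP u) K).bijective_germ z hz)
  · exact ⟨fun h => (hz h.2).elim, fun h => (hz ((U.ι.image_mono le_top).trans U.ι_image_top.le h)).elim⟩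

/-- If `L` is ample on the loci of sections of `P` covering `X`, then `L ⊗ P^c` is ample for large `c`. -/
theorem exists_isAmple_tensor [CompactSpace X] {L P : X.Modules} (hL : PicF.IsInvertible L) (hP : PicF.IsInvertible P)
    {T : Type u} (u : T → (Coh.structureModule X ⟶ P)) (hcov : ∀ x, ∃ j, x ∈ CohB1.genLocus P (u j))
    (hA : ∀ j, AmpleOn L (CohB1.genLocus P (u j))) :
    ∃ c₀, ∀ c, c₀ ≤ c → CohB1.IsAmple (CohB1.tensorMod L (CohB1.tensorPow P c)) := by
  classical
  haveI : QuasiSeparatedSpace X :=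
    quasiSeparatedSpace_of_cover (fun j => CohB1.genLocus P (u j))
      (fun j => quasiSeparatedSpace_of_isAmple (hA j)) hcov fun j A hA' => by
        rw [Set.inter_comm, ← Opens.coe_inf]
        exact (isAffineOpen_inf_genLocus hP (u j) hA').isCompact
  have hloc : ∀ x : X, ∃ (j : T) (n : ℕ) (t : Coh.structureModule (CohB1.genLocus P (u j) : Scheme.{u}) ⟶
      (CohB1.tensorPow L (n + 1)).restrict (CohB1.genLocus P (u j)).ι),
      x ∈ (CohB1.genLocus P (u j)).ι ''ᵁ CohB1.genLocus _ t ∧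
        IsAffineOpen ((CohB1.genLocus P (u j)).ι ''ᵁ CohB1.genLocus _ t) := fun x => by
    obtain ⟨j, hj⟩ := hcov x
    obtain ⟨n, t, hxt, hta⟩ := (hA j).2.2 ⟨x, hj⟩
    refine ⟨j, n, t ≫ (restrictPow _ L (n + 1)).symm.hom, ?_⟩
    rw [genLocus_comp_iso]
    exact ⟨⟨⟨x, hj⟩, hxt, rfl⟩, hta.image_of_isOpenImmersion _⟩
  choose j n t hxt hta using hloc
  obtain ⟨F, hF⟩ := isCompact_univ.elim_finite_subcover
    (fun x : X => (((CohB1.genLocus P (u (j x))).ι ''ᵁ CohB1.genLocus _ (t x) : X.Opens) : Set X))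
    (fun x => Opens.isOpen _) (fun x _ => Set.mem_iUnion.2 ⟨x, hxt x⟩)
  choose k hk using fun x => exists_section_genLocus (isInvertible_tensorPow hL (n x + 1)) hP (u (j x)) (t x)
  refine ⟨F.sup k + 1, fun c hc => ⟨isInvertible_tensor hL (isInvertible_tensorPow hP c), inferInstance, fun y => ?_⟩⟩
  obtain ⟨x, hxF, hy⟩ := Set.mem_iUnion₂.1 (hF (Set.mem_univ y))
  obtain ⟨K, hK⟩ : ∃ K, c * (n x + 1) = K + 1 :=
    Nat.exists_eq_succ_of_ne_zero (Nat.mul_ne_zero (by omega) (Nat.succ_ne_zero _))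
  have hkK : k x ≤ K := by
    have h1 : c ≤ c * (n x + 1) := Nat.le_mul_of_pos_right _ (Nat.succ_pos _)
    have h2 := Finset.le_sup (f := k) hxF
    omega
  obtain ⟨Ξ, hΞ⟩ := hk x K hkK
  let M := CohB1.tensorPow L (n x + 1)
  refine ⟨n x, Ξ ≫ (assoc M (CohB1.tensorPow P K) P ≪≫ tIso (Iso.refl M)
    (eqToIso (congrArg (CohB1.tensorPow P) hK.symm) ≪≫ (powMul P c (n x + 1)).symm) ≪≫
      (powTensor L (CohB1.tensorPow P c) (n x + 1)).symm).hom, ?_⟩
  rw [genLocus_comp_iso, hΞ]
  exact ⟨hy, hta x⟩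

/-- A scheme with a relatively ample module over a scheme with an ample module has an ample module. -/
theorem exists_isAmple_of_isRelAmple {S : Scheme.{u}} (f : X ⟶ S) {L : X.Modules} (hL : RelAmple.IsRelAmple f L)
    {N : S.Modules} (hN : CohB1.IsAmple N) : ∃ M : X.Modules, CohB1.IsAmple M := by
  haveI := hN.2.1
  haveI : QuasiCompact f := hL.1
  haveI : CompactSpace X := QuasiCompact.compactSpace_of_compactSpace f
  obtain ⟨T, _, D, hD, s, -, -, -, hUa, -, -, -, -, hcov⟩ := exists_trivial_cover (𝟙 S) hN hN.1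
  have hP := isInvertible_tensorPow hN.1 D
  obtain ⟨c, hc⟩ := exists_isAmple_tensor (isInvertible_of_isRelAmple hL) (isInvertible_pullback f hP)
    (fun j => pullS f (s j))
    (fun x => (hcov (f x)).imp fun j hj => (genLocus_pullS f hP (s j)).ge hj)
    (fun j => by
      rw [genLocus_pullS f hP (s j)]
      exact hL.2 ⟨_, hUa j⟩)
  exact ⟨_, hc c le_rfl⟩

/-- A finite type morphism from a scheme with an ample module factors through an immersion into projective space. -/
theorem exists_immersion_of_isAmple {S : Scheme.{u}} (f : X ⟶ S) [LocallyOfFiniteType f] {L : X.Modules}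
    (hL : CohB1.IsAmple L) :
    ∃ (n : ℕ) (i : X ⟶ CohB1.ProjSpaceOver n S), IsImmersion i ∧ i ≫ CohB1.ProjSpaceOver.toBase n S = f := by
  obtain ⟨N, hN⟩ := eventually_isRelVeryAmplePn f hL
  obtain ⟨n, i, hi, hf, -⟩ := hN N le_rfl
  exact ⟨n, i, hi, hf⟩

theorem isRelVeryAmplePn_of_immersion {S : Scheme.{u}} (f : X ⟶ S) {n : ℕ} (i : X ⟶ CohB1.ProjSpaceOver n S)
    [IsImmersion i] (hi : i ≫ CohB1.ProjSpaceOver.toBase n S = f) :
    RelAmple.IsRelVeryAmplePn f ((Scheme.Modules.pullback i).obj (Twist.twistOver n S 1)) :=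
  ⟨n, i, inferInstance, hi, ⟨Iso.refl _⟩⟩

instance isSeparated_toBase (n : ℕ) (S : Scheme.{u}) : IsSeparated (CohB1.ProjSpaceOver.toBase n S) :=
  inferInstanceAs (IsSeparated (pullback.snd (CohB1.ProjSpace.toSpec n (ULift.{u} ℤ)) (specULiftZIsTerminal.from S)))

instance isProper_toBase (n : ℕ) (S : Scheme.{u}) : IsProper (CohB1.ProjSpaceOver.toBase n S) :=
  inferInstanceAs (IsProper (pullback.snd (CohB1.ProjSpace.toSpec n (ULift.{u} ℤ)) (specULiftZIsTerminal.from S)))

end Groth.Agent.AmpleEmb
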