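import Groth.Agent.AmpleEmb.SectionsGe
import Groth.Agent.CurveLib.TensorDeg
import Groth.Agent.CurveLib.Inv
import Groth.Agent.DCohLib.Betti

/-!
# Twists of quasi-coherent modules of finite type by an ample module are generated by sections
-/

set_option autoImplicit false
set_option backward.isDefEq.respectTransparency false
set_option linter.style.haveILetI false

universe u

open CategoryTheory CategoryTheory.Limits AlgebraicGeometry TopologicalSpace Opposite
open Groth.Agent.PullbackMod Groth.Agent.DCohLib Groth.Agent.ParaFLib Groth.Agent.AmpleLib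
open scoped TensorProduct

noncomputable section

namespace Groth.Agent.AmpleEmb

variable {X : Scheme.{u}}

/-- Global generation from sections spanning every stalk. -/
theorem isGloballyGenerated_of_span {M : X.Modules} {ι : Type u} (s : ι → Γ(M, ⊤))
    (h : ∀ x : X, Submodule.span (X.presheaf.stalk x) (Set.range fun i => M.presheaf.germ ⊤ x trivial (s i)) = ⊤) :
    Curv2.IsGloballyGenerated M := by
  let σ : ι → SheafOfModules.sections (R := X.ringCatSheaf) M := fun i =>
    PresheafOfModules.sectionsMk (fun U => M.presheaf.map (homOfLE le_top).op (s i)) fun {U V} j => by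
      show (M.presheaf.map _ ≫ M.presheaf.map j) (s i) = M.presheaf.map _ (s i)
      rw [← Functor.map_comp]
      rfl
  let p := (SheafOfModules.freeHomEquiv (R := X.ringCatSheaf) M).symm σ
  refine ⟨ι, p, (epi_iff_stalk (M := (SheafOfModules.free _ : X.Modules)) p).2 fun x => ?_⟩
  rw [← LinearMap.range_eq_top, eq_top_iff, ← h x, Submodule.span_le]
  rintro _ ⟨i, rfl⟩
  let P : X.Modules := (SheafOfModules.free (R := X.ringCatSheaf) ι : SheafOfModules X.ringCatSheaf)
  refine ⟨Scheme.Modules.presheaf P |>.germ ⊤ x trivial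
    ((SheafOfModules.freeSection (R := X.ringCatSheaf) i).val (op ⊤)), ?_⟩
  rw [stalkLin_germ]
  refine congrArg (fun v => M.presheaf.germ ⊤ x trivial v) ?_
  have := (SheafOfModules.freeHomEquiv_apply p i).symm.trans
    (congrFun ((SheafOfModules.freeHomEquiv (R := X.ringCatSheaf) M).apply_symm_apply σ) i)
  refine (congrArg (fun v : SheafOfModules.sections (R := X.ringCatSheaf) M => v.val (op ⊤)) this).trans ?_
  exact ConcreteCategory.congr_hom (M.presheaf.map_id _) (s i)

/-- Sections over an affine open generate the stalks. -/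
theorem span_germ_eq_top (M : X.Modules) [Coh.IsQCoh M] {U : X.Opens} (hU : IsAffineOpen U) {x : X} (hx : x ∈ U)
    {S : Set Γ(M, U)} (hS : Submodule.span Γ(X, U) S = ⊤) :
    Submodule.span (X.presheaf.stalk x) ((fun σ => M.presheaf.germ U x hx σ) '' S) = ⊤ := by
  refine eq_top_iff.2 fun z _ => ?_
  obtain ⟨V, hxV, v, rfl⟩ := TopCat.Presheaf.exists_germ_eq M.presheaf z
  obtain ⟨f, hf, hxf⟩ := hU.exists_basicOpen_le (V := V) ⟨x, hxV⟩ hx
  obtain ⟨k, σ, hσ⟩ := (QCohLib.locAt M hU).extend f (M.presheaf.map (homOfLE hf).op v)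
  have h1 := congrArg (M.presheaf.germ (X.basicOpen f) x hxf) hσ
  rw [CohBase.sc_apply, germ_smul', TopCat.Presheaf.germ_res_apply, TopCat.Presheaf.germ_res_apply] at h1
  obtain ⟨w, hw⟩ : IsUnit (X.presheaf.germ U x hx (f ^ k)) := by
    rw [map_pow]
    exact ((X.mem_basicOpen f x hx).1 hxf).pow k
  simp only [TopCat.Presheaf.germ_res_apply] at h1
  rw [← hw] at h1
  have hmem : M.presheaf.germ U x hx σ ∈
      Submodule.span (X.presheaf.stalk x) ((fun σ => M.presheaf.germ U x hx σ) '' S) := by
    have hσS : σ ∈ Submodule.span Γ(X, U) S := hS ▸ trivial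
    clear hσ h1
    induction hσS using Submodule.span_induction with
    | mem y hy => exact Submodule.subset_span ⟨y, hy, rfl⟩
    | zero => rw [map_zero]; exact zero_mem _
    | add a b _ _ ha hb => rw [map_add]; exact add_mem ha hb
    | smul c a _ ha => rw [germ_smul']; exact Submodule.smul_mem _ _ ha
  rw [show M.presheaf.germ V x hxV v = (↑w⁻¹ : X.presheaf.stalk x) • M.presheaf.germ U x hx σ by
    rw [h1, smul_smul, Units.inv_mul, one_smul]]
  exact Submodule.smul_mem _ _ hmem

theorem span_stalkTensor {A B : X.Modules} {x : X} {b : B.presheaf.stalk x}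
    (hb : Function.Bijective fun r : X.presheaf.stalk x => r • b) {T : Set (A.presheaf.stalk x)}
    (hT : Submodule.span (X.presheaf.stalk x) T = ⊤) :
    Submodule.span (X.presheaf.stalk x) ((fun a => stalkTensor x A B (a ⊗ₜ b)) '' T) = ⊤ := by
  refine eq_top_iff.2 ?_
  rintro z -
  obtain ⟨w, rfl⟩ := (stalkTensor x A B).surjective z
  induction w using TensorProduct.induction_on with
  | zero => rw [map_zero]; exact zero_mem _
  | add p q hp hq => rw [map_add]; exact add_mem hp hq
  | tmul a c =>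
    obtain ⟨r, rfl⟩ := hb.2 c
    rw [TensorProduct.tmul_smul, map_smul]
    refine Submodule.smul_mem _ _ ?_
    have ha : a ∈ Submodule.span (X.presheaf.stalk x) T := hT ▸ trivial
    induction ha using Submodule.span_induction with
    | mem y hy => exact Submodule.subset_span ⟨y, hy, rfl⟩
    | zero => rw [TensorProduct.zero_tmul, map_zero]; exact zero_mem _
    | add p q _ _ hp hq => rw [TensorProduct.add_tmul, map_add]; exact add_mem hp hq
    | smul c p _ hp => rw [← TensorProduct.smul_tmul', map_smul]; exact Submodule.smul_mem _ _ hp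

/-- `F ⊗ L^{⊗ n}` is generated by sections for large `n`. -/
theorem eventually_isGloballyGenerated {L : X.Modules} (h : CohB1.IsAmple L) {F : X.Modules} (hF : Coh.IsCoh F) :
    ∃ N, ∀ E, N ≤ E → Curv2.IsGloballyGenerated (CohB1.tensorMod F (CohB1.tensorPow L E)) := by
  classical
  haveI := h.2.1
  haveI := quasiSeparatedSpace_of_isAmple h
  obtain ⟨T, _, D, hD, s, e, -, -, hUa, -, -, -, -, hcov⟩ := exists_trivial_cover (𝟙 X) h h.1
  let P := CohB1.tensorPow L D
  have hP : PicF.IsInvertible P := isInvertible_tensorPow h.1 D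
  haveI := hF.1
  haveI : ∀ r, Coh.IsQCoh (CohB1.tensorPow L r) := fun r =>
    Groth.Agent.InvExt.isQCoh_of_isInvertible (isInvertible_tensorPow h.1 r)
  let M : ℕ → X.Modules := fun r => tmod F (CohB1.tensorPow L r)
  haveI : ∀ r, Coh.IsQCoh (M r) := fun r => BCLib.isQCoh_tmod F _
  have hfin : ∀ r x, Module.Finite Γ(X, CohB1.genLocus P (s x)) Γ(M r, CohB1.genLocus P (s x)) := fun r x =>
    QCohLib.finite_sections (M r) (BCLib.isFT_tensorMod F _ hF.2 (DCohLib.isFT_of_flf (CurveLib.isFinLocFree_of_isInvertible (isInvertible_tensorPow h.1 r))))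
      (hUa x)
  choose S hS using fun r x => (hfin r x).fg_top
  let J := Σ p : Fin D × T, (S p.1 p.2 : Finset Γ(M p.1, CohB1.genLocus P (s p.2)))
  choose k₀ hk₀ using fun j : J => exists_extend_mod hP (s j.1.2) (M j.1.1) j.2.1
  let K₀ := Finset.univ.sup k₀
  refine ⟨D * K₀, fun E hE => ?_⟩
  let r : Fin D := ⟨E % D, Nat.mod_lt _ hD⟩
  have hK : K₀ ≤ E / D := (Nat.le_div_iff_mul_le hD).2 (by rw [mul_comm]; exact hE)
  let J' := Σ x : T, (S r x : Finset Γ(M r, CohB1.genLocus P (s x)))
  choose ξ hξ using fun j : J' => hk₀ ⟨(r, j.1), j.2⟩ (E / D) ((Finset.le_sup (Finset.mem_univ _)).trans hK)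
  let Q := tmod (M r) (CohB1.tensorPow P (E / D))
  let iso : Q ≅ CohB1.tensorMod F (CohB1.tensorPow L E) :=
    assoc _ _ _ ≪≫ tIso (Iso.refl F) (tIso (Iso.refl _) (powMul L D (E / D)) ≪≫ (powAdd L r _).symm ≪≫
      eqToIso (congrArg (CohB1.tensorPow L) (Nat.mod_add_div E D)))
  have hgg : Curv2.IsGloballyGenerated Q := by
    refine isGloballyGenerated_of_span ξ fun y => ?_
    obtain ⟨x, hx⟩ := hcov y
    refine eq_top_iff.2 (le_trans (span_stalkTensor
      ((gen_powLoc (gen_genLocus hP (s x)) (E / D)).bijective_germ y hx) (span_germ_eq_top (M r) (hUa x) hx (hS r x))).ge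
      (Submodule.span_mono ?_))
    rintro _ ⟨_, ⟨σ, hσ, rfl⟩, rfl⟩
    refine ⟨⟨x, σ, hσ⟩, ?_⟩
    have h1 := congrArg (Q.presheaf.germ (CohB1.genLocus P (s x)) y hx) (hξ ⟨x, σ, hσ⟩)
    rw [resT, TopCat.Presheaf.germ_res_apply, germ_pairS] at h1
    exact h1
  obtain ⟨ι, p, hp⟩ := hgg
  exact ⟨ι, p ≫ iso.hom, epi_comp _ _⟩

end Groth.Agent.AmpleEmb
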