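import Groth.Agent.AmpleEmb.Ratio
import Groth.Agent.ProjMap.BaseChange
import Groth.Prelude.Def_LCI2

/-!
# Immersions to projective space over an affine base
-/

set_option autoImplicit false
set_option backward.isDefEq.respectTransparency false
set_option linter.style.haveILetI false

universe u

open CategoryTheory CategoryTheory.Limits AlgebraicGeometry TopologicalSpace Opposite
open Groth.Agent.PullbackMod Groth.Agent.DCohLib Groth.Agent.ParaFLib Groth.Agent.AmpleLib

noncomputable section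

namespace Groth.Agent.AmpleEmb

variable {X Y : Scheme.{u}} (q : X ⟶ Y) {n : ℕ} (F : RatioFamily X n)

/-- Integer constants. -/
def intConst (X : Scheme.{u}) : ULift.{u} ℤ →+* Γ(X, ⊤) :=
  (Int.castRingHom Γ(X, ⊤)).comp ULift.ringEquiv.toRingHom

/-- The morphism to projective space over `Y`. -/
def toProjOver : X ⟶ CohB1.ProjSpaceOver n Y := ProjMap.liftOver (toProj (intConst X) F) q

theorem toProjOver_toBase : toProjOver q F ≫ CohB1.ProjSpaceOver.toBase n Y = q :=
  ProjMap.liftOver_toBase _ _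

theorem toProjOver_toInt : toProjOver q F ≫ ProjMap.toInt Y n = toProj (intConst X) F :=
  ProjMap.liftOver_toInt _ _

/-- The standard opens over `Y`. -/
abbrev overOpen (a : Fin (n + 1)) : (CohB1.ProjSpaceOver n Y).Opens :=
  ProjMap.toInt Y n ⁻¹ᵁ stdOpen n (ULift.{u} ℤ) a

theorem preimage_overOpen (a : Fin (n + 1)) : toProjOver q F ⁻¹ᵁ overOpen (Y := Y) a = F.U a := by
  rw [← Scheme.Hom.comp_preimage, toProjOver_toInt]
  exact preimage_basicOpen _ F a

theorem isAffineOpen_overOpen [IsAffine Y] (a : Fin (n + 1)) : IsAffineOpen (overOpen (Y := Y) a) := by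
  haveI : IsAffineHom (specULiftZIsTerminal.from Y) := inferInstance
  haveI : IsAffineHom (ProjMap.toInt Y n) := MorphismProperty.pullback_fst _ _ inferInstance
  exact (isAffineOpen_stdOpen n _ a).preimage _

theorem isAffineOpen_overOpen_inf {V : Y.Opens} (hV : IsAffineOpen V) (a : Fin (n + 1)) :
    IsAffineOpen (overOpen (Y := Y) a ⊓ CohB1.ProjSpaceOver.toBase n Y ⁻¹ᵁ V) := by
  haveI : IsAffine V.toScheme := hV
  haveI : IsAffine (stdOpen n (ULift.{u} ℤ) a).toScheme := isAffineOpen_stdOpen n _ a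
  let j := pullback.map ((stdOpen n (ULift.{u} ℤ) a).ι ≫ CohB1.ProjSpace.toSpec n (ULift.{u} ℤ))
    (V.ι ≫ specULiftZIsTerminal.from Y) (CohB1.ProjSpace.toSpec n (ULift.{u} ℤ)) (specULiftZIsTerminal.from Y)
    (stdOpen n (ULift.{u} ℤ) a).ι V.ι (𝟙 _) (by simp) (by simp)
  have h : j.opensRange = overOpen (Y := Y) a ⊓ CohB1.ProjSpaceOver.toBase n Y ⁻¹ᵁ V := by
    refine Opens.ext ((Scheme.Pullback.range_map _ _ _ _ _ _ _ _ _).trans ?_)
    rw [Scheme.Opens.range_ι, Scheme.Opens.range_ι]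
    rfl
  exact h ▸ isAffineOpen_opensRange j

theorem preimage_overOpen_inf {V : Y.Opens} {a : Fin (n + 1)} (h : F.U a ≤ q ⁻¹ᵁ V) :
    toProjOver q F ⁻¹ᵁ (overOpen (Y := Y) a ⊓ CohB1.ProjSpaceOver.toBase n Y ⁻¹ᵁ V) = F.U a := by
  rw [Scheme.Hom.preimage_inf, preimage_overOpen, ← Scheme.Hom.comp_preimage, toProjOver_toBase]
  exact inf_eq_left.2 h

theorem surjective_appLE {V : Y.Opens} {i : Fin (n + 1)} (hVi : F.U i ≤ q ⁻¹ᵁ V)
    (hi : Function.Surjective (MvPolynomial.eval₂Hom (q.appLE V (F.U i) hVi).hom (F.t i))) :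
    Function.Surjective ((toProjOver q F).appLE (overOpen i ⊓ CohB1.ProjSpaceOver.toBase n Y ⁻¹ᵁ V) (F.U i)
      (preimage_overOpen_inf q F hVi).ge) := by
  intro y
  obtain ⟨p, rfl⟩ := hi y
  suffices h : ∀ p, MvPolynomial.eval₂Hom (q.appLE V (F.U i) hVi).hom (F.t i) p ∈
      ((toProjOver q F).appLE (overOpen i ⊓ CohB1.ProjSpaceOver.toBase n Y ⁻¹ᵁ V) (F.U i)
        (preimage_overOpen_inf q F hVi).ge).hom.range from h p
  intro p
  induction p using MvPolynomial.induction_on with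
  | C r =>
    rw [MvPolynomial.eval₂Hom_C]
    refine ⟨(CohB1.ProjSpaceOver.toBase n Y).appLE V _ inf_le_right r, ?_⟩
    rw [← ConcreteCategory.comp_apply, Scheme.Hom.appLE_comp_appLE]
    simp only [toProjOver_toBase]
  | add p p' hp hp' =>
    rw [map_add]
    exact add_mem hp hp'
  | mul_X p a hp =>
    rw [map_mul, MvPolynomial.eval₂Hom_X']
    refine mul_mem hp ⟨(ProjMap.toInt Y n).appLE (stdOpen n _ i) _ inf_le_left (coordRatio n _ i a), ?_⟩
    rw [← ConcreteCategory.comp_apply, Scheme.Hom.appLE_comp_appLE]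
    simp only [toProjOver_toInt]
    exact toProj_appLE_ratio _ F i a

theorem isClosedImmersion_morphismRestrict_of_surjective {Z : Scheme.{u}} (j : X ⟶ Z) {V : Z.Opens} {U : X.Opens}
    (hU : j ⁻¹ᵁ V = U) (hV : IsAffineOpen V) (hUa : IsAffineOpen U)
    (hs : Function.Surjective (j.appLE V U hU.ge)) : IsClosedImmersion (j ∣_ V) := by
  subst hU
  haveI : IsAffine V.toScheme := hV
  haveI : IsAffine (j ⁻¹ᵁ V).toScheme := hUa
  refine IsClosedImmersion.of_surjective_of_isAffine _ ?_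
  rw [Scheme.Hom.appTop, morphismRestrict_app']
  exact surjective_appLE_congr j V.ι_image_top.symm
    ((Scheme.Opens.ι_image_top _).symm.trans (congrArg ((j ⁻¹ᵁ V).ι ''ᵁ ·) (Scheme.Hom.preimage_top _).symm)) _ hs
where
  surjective_appLE_congr {X Z : Scheme.{u}} (j : X ⟶ Z) {V V' : Z.Opens} {U U' : X.Opens} (hV : V = V') (hU : U = U')
      {e : U ≤ j ⁻¹ᵁ V} (e' : U' ≤ j ⁻¹ᵁ V') (h : Function.Surjective (j.appLE V U e)) :
      Function.Surjective (j.appLE V' U' e') := by
    subst hV hU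
    exact h

/-- Generation of the ratios on `U i` over an affine open of the base. -/
def GenOver (i : Fin (n + 1)) : Prop :=
  ∃ (V : Y.Opens) (_ : IsAffineOpen V) (h : F.U i ≤ q ⁻¹ᵁ V),
    Function.Surjective (MvPolynomial.eval₂Hom (q.appLE V (F.U i) h).hom (F.t i))

theorem isImmersion_toProjOver (G : Set (Fin (n + 1)))
    (hG : ∀ i ∈ G, GenOver q F i) (hcov : ∀ x : X, ∃ i ∈ G, x ∈ F.U i) :
    IsImmersion (toProjOver q F) := by
  choose V hV hle hs using fun i : G => hG i.1 i.2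
  set j := toProjOver q F
  let O : G → (CohB1.ProjSpaceOver n Y).Opens := fun i =>
    overOpen i.1 ⊓ CohB1.ProjSpaceOver.toBase n Y ⁻¹ᵁ V i
  let W : (CohB1.ProjSpaceOver n Y).Opens := ⨆ i, O i
  have hW : j ⁻¹ᵁ W = ⊤ := eq_top_iff.2 fun x _ => by
    obtain ⟨i, hiG, hi⟩ := hcov x
    exact (Opens.mem_iSup.2 ⟨⟨i, hiG⟩, (preimage_overOpen_inf q F (hle ⟨i, hiG⟩)).ge hi⟩ : j x ∈ W)
  haveI : IsClosedImmersion (j ∣_ W) := by
    refine IsZariskiLocalAtTarget.of_iSup_eq_top (fun i : G => W.ι ⁻¹ᵁ O i) ?_ fun i => ?_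
    · rw [← Scheme.Hom.preimage_iSup]
      exact eq_top_iff.2 fun x _ => x.2
    · refine (MorphismProperty.arrow_mk_iso_iff @IsClosedImmersion (morphismRestrictRestrict j W _)).2 ?_
      have he : W.ι ''ᵁ (W.ι ⁻¹ᵁ O i) = O i := by
        rw [Scheme.Hom.image_preimage_eq_opensRange_inf, Scheme.Opens.opensRange_ι]
        exact inf_eq_right.2 (le_iSup O i)
      rw [he]
      exact isClosedImmersion_morphismRestrict_of_surjective j (preimage_overOpen_inf q F (hle i))
        (isAffineOpen_overOpen_inf (hV i) i.1) (F.affine i.1) (surjective_appLE q F (hle i) (hs i))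
  haveI : IsIso (j ⁻¹ᵁ W).ι := by
    rw [hW]
    exact X.topIso.isIso_hom
  have h : j = inv (j ⁻¹ᵁ W).ι ≫ (j ∣_ W) ≫ W.ι := by
    rw [morphismRestrict_ι, IsIso.inv_hom_id_assoc]
  rw [h]
  infer_instance

/-- `L` is very ample when it has sections with generating ratios on an affine cover. -/
theorem isRelVeryAmplePn_of_ratios {P L : X.Modules} (e : P ≅ L)
    (s : Fin (n + 1) → (Coh.structureModule X ⟶ P))
    (hgen : ∀ i, Gen (F.U i) (resT (sec (s i)) (F.U i)))
    (ht : ∀ i a, F.t i a • resT (sec (s i)) (F.U i) = resT (sec (s a)) (F.U i))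
    (G : Set (Fin (n + 1))) (hG : ∀ i ∈ G, GenOver q F i) (hcov : ∀ x : X, ∃ i ∈ G, x ∈ F.U i) :
    RelAmple.IsRelVeryAmplePn q L := by
  obtain ⟨θ⟩ := nonempty_iso_pullback_twistOne (intConst X) F s hgen ht
  refine ⟨n, toProjOver q F, isImmersion_toProjOver q F G hG hcov, toProjOver_toBase q F, ⟨?_⟩⟩
  exact e.symm ≪≫ θ ≪≫ (Scheme.Modules.pullbackCongr (toProjOver_toInt q F).symm).app _ ≪≫
    ((Scheme.Modules.pullbackComp (toProjOver q F) (ProjMap.toInt Y n)).app _).symm

/-- `O(1)` is ample on projective space over an affine scheme. -/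
theorem isAmple_twistOver [IsAffine Y] (n : ℕ) : CohB1.IsAmple (Twist.twistOver n Y 1) := by
  haveI : IsAffineHom (specULiftZIsTerminal.from Y) := inferInstance
  haveI : IsAffineHom (ProjMap.toInt Y n) := MorphismProperty.pullback_fst _ _ inferInstance
  exact isAmple_pullback (ProjMap.toInt Y n) (isAmple_twistOne n (ULift.{u} ℤ))

theorem isInvertible_twistOver (n : ℕ) : PicF.IsInvertible (Twist.twistOver n Y 1) :=
  isInvertible_pullback (ProjMap.toInt Y n) (isInvertible_twistOne n (ULift.{u} ℤ))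

/-- A very ample module over an affine base is ample. -/
theorem isAmple_of_isRelVeryAmplePn [IsAffine Y] {L : X.Modules} [QuasiCompact q]
    (h : RelAmple.IsRelVeryAmplePn q L) : CohB1.IsAmple L := by
  obtain ⟨n, i, hi, -, ⟨e⟩⟩ := h
  haveI : CompactSpace X := QuasiCompact.compactSpace_of_compactSpace q
  exact isAmple_of_iso e.symm (isAmple_pullback_of_isInducing i i.isEmbedding.isInducing (isAmple_twistOver n))

end Groth.Agent.AmpleEmb
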