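import Groth.Agent.AmpleLib.Tensor
import Groth.Agent.ParaFLib.Cocycle
import Groth.Agent.ParaFLib.Glue
import Groth.Prelude.Def_ClSub2

/-!
# Inverses of invertible modules, integer powers
-/

set_option autoImplicit false
set_option backward.isDefEq.respectTransparency false
set_option linter.style.haveILetI false

universe u

open CategoryTheory CategoryTheory.Limits AlgebraicGeometry TopologicalSpace Opposite
open Groth.Agent.PullbackMod Groth.Agent.DCohLib Groth.Agent.ParaFLib

noncomputable section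

namespace Groth.Agent.AmpleEmb

variable {X : Scheme.{u}}

/-- Invertible modules have invertible inverses. -/
theorem exists_isInverseOf {L : X.Modules} (hL : PicF.IsInvertible L) :
    ∃ N : X.Modules, PicF.IsInvertible N ∧ Nonempty (CohB1.tensorMod L N ≅ Coh.structureModule X) := by
  choose W e hxW he using fun x : X => exists_gen_nhd hL x
  have hu : ∀ x y : X, ∃ a : (Γ(X, W x ⊓ W y))ˣ,
      (a : Γ(X, W x ⊓ W y)) • L.presheaf.map (homOfLE (inf_le_right : W x ⊓ W y ≤ W y)).op (e y) =
        L.presheaf.map (homOfLE (inf_le_left : W x ⊓ W y ≤ W x)).op (e x) := fun x y => by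
    obtain ⟨a, ha, h⟩ := ((he x).res inf_le_left).exists_unit ((he y).res (inf_le_right : W x ⊓ W y ≤ W y))
    exact ⟨ha.unit, h⟩
  choose η hη using hu
  have hcov : iSup W = ⊤ := eq_top_iff.2 fun x _ => Opens.mem_iSup.2 ⟨x, hxW x⟩
  have hres : ∀ {a b : X.Opens} (h : b ≤ a) (u : (Γ(X, a))ˣ),
      X.presheaf.map (homOfLE h).op (↑u⁻¹ : Γ(X, a)) = ↑(Units.map (X.presheaf.map (homOfLE h).op).hom.toMonoidHom u)⁻¹ :=
    fun h u => (Units.coe_map_inv (X.presheaf.map (homOfLE h).op).hom.toMonoidHom u).symm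
  have hc : IsCocycle W fun x y => (η x y)⁻¹ := by
    intro i j k
    simp only [hres]
    rw [← Units.val_mul, ← mul_inv, Units.val_inj, inv_inj]
    refine Units.ext ?_
    rw [Units.val_mul]
    let V := W i ⊓ W j ⊓ W k
    have hV : Gen V (L.presheaf.map (homOfLE (inf_le_right : V ≤ W k)).op (e k)) := (he k).res inf_le_right
    refine (hV V le_rfl).1 ?_
    have e1 := congrArg (L.presheaf.map (homOfLE (inf_le_inf_right (W k) inf_le_left : V ≤ W i ⊓ W k)).op) (hη i k)
    have e2 := congrArg (L.presheaf.map (homOfLE (inf_le_left : V ≤ W i ⊓ W j)).op) (hη i j)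
    have e3 := congrArg (L.presheaf.map (homOfLE (inf_le_inf_right (W k) inf_le_right : V ≤ W j ⊓ W k)).op) (hη j k)
    rw [L.map_smul, res_res, res_res] at e1 e2 e3
    rw [← e3, ← mul_smul] at e2
    simp only [res_self]
    exact e1.trans e2.symm
  obtain ⟨N, s, hN, hs, hsη⟩ := exists_invertible_of_cocycle W _ hcov hc
  refine ⟨N, hN, nonempty_iso_of_bases hcov (L := tmod L N) (L' := Coh.structureModule X)
    (s := fun x => pairS L N (e x) (s x)) (t := fun x => (1 : Γ(X, W x)))
    (fun x => AmpleLib.gen_pairS (he x) (hs x)) (fun x => gen_one (W x)) (fun _ _ => 1) (fun i j => ?_) fun i j => ?_⟩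
  · rw [res_pairS, res_pairS, hsη i j, ← hη i j, pairS_smul_left, pairS_smul_right, smul_smul,
      Units.mul_inv]
  · rw [one_smul]
    exact ((X.presheaf.map (homOfLE _).op).hom.map_one).trans ((X.presheaf.map (homOfLE _).op).hom.map_one).symm

variable (L N : X.Modules)

/-- Integer powers, given an inverse. -/
def pw : ℤ → X.Modules
  | Int.ofNat n => CohB1.tensorPow L n
  | Int.negSucc n => CohB1.tensorPow N (n + 1)

theorem isInvertible_pw {L N : X.Modules} (hL : PicF.IsInvertible L) (hN : PicF.IsInvertible N) :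
    ∀ d, PicF.IsInvertible (pw L N d)
  | Int.ofNat n => AmpleLib.isInvertible_tensorPow hL n
  | Int.negSucc n => AmpleLib.isInvertible_tensorPow hN (n + 1)

variable {L N}

/-- `L ⊗ L^d ≅ L^(d+1)`. -/
def pwStep (e : CohB1.tensorMod L N ≅ Coh.structureModule X) :
    ∀ d : ℤ, CohB1.tensorMod L (pw L N d) ≅ pw L N (d + 1)
  | Int.ofNat n => AmpleLib.comm L (CohB1.tensorPow L n)
  | Int.negSucc 0 => AmpleLib.tIso (Iso.refl L) (AmpleLib.powOne N) ≪≫ e
  | Int.negSucc (n + 1) => AmpleLib.tIso (Iso.refl L) (AmpleLib.comm (CohB1.tensorPow N (n + 1)) N) ≪≫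
      (AmpleLib.assoc L N _).symm ≪≫ AmpleLib.tIso e (Iso.refl _) ≪≫ AmpleLib.unitL _

end Groth.Agent.AmpleEmb
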