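import Groth.Agent.AmpleEmb.SectionsGe
import Groth.Agent.AmpleEmb.Compose

/-!
# Ampleness on quasi-affine schemes and products with semi-ample modules
-/

set_option autoImplicit false
set_option backward.isDefEq.respectTransparency false
set_option linter.style.haveILetI false

universe u

open CategoryTheory CategoryTheory.Limits AlgebraicGeometry TopologicalSpace Opposite
open Groth.Agent.PullbackMod Groth.Agent.DCohLib Groth.Agent.ParaFLib Groth.Agent.AmpleLib

noncomputable section

namespace Groth.Agent.AmpleEmb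

variable {X : Scheme.{u}}

theorem genLocus_secHom_unit (r : Γ(X, ⊤)) :
    CohB1.genLocus (Coh.structureModule X) (secHom (Coh.structureModule X) r) = X.basicOpen r := by
  have h := genLocus_inf_eq_basicOpen (secHom (Coh.structureModule X) r) (gen_one (⊤ : X.Opens))
    (a := (show Γ(X, ⊤) from sec (secHom (Coh.structureModule X) r)))
    ((mul_one (show Γ(X, ⊤) from sec (secHom (Coh.structureModule X) r))).trans
      (ParaFLib.res_self (M := Coh.structureModule X) le_rfl _).symm)
  rw [inf_top_eq] at h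
  rw [h, sec_secHom]

theorem ampleOn_of_gen {L : X.Modules} {U : X.Opens} (hU : IsAffineOpen U) {e : Γ(L, U)} (he : Gen U e) :
    AmpleOn L U := by
  haveI : IsAffine U := hU
  obtain ⟨θ⟩ := nonempty_iso_of_gen he
  exact isAmple_of_iso θ.symm (isQuasiAffine_iff.1 (inferInstance : (U : Scheme.{u}).IsQuasiAffine))

/-- On a quasi-affine scheme every invertible module is ample. -/
theorem isAmple_of_isQuasiAffine [X.IsQuasiAffine] {L : X.Modules} (hL : PicF.IsInvertible L) :
    CohB1.IsAmple L := by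
  have hx : ∀ x : X, ∃ (r : Γ(X, ⊤)) (e : Γ(L, X.basicOpen r)), x ∈ X.basicOpen r ∧ IsAffineOpen (X.basicOpen r) ∧
      Gen (X.basicOpen r) e := fun x => by
    obtain ⟨W, e, hxW, he⟩ := exists_gen_nhd hL x
    obtain ⟨_, ⟨r, hr, rfl⟩, hxr, hle⟩ :=
      Opens.isBasis_iff_nbhd.1 (Scheme.IsQuasiAffine.isBasis_basicOpen X) (U := W) (x := x) hxW
    exact ⟨r, _, hxr, hr, he.res hle⟩
  choose r e hxr hr he using hx
  obtain ⟨c, hc⟩ := exists_isAmple_tensor (T := X) hL isInvertible_structureModule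
    (fun x => secHom (Coh.structureModule X) (r x)) (fun x => ⟨x, (genLocus_secHom_unit (r x)).ge (hxr x)⟩)
    (fun x => by
      rw [genLocus_secHom_unit]
      exact ampleOn_of_gen (hr x) (he x))
  exact isAmple_of_iso (tIso (Iso.refl L) (powUnit c) ≪≫ unitR L) (hc c le_rfl)

/-- The product of an ample module and one generated, in some powers, at every point is ample. -/
theorem isAmple_tensor_of_semiAmple {L L' : X.Modules} (h : CohB1.IsAmple L) (h' : PicF.IsInvertible L')
    (hs : ∀ x : X, ∃ (n : ℕ) (s' : Coh.structureModule X ⟶ CohB1.tensorPow L' (n + 1)), x ∈ CohB1.genLocus _ s') :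
    CohB1.IsAmple (CohB1.tensorMod L L') := by
  refine ⟨isInvertible_tensor h.1 h', h.2.1, fun x => ?_⟩
  obtain ⟨n, s, hx, ha⟩ := h.2.2 x
  obtain ⟨m, t, hx'⟩ := hs x
  obtain ⟨k, hk⟩ : ∃ k, (n + 1) * (m + 1) = k + 1 :=
    ⟨(n + 1) * (m + 1) - 1, (Nat.succ_pred_eq_of_pos (Nat.mul_pos (Nat.succ_pos n) (Nat.succ_pos m))).symm⟩
  have hk' : (m + 1) * (n + 1) = k + 1 := by rw [mul_comm, hk]
  refine ⟨k, tensorS (powS s (m + 1) ≫ (powMul L (n + 1) (m + 1) ≪≫ eqToIso (congrArg (CohB1.tensorPow L) hk)).hom)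
    (powS t (n + 1) ≫ (powMul L' (m + 1) (n + 1) ≪≫ eqToIso (congrArg (CohB1.tensorPow L') hk')).hom) ≫
    (powTensor L L' (k + 1)).symm.hom, ?_⟩
  rw [genLocus_comp_iso, genLocus_tensorS (isInvertible_tensorPow h.1 _) (isInvertible_tensorPow h' _),
    genLocus_comp_iso, genLocus_comp_iso, genLocus_powS (isInvertible_tensorPow h.1 _),
    genLocus_powS (isInvertible_tensorPow h' _), inf_comm]
  exact ⟨⟨hx', hx⟩, isAffineOpen_inf_genLocus (isInvertible_tensorPow h' _) t ha⟩

end Groth.Agent.AmpleEmb
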