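import Groth.Agent.AmpleEmb.Compose
import Groth.Agent.AmpleEmb.Misc
import Groth.Prelude.Def_MoreMor

/-!
# Relative ampleness of composites
-/

set_option autoImplicit false
set_option backward.isDefEq.respectTransparency false
set_option linter.style.haveILetI false

universe u

open CategoryTheory CategoryTheory.Limits AlgebraicGeometry TopologicalSpace Opposite
open Groth.Agent.PullbackMod Groth.Agent.DCohLib Groth.Agent.ParaFLib Groth.Agent.AmpleLib

noncomputable section

namespace Groth.Agent.AmpleEmb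

variable {X Y Z : Scheme.{u}}

theorem gen_pullMap (f : X ⟶ Y) {K : Y.Modules} (hK : PicF.IsInvertible K) {U : Y.Opens} {e : Γ(K, U)}
    (he : Gen U e) : Gen (f ⁻¹ᵁ U) (pullMap f K le_rfl e) := gen_of_germ fun y hy => by
  haveI := Groth.Agent.InvExt.isQCoh_of_isInvertible hK
  rw [← pullStalk_germ' f K y (show f y ∈ U from hy) hy le_rfl]
  exact bijective_pullStalk f y (he.bijective_germ _ _)

theorem ampleOn_tensor_of_gen {L M : X.Modules} {U : X.Opens} (hL : AmpleOn L U) {e : Γ(M, U)} (he : Gen U e) :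
    AmpleOn (CohB1.tensorMod L M) U := by
  obtain ⟨θ⟩ := nonempty_iso_of_gen he
  exact isAmple_of_iso ((restrictTensor U.ι L M ≪≫ tIso (Iso.refl _) θ ≪≫ unitR _).symm) hL

theorem eventually_isAmple_tensor_pullback (f : X ⟶ Y) {L : X.Modules} (hL : RelAmple.IsRelAmple f L) {K : Y.Modules}
    (hK : CohB1.IsAmple K) :
    ∃ N, ∀ n, N ≤ n → CohB1.IsAmple (CohB1.tensorMod L ((Scheme.Modules.pullback f).obj (CohB1.tensorPow K n))) := by
  classical
  haveI := hK.2.1
  haveI : QuasiCompact f := hL.1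
  haveI : CompactSpace X := QuasiCompact.compactSpace_of_compactSpace f
  obtain ⟨T, _, D, hD, s, e, -, -, hUa, he, -, -, -, hcov⟩ := exists_trivial_cover (𝟙 Y) hK hK.1
  have hP := isInvertible_tensorPow hK.1 D
  let Lr : ℕ → X.Modules := fun r => CohB1.tensorMod L ((Scheme.Modules.pullback f).obj (CohB1.tensorPow K r))
  have key : ∀ r : Fin D, ∃ c₀, ∀ c, c₀ ≤ c → CohB1.IsAmple
      (CohB1.tensorMod (Lr r) (CohB1.tensorPow ((Scheme.Modules.pullback f).obj (CohB1.tensorPow K D)) c)) :=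
    fun r => exists_isAmple_tensor
      (isInvertible_tensor (isInvertible_of_isRelAmple hL) (isInvertible_pullback f (isInvertible_tensorPow hK.1 _)))
      (isInvertible_pullback f hP) (fun j => pullS f (s j))
      (fun x => (hcov (f x)).imp fun j hj => (genLocus_pullS f hP (s j)).ge hj)
      (fun j => by
        rw [genLocus_pullS f hP (s j)]
        exact ampleOn_tensor_of_gen (hL.2 ⟨_, hUa j⟩)
          (gen_pullMap f (isInvertible_tensorPow hK.1 r) (gen_powLoc (he j) r)))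
  choose c₀ hc₀ using key
  refine ⟨D * Finset.univ.sup c₀, fun n hn => ?_⟩
  let r : Fin D := ⟨n % D, Nat.mod_lt _ hD⟩
  have hc : c₀ r ≤ n / D :=
    (Finset.le_sup (Finset.mem_univ _)).trans ((Nat.le_div_iff_mul_le hD).2 (by rw [mul_comm]; exact hn))
  refine isAmple_of_iso ?_ (hc₀ r (n / D) hc)
  exact assoc _ _ _ ≪≫ tIso (Iso.refl L) (tIso (Iso.refl _) (pullPow f _ _).symm ≪≫ (pullTensor f _ _).symm ≪≫
    (Scheme.Modules.pullback f).mapIso (tIso (Iso.refl _) (powMul K D (n / D)) ≪≫ (powAdd K r _).symm ≪≫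
      eqToIso (congrArg (CohB1.tensorPow K) (Nat.mod_add_div n D))))

theorem isRelAmple_morphismRestrict (f : X ⟶ Y) [QuasiCompact f] {L : X.Modules} (h : RelAmple.IsRelAmple f L)
    (U : Y.Opens) : RelAmple.IsRelAmple (f ∣_ U) (L.restrict (f ⁻¹ᵁ U).ι) := by
  refine ⟨inferInstance, fun V => ?_⟩
  have h' := ampleOn_iff_of_range (L := L) (((f ∣_ U) ⁻¹ᵁ V.1).ι ≫ (f ⁻¹ᵁ U).ι)
  rw [Scheme.Hom.opensRange_comp, Scheme.Opens.opensRange_ι, image_morphismRestrict_preimage] at h'
  exact isAmple_of_iso (restrictComp _ _ L) (h'.2 (h.2 ⟨_, V.2.image_of_isOpenImmersion U.ι⟩))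

theorem eventually_isRelAmple_comp [CompactSpace Z] (f : X ⟶ Y) (g : Y ⟶ Z) [QuasiCompact f] [QuasiCompact g]
    {L : X.Modules} {K : Y.Modules} (hL : RelAmple.IsRelAmple f L) (hK : RelAmple.IsRelAmple g K) :
    ∃ N, ∀ n, N ≤ n →
      RelAmple.IsRelAmple (f ≫ g) (CohB1.tensorMod L ((Scheme.Modules.pullback f).obj (CohB1.tensorPow K n))) := by
  classical
  choose V hV using fun z : Z => Z.isBasis_affineOpens.exists_subset_of_mem_open (Set.mem_univ z) isOpen_univ
  choose W hW using fun z : Z => (hV z).1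
  obtain ⟨T, hT⟩ := isCompact_univ.elim_finite_subcover (fun z : Z => (W z : Set Z)) (fun z => (W z).2)
    (fun z _ => Set.mem_iUnion.2 ⟨z, by rw [(hW z).2]; exact (hV z).2.1⟩)
  choose N hN using fun z : Z => eventually_isAmple_tensor_pullback (f ∣_ (g ⁻¹ᵁ W z))
    (isRelAmple_morphismRestrict f hL (g ⁻¹ᵁ W z)) (hK.2 ⟨W z, (hW z).1⟩)
  refine ⟨T.sup N, fun n hn => isRelAmple_of_locally fun z => ?_⟩
  obtain ⟨w, hwT, hzw⟩ := Set.mem_iUnion₂.1 (hT (Set.mem_univ z))
  refine ⟨W w, (hW w).1, hzw, isAmple_of_iso ?_ (hN w n ((Finset.le_sup hwT).trans hn))⟩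
  exact tIso (Iso.refl _) ((Scheme.Modules.pullback (f ∣_ (g ⁻¹ᵁ W w))).mapIso
    (restrictPow (g ⁻¹ᵁ W w).ι K n).symm ≪≫ (pullRestr f _ _ _ (morphismRestrict_ι f (g ⁻¹ᵁ W w)).symm _).symm) ≪≫
    (restrictTensor _ L _).symm

/-- A scheme with a relatively ample module over a scheme with an ample family has an ample family. -/
theorem hasAmpleFamily_of_isRelAmple (f : X ⟶ Y) (hY : MoreMor.HasAmpleFamily Y) {L : X.Modules}
    (hL : RelAmple.IsRelAmple f L) : MoreMor.HasAmpleFamily X := by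
  classical
  haveI := hY.1
  haveI : QuasiCompact f := hL.1
  haveI : CompactSpace X := QuasiCompact.compactSpace_of_compactSpace f
  choose M n s hM hn hys hya using hY.2
  have hP : ∀ y, PicF.IsInvertible (CohB1.tensorPow (M y) (n y)) := fun y => isInvertible_tensorPow (hM y) (n y)
  haveI : QuasiSeparatedSpace X :=
    quasiSeparatedSpace_of_cover (fun y => CohB1.genLocus _ (pullS f (s y)))
      (fun y => quasiSeparatedSpace_of_isAmple
        (by rw [genLocus_pullS f (hP y)]; exact hL.2 ⟨_, hya y⟩ : AmpleOn L (CohB1.genLocus _ (pullS f (s y)))))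
      (fun x => ⟨f x, (genLocus_pullS f (hP (f x)) (s (f x))).ge (hys (f x))⟩)
      fun y A hA => by
        rw [Set.inter_comm, ← Opens.coe_inf]
        exact (isAffineOpen_inf_genLocus (isInvertible_pullback f (hP y)) _ hA).isCompact
  refine ⟨inferInstance, fun x => ?_⟩
  have hU : AmpleOn L (CohB1.genLocus _ (pullS f (s (f x)))) := by
    rw [genLocus_pullS f (hP (f x))]
    exact hL.2 ⟨_, hya (f x)⟩
  obtain ⟨m, t, hxt, hta⟩ := hU.2.2 ⟨x, (genLocus_pullS f (hP (f x)) (s (f x))).ge (hys (f x))⟩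
  have hLinv := isInvertible_of_isRelAmple hL
  obtain ⟨k, hk⟩ := exists_section_genLocus (isInvertible_tensorPow hLinv (m + 1))
    (isInvertible_pullback f (hP (f x))) (pullS f (s (f x))) (t ≫ (restrictPow _ L (m + 1)).symm.hom)
  obtain ⟨Ξ, hΞ⟩ := hk k le_rfl
  have hN := isInvertible_tensor (isInvertible_tensor (isInvertible_tensorPow hLinv (m + 1))
    (isInvertible_tensorPow (isInvertible_pullback f (hP (f x))) k)) (isInvertible_pullback f (hP (f x)))
  refine ⟨_, 1, Ξ ≫ (powOne _).symm.hom, hN, le_rfl, ?_⟩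
  rw [genLocus_comp_iso Ξ (powOne _).symm, hΞ, genLocus_comp_iso]
  exact ⟨⟨⟨x, _⟩, hxt, rfl⟩, hta.image_of_isOpenImmersion _⟩

end Groth.Agent.AmpleEmb
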