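import Groth.Agent.AmpleEmb.Morph
import Mathlib.AlgebraicGeometry.ZariskisMainTheorem

/-!
# Closed immersions to projective space
-/

set_option autoImplicit false
set_option backward.isDefEq.respectTransparency false
set_option linter.style.haveILetI false

universe u

open CategoryTheory CategoryTheory.Limits AlgebraicGeometry TopologicalSpace Opposite
open Groth.Agent.ProjMap

noncomputable section

namespace Groth.Agent.AmpleEmb

variable {X : Scheme.{u}} {R : Type u} [CommRing R] (φ : R →+* Γ(X, ⊤))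
variable {n : ℕ} (F : RatioFamily X n)

/-- The ring map of the `i`-th chart. -/
def chartHom (i : Fin (n + 1)) :
    HomogeneousLocalization.Away (CohB1.polyGrading n R) (MvPolynomial.X i : MvPolynomial (Fin (n + 1)) R) →+*
      Γ(X, F.U i) :=
  letI : Algebra R Γ(X, F.U i) := (constV φ (F.U i)).toAlgebra
  evalAway (R := R) (F.t i) (MvPolynomial.X i) (by simp [F.t_self])

/-- Ratios generate on `U i`. -/
def GenAt (i : Fin (n + 1)) : Prop :=
  Function.Surjective (MvPolynomial.eval₂Hom (constV φ (F.U i)) (F.t i))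

theorem range_chartHom (i : Fin (n + 1)) :
    (chartHom φ F i).range = (MvPolynomial.eval₂Hom (constV φ (F.U i)) (F.t i)).range := by
  letI : Algebra R Γ(X, F.U i) := (constV φ (F.U i)).toAlgebra
  have hu : IsUnit (MvPolynomial.aeval (F.t i) (MvPolynomial.X i : MvPolynomial (Fin (n + 1)) R)) := by
    simp [F.t_self]
  have hv : ∀ (k : ℕ) (a : MvPolynomial (Fin (n + 1)) R) (ha : a ∈ CohB1.polyGrading n R (k • 1)),
      chartHom φ F i (HomogeneousLocalization.Away.mk _ (X_mem i) k a ha) = MvPolynomial.aeval (F.t i) a := by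
    intro k a ha
    have h := evalAway_mk (v := F.t i) (X_mem i) hu k a ha
    rwa [MvPolynomial.aeval_X, F.t_self, one_pow, mul_one] at h
  refine le_antisymm ?_ ?_
  · rintro _ ⟨x, rfl⟩
    obtain ⟨k, a, ha, rfl⟩ :=
      HomogeneousLocalization.Away.mk_surjective (𝒜 := CohB1.polyGrading n R) (X_mem (R := R) i) x
    exact ⟨a, (hv k a ha).symm⟩
  · rintro _ ⟨q, rfl⟩
    induction q using MvPolynomial.induction_on with
    | C r =>
      rw [MvPolynomial.eval₂Hom_C]
      exact ⟨_, evalAway_fromZero (F.t i) _ hu r⟩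
    | add p q hp hq =>
      rw [map_add]
      exact add_mem hp hq
    | mul_X p a hp =>
      rw [map_mul, MvPolynomial.eval₂Hom_X']
      refine mul_mem hp ⟨_, (hv 1 (MvPolynomial.X a) ?_).trans (MvPolynomial.aeval_X _ _)⟩
      simpa using X_mem (R := R) a

theorem genAt_iff (i : Fin (n + 1)) : GenAt φ F i ↔ Function.Surjective (chartHom φ F i) := by
  rw [GenAt, ← RingHom.range_eq_top, ← RingHom.range_eq_top, range_chartHom]

theorem fromSpec_toProj (i : Fin (n + 1)) :
    (F.affine i).fromSpec ≫ toProj φ F = Spec.map (CommRingCat.ofHom (chartHom φ F i)) ≫ chart i := by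
  rw [← (F.affine i).isoSpec_inv_ι, Category.assoc, ι_toProj, piece, ← (F.affine i).isoSpec_hom]
  exact Iso.inv_hom_id_assoc _ _

theorem isPullback_chart (i : Fin (n + 1)) :
    IsPullback (Spec.map (CommRingCat.ofHom (chartHom φ F i))) (F.affine i).fromSpec (chart i) (toProj φ F) := by
  refine IsOpenImmersion.isPullback _ _ _ _ (fromSpec_toProj φ F i) ?_
  rw [(F.affine i).opensRange_fromSpec, show (chart (R := R) i).opensRange = _ from
    Proj.opensRange_awayι (CohB1.polyGrading n R) (MvPolynomial.X i) (X_mem i) one_pos]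
  exact preimage_basicOpen φ F i

theorem isClosedImmersion_toProj (f : X ⟶ Spec (CommRingCat.of R))
    (hf : (Scheme.ΓSpecIso (CommRingCat.of R)).inv ≫ f.appTop = CommRingCat.ofHom φ) [IsProper f]
    (G : Set (Fin (n + 1))) (hG : ∀ i ∈ G, GenAt φ F i) (hcov : ∀ x : X, ∃ i ∈ G, x ∈ F.U i) :
    IsClosedImmersion (toProj φ F) := by
  haveI : IsProper (toProj φ F) := by
    have h : IsProper (toProj φ F ≫ CohB1.ProjSpace.toSpec n R) := by
      rw [toProj_toSpec φ F f hf]
      infer_instance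
    exact IsProper.of_comp _ (CohB1.ProjSpace.toSpec n R)
  refine (IsClosedImmersion.iff_isProper_and_mono _).2 ⟨inferInstance, ⟨fun {T} a b hab => ?_⟩⟩
  have hpre : ∀ i, a ⁻¹ᵁ F.U i = b ⁻¹ᵁ F.U i := fun i => by
    rw [← preimage_basicOpen φ F i, ← Scheme.Hom.comp_preimage, ← Scheme.Hom.comp_preimage, hab]
  refine (T.openCoverOfIsOpenCover (fun i : G => a ⁻¹ᵁ F.U i.1) (eq_top_iff.2 fun t _ => ?_)).hom_ext _ _ ?_
  · obtain ⟨i, hiG, hi⟩ := hcov (a t)
    exact Opens.mem_iSup.2 ⟨⟨i, hiG⟩, hi⟩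
  rintro ⟨i, hiG⟩
  show (a ⁻¹ᵁ F.U i).ι ≫ a = (a ⁻¹ᵁ F.U i).ι ≫ b
  have hmem : ∀ (c : T ⟶ X), c ⁻¹ᵁ F.U i = a ⁻¹ᵁ F.U i →
      Set.range ((a ⁻¹ᵁ F.U i).ι ≫ c) ⊆ Set.range (F.affine i).fromSpec := by
    rintro c hc _ ⟨w, rfl⟩
    rw [(F.affine i).range_fromSpec]
    exact hc.ge w.2
  let la := IsOpenImmersion.lift (F.affine i).fromSpec _ (hmem a rfl)
  let lb := IsOpenImmersion.lift (F.affine i).fromSpec _ (hmem b (hpre i).symm)
  haveI := IsClosedImmersion.spec_of_surjective (CommRingCat.ofHom (chartHom φ F i))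
    ((genAt_iff φ F i).1 (hG i hiG))
  have hl : la = lb := by
    rw [← cancel_mono (Spec.map (CommRingCat.ofHom (chartHom φ F i)) ≫ chart i), ← fromSpec_toProj,
      IsOpenImmersion.lift_fac_assoc, IsOpenImmersion.lift_fac_assoc, Category.assoc, Category.assoc, hab]
  rw [← IsOpenImmersion.lift_fac (F.affine i).fromSpec _ (hmem a rfl),
    ← IsOpenImmersion.lift_fac (F.affine i).fromSpec _ (hmem b (hpre i).symm)]
  exact congrArg (· ≫ _) hl

theorem genAt_of_isClosedImmersion [IsClosedImmersion (toProj φ F)] (i : Fin (n + 1)) : GenAt φ F i := by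
  rw [genAt_iff]
  haveI : IsClosedImmersion (Spec.map (CommRingCat.ofHom (chartHom φ F i))) :=
    MorphismProperty.of_isPullback (isPullback_chart φ F i).flip inferInstance
  have h := (Spec.map (CommRingCat.ofHom (chartHom φ F i))).app_surjective ⊤ (isAffineOpen_top _)
  intro y
  obtain ⟨z, hz⟩ := h ((Scheme.ΓSpecIso (CommRingCat.of Γ(X, F.U i))).inv y)
  refine ⟨(Scheme.ΓSpecIso _).hom z, ?_⟩
  have hnat := congrArg (fun g => g z) (Scheme.ΓSpecIso_naturality (CommRingCat.ofHom (chartHom φ F i)))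
  simp only [CommRingCat.comp_apply] at hnat
  refine hnat.symm.trans ?_
  exact (congrArg (Scheme.ΓSpecIso (CommRingCat.of Γ(X, F.U i))).hom hz).trans
    ((Scheme.ΓSpecIso (CommRingCat.of Γ(X, F.U i))).inv_hom_id_apply y)

/-- If the ratios generate on a subfamily covering `X`, they generate everywhere. -/
theorem genAt_all (f : X ⟶ Spec (CommRingCat.of R))
    (hf : (Scheme.ΓSpecIso (CommRingCat.of R)).inv ≫ f.appTop = CommRingCat.ofHom φ) [IsProper f]
    (G : Set (Fin (n + 1))) (hG : ∀ i ∈ G, GenAt φ F i) (hcov : ∀ x : X, ∃ i ∈ G, x ∈ F.U i)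
    (i : Fin (n + 1)) : GenAt φ F i :=
  haveI := isClosedImmersion_toProj φ F f hf G hG hcov
  genAt_of_isClosedImmersion φ F i

end Groth.Agent.AmpleEmb
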