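import Groth.Agent.AmpleEmb.TwistOne
import Groth.Agent.AmpleEmb.Closed
import Groth.Agent.ParaFLib.Glue

/-!
# The inverse image of `O(1)` under the morphism given by sections
-/

set_option autoImplicit false
set_option backward.isDefEq.respectTransparency false
set_option linter.style.haveILetI false

universe u

open CategoryTheory CategoryTheory.Limits AlgebraicGeometry TopologicalSpace Opposite
open Groth.Agent.PullbackMod Groth.Agent.DCohLib Groth.Agent.ParaFLib Groth.Agent.AmpleLib

noncomputable section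

namespace Groth.Agent.AmpleEmb

variable {X : Scheme.{u}} {R : Type u} [CommRing R] (φ : R →+* Γ(X, ⊤)) {n : ℕ} (F : RatioFamily X n)

theorem le_preimage_stdOpen (i : Fin (n + 1)) : F.U i ≤ toProj φ F ⁻¹ᵁ stdOpen n R i :=
  (preimage_basicOpen φ F i).ge

theorem chartHom_mk (i a : Fin (n + 1)) (h : (MvPolynomial.X a : MvPolynomial (Fin (n + 1)) R) ∈
    CohB1.polyGrading n R (1 • 1)) :
    chartHom φ F i (HomogeneousLocalization.Away.mk _ (ProjMap.X_mem i) 1 (MvPolynomial.X a) h) = F.t i a := by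
  letI : Algebra R Γ(X, F.U i) := (constV φ (F.U i)).toAlgebra
  have hu : IsUnit (MvPolynomial.aeval (F.t i) (MvPolynomial.X i : MvPolynomial (Fin (n + 1)) R)) := by
    simp [F.t_self]
  have h := ProjMap.evalAway_mk (v := F.t i) (ProjMap.X_mem i) hu 1 (MvPolynomial.X a) h
  rwa [MvPolynomial.aeval_X, MvPolynomial.aeval_X, F.t_self, one_pow, mul_one] at h

theorem toProj_appLE_ratio (i a : Fin (n + 1)) :
    (toProj φ F).appLE (stdOpen n R i) (F.U i) (le_preimage_stdOpen φ F i) (coordRatio n R i a) = F.t i a := by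
  have h : (MvPolynomial.X a : MvPolynomial (Fin (n + 1)) R) ∈ CohB1.polyGrading n R (1 • 1) := by
    simpa using ProjMap.X_mem (R := R) a
  rw [show coordRatio n R i a = Proj.awayToSection (CohB1.polyGrading n R) (MvPolynomial.X i)
      (HomogeneousLocalization.Away.mk _ (ProjMap.X_mem i) 1 (MvPolynomial.X a) h) from
      (ProjCoh.awayToSection_ratio _ (coordForm n R i) (coordForm n R a)).symm, ← chartHom_mk φ F i a h]
  let B : Proj (CohB1.polyGrading n R) ⟶ Proj (CohB1.polyGrading n R) := 𝟙 _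
  let e := Proj.basicOpenIsoSpec (CohB1.polyGrading n R) (MvPolynomial.X i) (ProjMap.X_mem i) one_pos
  have h1 : (toProj φ F).resLE (stdOpen n R i) (F.U i) (le_preimage_stdOpen φ F i) =
      (F.U i).toSpecΓ ≫ Spec.map (CommRingCat.ofHom (chartHom φ F i)) ≫ e.inv := by
    rw [← cancel_mono (stdOpen n R i).ι, Scheme.Hom.resLE_comp_ι, ι_toProj, Category.assoc, Category.assoc]
    rfl
  have h2 : (F.U i).toSpecΓ ≫ Spec.map (Proj.awayToSection (CohB1.polyGrading n R) (MvPolynomial.X i) ≫
        (toProj φ F).appLE (stdOpen n R i) (F.U i) (le_preimage_stdOpen φ F i)) =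
      (F.U i).toSpecΓ ≫ Spec.map (CommRingCat.ofHom (chartHom φ F i)) := by
    rw [Spec.map_comp, Scheme.Opens.toSpecΓ_SpecMap_appLE_assoc, h1, Category.assoc, Category.assoc]
    refine congrArg ((F.U i).toSpecΓ ≫ ·) ((congrArg (Spec.map (CommRingCat.ofHom (chartHom φ F i)) ≫ ·) ?_).trans (Category.comp_id _))
    exact e.inv_hom_id
  haveI : IsIso (F.U i).toSpecΓ := (F.affine i).isoSpec.isIso_hom
  rw [cancel_epi] at h2
  exact congrArg (fun g => g (HomogeneousLocalization.Away.mk _ (ProjMap.X_mem i) 1 (MvPolynomial.X a) h))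
    (Spec.map_injective h2)

theorem coord_pullback_ratio (g : X ⟶ CohB1.ProjSpace n R) (i a : Fin (n + 1)) (x : X)
    (hx : g x ∈ stdOpen n R i) :
    ((Scheme.Modules.pullback g).obj (Twist.twistProjSpace n R 1)).presheaf.germ ⊤ x trivial
        (sec (pullS g (coordSec n R a))) =
      X.presheaf.germ (g ⁻¹ᵁ stdOpen n R i) x hx (g.app (stdOpen n R i) (coordRatio n R i a)) •
        ((Scheme.Modules.pullback g).obj (Twist.twistProjSpace n R 1)).presheaf.germ ⊤ x trivial
          (sec (pullS g (coordSec n R i))) := by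
  let T := (ProjCoh.twistMulData (CohB1.polyGrading n R) (coordForm n R) (iSup_stdOpen n R)).pullback g
  have e : ∀ b, ((Scheme.Modules.pullback g).obj (Twist.twistProjSpace n R 1)).presheaf.germ ⊤ x trivial
      (sec (pullS g (coordSec n R b))) = stalkLin (T.μ b 1) x
        (stalkLin ((pullO g).inv ≫ (Scheme.Modules.pullback g).map (ProjCoh.unitToTwist (CohB1.polyGrading n R))) x
          (oneG x)) := fun b => by
    refine Eq.trans ?_ (congrArg (fun l => l (oneG x)) (stalkLin_comp _ _ x))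
    refine (stalkLin_germ (pullS g (coordSec n R b)) (U := ⊤) x trivial _).symm.trans ?_
    show stalkLin (pullS g (coordSec n R b)) x (oneG x) = _
    congr 2
    rw [pullS, coordSec, Functor.map_comp]
    rfl
  rw [e, e]
  exact T.ratio i a 1 x hx _

theorem nonempty_iso_of_ratios {P P' : X.Modules} (s : Fin (n + 1) → (Coh.structureModule X ⟶ P))
    (s' : Fin (n + 1) → (Coh.structureModule X ⟶ P'))
    (hgen : ∀ i, Gen (F.U i) (resT (sec (s i)) (F.U i))) (hgen' : ∀ i, Gen (F.U i) (resT (sec (s' i)) (F.U i)))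
    (ht : ∀ i a, F.t i a • resT (sec (s i)) (F.U i) = resT (sec (s a)) (F.U i))
    (ht' : ∀ i a, F.t i a • resT (sec (s' i)) (F.U i) = resT (sec (s' a)) (F.U i)) : Nonempty (P ≅ P') := by
  refine nonempty_iso_of_bases (U := fun i : ULift.{u} (Fin (n + 1)) => F.U i.down)
    (s := fun i => resT (sec (s i.down)) (F.U i.down)) (t := fun i => resT (sec (s' i.down)) (F.U i.down))
    ?_ (fun i => hgen i.down) (fun i => hgen' i.down)
    (fun i j => X.presheaf.map (homOfLE (inf_le_right : F.U i.down ⊓ F.U j.down ≤ F.U j.down)).op (F.t j.down i.down))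
    ?_ ?_
  · exact (eq_top_iff.2 fun x _ => by
      obtain ⟨i, hi⟩ := Opens.mem_iSup.1 (F.cover.ge (Opens.mem_top x))
      exact Opens.mem_iSup.2 ⟨⟨i⟩, hi⟩)
  · rintro ⟨i⟩ ⟨j⟩
    have h := congrArg (P.presheaf.map (homOfLE (inf_le_right : F.U i ⊓ F.U j ≤ F.U j)).op) (ht j i)
    rw [P.map_smul] at h
    simp only [resT, res_res] at h ⊢
    exact h.symm
  · rintro ⟨i⟩ ⟨j⟩
    have h := congrArg (P'.presheaf.map (homOfLE (inf_le_right : F.U i ⊓ F.U j ≤ F.U j)).op) (ht' j i)
    rw [P'.map_smul] at h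
    simp only [resT, res_res] at h ⊢
    exact h.symm

theorem gen_resT_of_mem {P' : X.Modules} (hP : PicF.IsInvertible P') (s : Coh.structureModule X ⟶ P')
    {U : X.Opens} (h : CohB1.genLocus P' s = U) : Gen U (resT (sec s) U) := gen_of_germ fun y hy => by
  rw [resT, TopCat.Presheaf.germ_res_apply]
  exact (mem_genLocus_iff hP).1 (h.ge hy)

theorem smul_resT_eq {P' : X.Modules} (s s' : Coh.structureModule X ⟶ P') {U V : X.Opens} (hUV : U ≤ V)
    (r : Γ(X, V)) (c : Γ(X, U)) (hc : X.presheaf.map (homOfLE hUV).op r = c)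
    (h : ∀ x (hx : x ∈ U), P'.presheaf.germ ⊤ x trivial (sec s') =
      X.presheaf.germ V x (hUV hx) r • P'.presheaf.germ ⊤ x trivial (sec s)) :
    c • resT (sec s) U = resT (sec s') U := by
  refine TopCat.Presheaf.section_ext (⟨P'.presheaf, P'.isSheaf⟩ : TopCat.Sheaf Ab X) U _ _ fun x hx => ?_
  show P'.presheaf.germ U x hx _ = P'.presheaf.germ U x hx _
  rw [germ_smul', resT, resT, TopCat.Presheaf.germ_res_apply, TopCat.Presheaf.germ_res_apply, ← hc,
    TopCat.Presheaf.germ_res_apply]
  exact (h x hx).symm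

/-- The module of the sections is the inverse image of `O(1)`. -/
theorem nonempty_iso_pullback_twistOne {P : X.Modules} (s : Fin (n + 1) → (Coh.structureModule X ⟶ P))
    (hgen : ∀ i, Gen (F.U i) (resT (sec (s i)) (F.U i)))
    (ht : ∀ i a, F.t i a • resT (sec (s i)) (F.U i) = resT (sec (s a)) (F.U i)) :
    Nonempty (P ≅ (Scheme.Modules.pullback (toProj φ F)).obj (Twist.twistProjSpace n R 1)) :=
  nonempty_iso_of_ratios F s (fun i => pullS (toProj φ F) (coordSec n R i)) hgen
    (fun i => gen_resT_of_mem (isInvertible_pullback _ (isInvertible_twistOne n R)) _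
      ((genLocus_pullS _ (isInvertible_twistOne n R) _).trans
        ((congrArg (toProj φ F ⁻¹ᵁ ·) (genLocus_coordSec n R i)).trans (preimage_basicOpen φ F i))))
    ht (fun i a => smul_resT_eq _ _ (le_preimage_stdOpen φ F i) _ _ (toProj_appLE_ratio φ F i a)
      fun x hx => coord_pullback_ratio (toProj φ F) i a x (le_preimage_stdOpen φ F i hx))

end Groth.Agent.AmpleEmb
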