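import Groth.Agent.AmpleEmb.SectionsGe

/-!
# Finite sets lie in affine loci of sections of powers of an ample module
-/

set_option autoImplicit false
set_option backward.isDefEq.respectTransparency false
set_option linter.style.haveILetI false

universe u

open CategoryTheory CategoryTheory.Limits AlgebraicGeometry TopologicalSpace Opposite
open Groth.Agent.PullbackMod Groth.Agent.DCohLib Groth.Agent.ParaFLib Groth.Agent.AmpleLib

noncomputable section

namespace Groth.Agent.AmpleEmb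

variable {X : Scheme.{u}}

theorem isAffineOpen_genLocus_sum {P : X.Modules} (hP : PicF.IsInvertible P) {ι : Type u} [Fintype ι]
    (t : ι → (Coh.structureModule X ⟶ P)) (ha : ∀ z, IsAffineOpen (CohB1.genLocus P (t z))) :
    IsAffineOpen (CohB1.genLocus P (secHom P (∑ z, sec (t z)))) ∧
      CohB1.genLocus P (secHom P (∑ z, sec (t z))) ≤ ⨆ z, CohB1.genLocus P (t z) := by
  classical
  set s := secHom P (∑ z, sec (t z))
  set V := CohB1.genLocus P s
  have he : Gen V (resT (sec s) V) := gen_genLocus hP s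
  choose g hg using fun z => (he V le_rfl).2 (resT (sec (t z)) V)
  simp only [ParaFLib.res_self] at hg
  have hb : ∀ z, X.basicOpen (g z) = V ⊓ CohB1.genLocus P (t z) := fun z => by
    rw [inf_comm]
    exact (genLocus_inf_eq_basicOpen (t z) he (hg z)).symm
  have hsum : ∑ z, g z = 1 := by
    refine (he V le_rfl).1 ?_
    simp only [ParaFLib.res_self]
    rw [Finset.sum_smul, one_smul, Finset.sum_congr rfl fun z _ => hg z]
    simp only [resT, s, sec_secHom, map_sum]
  have hspan : Ideal.span (Set.range g) = ⊤ := by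
    rw [Ideal.eq_top_iff_one, ← hsum]
    exact sum_mem fun z _ => Ideal.subset_span ⟨z, rfl⟩
  refine ⟨isAffineOpen_of_isAffineOpen_basicOpen V (Set.range g) hspan ?_, fun x hx => ?_⟩
  · rintro _ ⟨z, rfl⟩
    rw [hb, inf_comm]
    have := isAffineOpen_inf_genLocus hP s (ha z)
    rwa [inf_comm] at this
  · have hx' : x ∈ ⨆ z, X.basicOpen (g z) := by
      by_contra hn
      have h0 : ∀ z, ¬ IsUnit (X.presheaf.germ V x hx (g z)) := fun z hz =>
        hn (Opens.mem_iSup.2 ⟨z, (X.mem_basicOpen (g z) x hx).2 hz⟩)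
      have hm : ∀ z, X.presheaf.germ V x hx (g z) ∈ IsLocalRing.maximalIdeal (X.presheaf.stalk x) := h0
      have h1 := Ideal.sum_mem _ (t := Finset.univ) fun z _ => hm z
      rw [← map_sum, hsum, map_one] at h1
      exact (Ideal.ne_top_iff_one _).1 (IsLocalRing.maximalIdeal.isMaximal _).ne_top h1
    obtain ⟨z, hz⟩ := Opens.mem_iSup.1 hx'
    exact Opens.mem_iSup.2 ⟨z, ((hb z).le hz).2⟩

theorem mem_genLocus_sum {P : X.Modules} (hP : PicF.IsInvertible P) {ι : Type u} [Fintype ι]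
    (t : ι → (Coh.structureModule X ⟶ P)) {x : X} {z : ι} (hz : x ∈ CohB1.genLocus P (t z))
    (hne : ∀ w, w ≠ z → x ∉ CohB1.genLocus P (t w)) :
    x ∈ CohB1.genLocus P (secHom P (∑ w, sec (t w))) := by
  classical
  obtain ⟨e, he⟩ := exists_stalk_gen hP x
  have hcoef : ∀ w, ∃ c : X.presheaf.stalk x, c • e = P.presheaf.germ ⊤ x trivial (sec (t w)) := fun w => he.2 _
  choose c hc using hcoef
  have hu : ∀ w, x ∈ CohB1.genLocus P (t w) ↔ IsUnit (c w) := fun w => by
    rw [mem_genLocus_iff hP, ← hc, bijective_smul_iff he]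
  rw [mem_genLocus_iff hP, sec_secHom, map_sum, Finset.sum_congr rfl fun w _ => (hc w).symm, ← Finset.sum_smul,
    bijective_smul_iff he, ← Finset.add_sum_erase _ _ (Finset.mem_univ z)]
  by_contra hn
  have h1 : ∑ w ∈ Finset.univ.erase z, c w ∈ IsLocalRing.maximalIdeal (X.presheaf.stalk x) :=
    Ideal.sum_mem _ fun w hw => fun h => hne w (Finset.ne_of_mem_erase hw) ((hu w).2 h)
  have h2 : c z + ∑ w ∈ Finset.univ.erase z, c w ∈ IsLocalRing.maximalIdeal (X.presheaf.stalk x) := hn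
  have h3 := sub_mem h2 h1
  rw [add_sub_cancel_right] at h3
  exact h3 ((hu z).1 hz)

/-- A finite set in an open lies in an affine locus inside it. -/
theorem exists_genLocus_finite {L : X.Modules} (h : CohB1.IsAmple L) {Z : Set X} (hZ : Z.Finite) {U : X.Opens}
    (hZU : Z ⊆ U) :
    ∃ (n : ℕ) (s : Coh.structureModule X ⟶ CohB1.tensorPow L (n + 1)),
      Z ⊆ CohB1.genLocus _ s ∧ (CohB1.genLocus _ s : Set X) ⊆ U ∧ IsAffineOpen (CohB1.genLocus _ s) := by
  classical
  let Z₀ : Set X := {z ∈ Z | ∀ w ∈ Z, z ⤳ w → w = z}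
  have hcov : ∀ z ∈ Z, ∃ w ∈ Z₀, z ⤳ w := fun z hz => by
    letI : Preorder X := specializationPreorder X
    obtain ⟨w, hzw, hw⟩ := (hZ.subset (Set.sep_subset Z (fun w => z ⤳ w))).exists_minimal ⟨z, hz, specializes_rfl⟩
    refine ⟨w, ⟨hzw.1, fun v hv hwv => ?_⟩, hzw.2⟩
    have := hw ⟨hv, hzw.2.trans hwv⟩ hwv
    exact (inseparable_iff_specializes_and.2 ⟨hwv, this⟩).eq.symm
  haveI : Fintype Z₀ := (hZ.subset (Set.sep_subset _ _)).fintype
  have hx : ∀ z : Z₀, ∃ (m : ℕ) (σ : Coh.structureModule X ⟶ CohB1.tensorPow L (m + 1)),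
      z.1 ∈ CohB1.genLocus _ σ ∧ CohB1.genLocus _ σ ≤ U ∧ (∀ w : Z₀, w ≠ z → w.1 ∉ CohB1.genLocus _ σ) ∧
        IsAffineOpen (CohB1.genLocus _ σ) := fun z => by
    let C : Set X := ⋃ w ∈ ({z}ᶜ : Set Z₀), closure {w.1}
    have hC : IsClosed C := (Set.toFinite _).isClosed_biUnion fun _ _ => isClosed_closure
    have hzC : z.1 ∉ C := fun hz => by
      obtain ⟨w, hw, hzw⟩ := Set.mem_iUnion₂.1 hz
      exact hw (Subtype.ext (w.2.2 z.1 z.2.1 (specializes_iff_mem_closure.2 hzw)).symm)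
    obtain ⟨m, σ, h1, h2, h3⟩ := exists_small_genLocus h (U := U ⊓ ⟨Cᶜ, hC.isOpen_compl⟩) ⟨hZU z.2.1, hzC⟩
    exact ⟨m, σ, h1, h2.trans inf_le_left, fun w hw hwσ => (h2 hwσ).2 (Set.mem_iUnion₂.2 ⟨w, hw, subset_closure rfl⟩), h3⟩
  choose m σ hmem hle hne haff using hx
  obtain ⟨N, hN⟩ : ∃ N, ∏ z : Z₀, (m z + 1) = N + 1 :=
    Nat.exists_eq_succ_of_ne_zero (Finset.prod_pos fun z _ => Nat.succ_pos _).ne'
  choose t ht using fun z => exists_raise h.1 (D := N + 1) N.succ_pos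
    (by rw [← hN]; exact Finset.dvd_prod_of_mem (fun z => m z + 1) (Finset.mem_univ z)) (σ z)
  have hP := isInvertible_tensorPow h.1 (N + 1)
  obtain ⟨hA, hsub⟩ := isAffineOpen_genLocus_sum hP t fun z => (ht z) ▸ haff z
  refine ⟨N, secHom _ (∑ z, sec (t z)), fun z hz => ?_, fun x hx => ?_, hA⟩
  · obtain ⟨w, hw, hzw⟩ := hcov z hz
    refine hzw.mem_open (Opens.isOpen _) (mem_genLocus_sum hP t (z := ⟨w, hw⟩) ?_ fun v hv => ?_)
    · rw [ht]
      exact hmem _
    · rw [ht]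
      exact fun h' => hne v ⟨w, hw⟩ (Ne.symm hv) h'
  · obtain ⟨z, hz⟩ := Opens.mem_iSup.1 (hsub hx)
    exact hle z ((ht z).le hz)

end Groth.Agent.AmpleEmb
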