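import Groth.Agent.AmpleEmb.Serre
import Groth.Agent.AmpleLib.Rel
import Groth.Agent.RpushLib.Sections
import Groth.Agent.RpushLib.Vanish
import Groth.Agent.QCohLib.FPSections
import Groth.Agent.DCohLib.Adjoint
import Groth.Agent.PullbackMod.Props
import Groth.Agent.RpushLib.ToAb
import Groth.Agent.RpushLib.Closed
import Groth.Agent.CurveLib.SerreAmple
import Groth.Agent.S2250

/-!
# Vanishing of higher direct images of large relatively ample twists
-/

set_option autoImplicit false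
set_option backward.isDefEq.respectTransparency false
set_option linter.style.haveILetI false

universe u

open CategoryTheory CategoryTheory.Limits AlgebraicGeometry TopologicalSpace Opposite
open Groth.Agent.CohBase

noncomputable section

namespace Groth.Agent.AmpleEmb

variable {X S : Scheme.{u}} (f : X ⟶ S)

/-- Vanishing of cohomology over an affine open of the base gives vanishing over its basic opens. -/
theorem subsingleton_HU_preimage_basicOpen [QuasiCompact f] [QuasiSeparated f] (N : X.Modules) [Coh.IsQCoh N]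
    {V : S.Opens} (hV : IsAffineOpen V) (p : ℕ)
    (h : Subsingleton (Coh.HH (f ⁻¹ᵁ V).toScheme (N.restrict (f ⁻¹ᵁ V).ι) (p + 1))) (g : Γ(S, V)) :
    Subsingleton (HU (f ⁻¹ᵁ S.basicOpen g) (Coh.toAb N) (p + 1)) := by
  haveI : HasInjectiveResolutions X.Modules := inferInstance
  obtain ⟨e, -⟩ := RpushLib.exists_sections_equiv (M := N) f (p + 1) hV
  haveI := h
  haveI : Subsingleton Γ((Coh.Rpush f (p + 1)).obj N, V) := e.toEquiv.subsingleton
  haveI : Coh.IsQCoh ((Coh.Rpush f (p + 1)).obj N) := RpushLib.isQCoh_rpush f (M := N) (p + 1)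
  letI := Module.compHom Γ((Coh.Rpush f (p + 1)).obj N, S.basicOpen g)
      (S.presheaf.map (homOfLE (S.basicOpen_le g)).op).hom
  obtain ⟨r, hr⟩ := QCohLib.exists_isLocalizedModule_res ((Coh.Rpush f (p + 1)).obj N) hV g
  haveI : Subsingleton Γ((Coh.Rpush f (p + 1)).obj N, S.basicOpen g) := by
    refine ⟨fun a b => ?_⟩
    have hz : ∀ x, x = (0 : Γ((Coh.Rpush f (p + 1)).obj N, S.basicOpen g)) := fun x => by
      obtain ⟨⟨m, s⟩, hms⟩ := IsLocalizedModule.surj (Submonoid.powers g) r x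
      have hm : m = 0 := Subsingleton.elim _ _
      have hs0 : s • x = s • (0 : Γ((Coh.Rpush f (p + 1)).obj N, S.basicOpen g)) := by
        rw [hms, hm, map_zero, smul_zero]
      exact (Module.End.isUnit_iff _).mp (IsLocalizedModule.map_units r s) |>.1 hs0
    rw [hz a, hz b]
  obtain ⟨i⟩ := RpushLib.nonempty_sections (M := N) f p (hV.basicOpen g)
  exact i.symm.toEquiv.subsingleton

/-- `R^p f_* (M ⊗ L^n)` vanishes for large `n` when `L` is relatively ample. -/
theorem exists_isZero_rpushAb_tensorPow [IsProper f] [IsNoetherian S] {L : X.Modules} (hL : PicF.IsInvertible L)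
    (ha : ∀ W : S.Opens, IsAffineOpen W → CohB1.IsAmple (L.restrict (f ⁻¹ᵁ W).ι))
    {M : X.Modules} (hM : Coh.IsCoh M) :
    ∃ n₀ : ℕ, ∀ n : ℕ, n₀ ≤ n → ∀ p : ℕ, 0 < p →
      IsZero ((Coh.RpushAb f p).obj (Coh.toAb (CohB1.tensorMod M (CohB1.tensorPow L n)))) := by
  classical
  haveI : IsLocallyNoetherian X := LocallyOfFiniteType.isLocallyNoetherian f
  obtain ⟨s, hs, hseq⟩ := isCompact_iff_finite_and_eq_biUnion_affineOpens.mp
    (show IsCompact ((⊤ : S.Opens) : Set S) from isCompact_univ)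
  have key : ∀ V : S.affineOpens, ∃ d : ℕ, ∀ n : ℕ, d ≤ n → ∀ (g : Γ(S, V.1)) (p : ℕ),
      Subsingleton (HU (f ⁻¹ᵁ S.basicOpen g) (Coh.toAb (CohB1.tensorMod M (CohB1.tensorPow L n))) (p + 1)) := by
    intro V
    let U := f ⁻¹ᵁ V.1
    haveI : IsNoetherianRing Γ(S, V.1) := IsLocallyNoetherian.component_noetherian V
    let F : U.toScheme ⟶ Spec Γ(S, V.1) := f ∣_ V.1 ≫ V.2.isoSpec.hom
    haveI : IsProper F := inferInstance
    obtain ⟨d, hd⟩ := serre_vanishing (R := Γ(S, V.1)) F (ha V.1 V.2) (M := M.restrict U.ι)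
      (ProjCoh.isCoh_of_iso (AmpleLib.restrictIso U.ι M).symm (PullbackMod.isCoh_pullback _ _ hM))
    refine ⟨d, fun n hn g p => ?_⟩
    have hN : Coh.IsCoh (CohB1.tensorMod M (CohB1.tensorPow L n)) :=
      CurveLib.isCoh_tmod hM (CurveLib.isCoh_of_isInvertible (AmpleLib.isInvertible_tensorPow hL n))
    haveI := hN.1
    refine subsingleton_HU_preimage_basicOpen f _ V.2 p ?_ g
    exact CurveLib.subsingleton_HH_iso (AmpleLib.restrictTensor U.ι M _ ≪≫
      AmpleLib.tIso (Iso.refl _) (AmpleLib.restrictPow U.ι L n)).symm (p + 1) (hd n hn (p + 1) p.succ_pos)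
  choose d hd using key
  refine ⟨hs.toFinset.sup d, fun n hn p hp => ?_⟩
  obtain ⟨q, rfl⟩ : ∃ q, p = q + 1 := ⟨p - 1, by omega⟩
  refine RpushLib.isZero_rightDerived_at f.base (B := fun U => ∃ V ∈ s, ∃ g : Γ(S, V.1), U = S.basicOpen g)
    (fun W y hy => ?_) (Coh.toAb (CohB1.tensorMod M (CohB1.tensorPow L n))) q ?_
  · obtain ⟨V, hV, hyV⟩ : ∃ V ∈ s, y ∈ (V : S.Opens) := by
      have hy' : y ∈ (⊤ : S.Opens) := trivial
      rw [hseq] at hy'
      simpa [Opens.mem_iSup] using hy'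
    obtain ⟨g, hgW, hyg⟩ := V.2.exists_basicOpen_le (V := W) ⟨y, hy⟩ hyV
    exact ⟨S.basicOpen g, ⟨V, hV, g, rfl⟩, hyg, hgW⟩
  · rintro _ ⟨V, hV, g, rfl⟩
    exact hd V n ((Finset.le_sup (f := d) (hs.mem_toFinset.mpr hV)).trans hn) g q

/-- If `R^p f_*` vanishes then so does cohomology over affine opens of the base. -/
theorem subsingleton_HH_of_isZero_rpush [QuasiCompact f] [QuasiSeparated f] [HasInjectiveResolutions X.Modules]
    (Q : X.Modules) [Coh.IsQCoh Q] {W : S.Opens} (hW : IsAffineOpen W) (p : ℕ)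
    (hz : IsZero ((Coh.Rpush f p).obj Q)) :
    Subsingleton (Coh.HH (f ⁻¹ᵁ W).toScheme (Q.restrict (f ⁻¹ᵁ W).ι) p) := by
  obtain ⟨E, -⟩ := RpushLib.exists_sections_equiv (M := Q) f p hW
  have h1 : IsZero (((Coh.Rpush f p).obj Q).presheaf.obj (op W)) :=
    ((Scheme.Modules.toPresheaf S).map_isZero hz).obj _
  haveI : Subsingleton Γ((Coh.Rpush f p).obj Q, W) := AddCommGrpCat.subsingleton_of_isZero h1
  exact E.symm.toEquiv.subsingleton

/-- Vanishing of `R^p f_* (J ⊗ P)` gives vanishing of cohomology over affines. -/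
theorem subsingleton_HH_tensor_restrict [IsLocallyNoetherian X] [QuasiCompact f] [QuasiSeparated f]
    [HasInjectiveResolutions X.Modules] {W : S.Opens} (hW : IsAffineOpen W) (J P : X.Modules)
    (hJ : Coh.IsCoh J) (hP : Coh.IsCoh P) {J' P' : (f ⁻¹ᵁ W).toScheme.Modules}
    (e : J.restrict (f ⁻¹ᵁ W).ι ≅ J') (e' : P.restrict (f ⁻¹ᵁ W).ι ≅ P') (p : ℕ)
    (hz : IsZero ((Coh.Rpush f p).obj (CohB1.tensorMod J P))) :
    Subsingleton (Coh.HH (f ⁻¹ᵁ W).toScheme (CohB1.tensorMod J' P') p) := by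
  have hq : Coh.IsCoh (CohB1.tensorMod J P) := CurveLib.isCoh_tmod hJ hP
  haveI := hq.1
  exact CurveLib.subsingleton_HH_iso ((AmpleLib.restrictTensor _ J P) ≪≫ AmpleLib.tIso e e') p
    (subsingleton_HH_of_isZero_rpush f (CohB1.tensorMod J P) hW p hz)

/-- Vanishing of `R^1 f_*` on large twists of coherent ideals gives ampleness over affine opens. -/
theorem isAmple_restrict_of_rpush_one [IsProper f] [IsNoetherian S] [HasInjectiveResolutions X.Modules]
    {L : X.Modules} (hL : PicF.IsInvertible L)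
    (h : ∀ (J : X.Modules) (ι : J ⟶ Coh.structureModule X), Mono ι → Coh.IsCoh J →
      ∃ N : ℕ, ∀ n : ℕ, N ≤ n → IsZero ((Coh.Rpush f 1).obj (CohB1.tensorMod J (CohB1.tensorPow L n))))
    {W : S.Opens} (hW : IsAffineOpen W) : CohB1.IsAmple (L.restrict (f ⁻¹ᵁ W).ι) := by
  haveI : IsLocallyNoetherian X := LocallyOfFiniteType.isLocallyNoetherian f
  haveI : CompactSpace X := QuasiCompact.compactSpace_of_compactSpace f
  haveI : IsNoetherian X := { }
  let U := f ⁻¹ᵁ W
  haveI : IsLocallyNoetherian U.toScheme := isLocallyNoetherian_of_isOpenImmersion U.ι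
  haveI : CompactSpace U.toScheme := isCompact_iff_compactSpace.mp (f.isCompact_preimage hW.isCompact)
  refine CurveLib.isAmple_of_vanishing
    (ParaFLib.isInvertible_restrict U.ι hL)
    fun I i hi hI => ?_
  haveI := hi
  haveI := hI
  let i' : I ⟶ (Coh.structureModule X).restrict U.ι :=
    i ≫ (Scheme.Modules.restrictUnitIso U.ι).inv
  obtain ⟨J, j, e, hj, hJ, -, -⟩ := Groth.Agent.S2250.result (X := X)
    (fun x => ⟨⊤, trivial, inferInstance⟩) U (Coh.structureModule X) I i'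
    (QCohLib.isCoh_of_mono i (DevLib.isCoh_structureModule _) hI).2
  haveI := hJ
  obtain ⟨N, hN⟩ := h J j hj (QCohLib.isCoh_of_mono j (DevLib.isCoh_structureModule X) hJ)
  refine ⟨N, ?_⟩
  have hz := hN (N + 1) N.le_succ
  exact subsingleton_HH_tensor_restrict f hW J (CohB1.tensorPow L (N + 1))
    (QCohLib.isCoh_of_mono j (DevLib.isCoh_structureModule X) hJ)
    (CurveLib.isCoh_of_isInvertible (AmpleLib.isInvertible_tensorPow hL (N + 1)))
    e (AmpleLib.restrictPow U.ι L (N + 1)) 1 hz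

/-- Relative ampleness kills `R^p f_*` of twists of coherent modules. -/
theorem exists_isZero_rpush_tensorPow [IsProper f] [IsNoetherian S] [HasInjectiveResolutions X.Modules]
    {L : X.Modules} (hL : PicF.IsInvertible L)
    (ha : ∀ W : S.Opens, IsAffineOpen W → CohB1.IsAmple (L.restrict (f ⁻¹ᵁ W).ι))
    {M : X.Modules} (hM : Coh.IsCoh M) :
    ∃ n₀ : ℕ, ∀ n : ℕ, n₀ ≤ n → ∀ p : ℕ, 0 < p →
      IsZero ((Coh.Rpush f p).obj (CohB1.tensorMod M (CohB1.tensorPow L n))) := by
  obtain ⟨n₀, h⟩ := exists_isZero_rpushAb_tensorPow f hL ha hM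
  refine ⟨n₀, fun n hn p hp => ?_⟩
  have h1 : IsZero ((QCohLib.toAbF S).obj ((Coh.Rpush f p).obj (CohB1.tensorMod M (CohB1.tensorPow L n)))) :=
    IsZero.of_iso (h n hn p hp) ((RpushLib.toAbRpushIso f p).app _)
  rw [IsZero.iff_id_eq_zero]
  exact (QCohLib.toAbF S).map_injective (h1.eq_of_src _ _)

end Groth.Agent.AmpleEmb
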