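import Groth.Agent.AmpleEmb.GenRatio
import Groth.Agent.CurveLib.Components
import Mathlib.AlgebraicGeometry.ZariskisMainTheorem

/-!
# A generated invertible module trivial on no positive dimensional closed subvariety is ample
-/

set_option autoImplicit false
set_option backward.isDefEq.respectTransparency false
set_option linter.style.haveILetI false

universe u

open CategoryTheory CategoryTheory.Limits AlgebraicGeometry TopologicalSpace Opposite
open Groth.Agent.DCohLib Groth.Agent.ParaFLib Groth.Agent.AmpleLib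

noncomputable section

namespace Groth.Agent.GenMorph

variable {X : Scheme.{u}}

theorem isIso_of_genLocus_eq_top {P : X.Modules} (hP : PicF.IsInvertible P) {s : Coh.structureModule X ⟶ P}
    (h : CohB1.genLocus P s = ⊤) : IsIso s := by
  have hg : Gen (⊤ : X.Opens) (resT (sec s) ⊤) := by
    have h' := AmpleEmb.gen_genLocus hP s
    rwa [h] at h'
  rw [Scheme.Modules.Hom.isIso_iff_isIso_app]
  intro O
  rw [ConcreteCategory.isIso_iff_bijective]
  have hO := hg O le_top
  simp only [resT, res_res] at hO
  show Function.Bijective (fun r : Γ(X, O) => s.app O r)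
  rw [funext fun r => app_eq s O r]
  exact hO

/-- The ratios of finitely many generating sections. -/
theorem exists_ratioFamily {P : X.Modules} (hP : PicF.IsInvertible P) {n : ℕ}
    (s : Fin (n + 1) → (Coh.structureModule X ⟶ P)) (hcov : ∀ x, ∃ i, x ∈ CohB1.genLocus P (s i)) :
    ∃ F : RatioFamily X n, (∀ i, F.U i = CohB1.genLocus P (s i)) ∧
      (∀ i, Gen (F.U i) (resT (sec (s i)) (F.U i))) ∧
      ∀ i a, F.t i a • resT (sec (s i)) (F.U i) = resT (sec (s a)) (F.U i) := by
  let U : Fin (n + 1) → X.Opens := fun i => CohB1.genLocus P (s i)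
  have hg : ∀ i, Gen (U i) (resT (sec (s i)) (U i)) := fun i => AmpleEmb.gen_genLocus hP (s i)
  choose t ht using fun i a => ((hg i) _ le_rfl).2 (resT (sec (s a)) (U i))
  simp only [ParaFLib.res_self] at ht
  refine ⟨{ U := U, cover := eq_top_iff.2 fun x _ => Opens.mem_iSup.2 (hcov x), t := t,
            t_self := fun i => ?_, t_open := fun i a => ?_, t_mul := fun i j a => ?_ }, fun i => rfl, hg, ht⟩
  · refine (hg i _ le_rfl).1 ?_
    simp only [ParaFLib.res_self, one_smul]
    exact ht i i
  · rw [inf_comm]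
    exact (genLocus_inf_eq_basicOpen (s a) (hg i) (ht i a)).symm
  · refine ((hg j) (U i ⊓ U j) inf_le_right).1 ?_
    have e1 := congrArg (P.presheaf.map (homOfLE (inf_le_right : U i ⊓ U j ≤ U j)).op) (ht j a)
    have e2 := congrArg (P.presheaf.map (homOfLE (inf_le_right : U i ⊓ U j ≤ U j)).op) (ht j i)
    have e3 := congrArg (P.presheaf.map (homOfLE (inf_le_left : U i ⊓ U j ≤ U i)).op) (ht i a)
    rw [P.map_smul] at e1 e2 e3
    simp only [resT, res_res] at e1 e2 e3 ⊢
    rw [e1, mul_comm, mul_smul, e2, e3]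

variable {K : Type u} [Field K] (f : X ⟶ Spec (CommRingCat.of K)) [IsProper f]

include f in
/-- An invertible module generated by its sections on a proper scheme over a field is ample as soon as it is
trivial on no positive dimensional integral closed subscheme. -/
theorem isAmple_of_generated {P : X.Modules} (hP : PicF.IsInvertible P)
    (hgen : ∀ x : X, ∃ s : Coh.structureModule X ⟶ P, x ∈ CohB1.genLocus P s)
    (hC : ∀ (C : Set X) (hC : IsClosed C), IsIrreducible C →
      Nonempty (Coh.structureModule _ ≅ (Scheme.Modules.pullback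
        (Scheme.IdealSheafData.vanishingIdeal (⟨C, hC⟩ : Closeds X)).subschemeι).obj P) →
      C.Subsingleton) :
    CohB1.IsAmple P := by
  classical
  haveI : CompactSpace X := QuasiCompact.compactSpace_of_compactSpace f
  haveI : IsLocallyNoetherian X := LocallyOfFiniteType.isLocallyNoetherian f
  haveI : IsNoetherian X := { }
  haveI : JacobsonSpace X := LocallyOfFiniteType.jacobsonSpace f
  rcases isEmpty_or_nonempty X with hX | hX
  · exact ⟨hP, inferInstance, fun x => isEmptyElim x⟩
  choose σ hσ using hgen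
  obtain ⟨T, hT⟩ := isCompact_univ.elim_finite_subcover
    (fun x : X => (CohB1.genLocus P (σ x) : Set X)) (fun x => (CohB1.genLocus P (σ x)).2)
    (fun x _ => Set.mem_iUnion.2 ⟨x, hσ x⟩)
  obtain ⟨x₁, hx₁, -⟩ := Set.mem_iUnion₂.1 (hT (Set.mem_univ (Classical.arbitrary X)))
  haveI : Nonempty T := ⟨⟨x₁, hx₁⟩⟩
  obtain ⟨n, ⟨ε⟩⟩ : ∃ n, Nonempty (Fin (n + 1) ≃ T) := ⟨Fintype.card T - 1,
    ⟨(finCongr (Nat.sub_add_cancel (Fintype.card_pos : 0 < Fintype.card T))).trans (Fintype.equivFin _).symm⟩⟩
  let s : Fin (n + 1) → (Coh.structureModule X ⟶ P) := fun i => σ (ε i).1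
  obtain ⟨F, hFU, hFg, hFt⟩ := exists_ratioFamily hP s fun x => by
    obtain ⟨y, hy, hxy⟩ := Set.mem_iUnion₂.1 (hT (Set.mem_univ x))
    refine ⟨ε.symm ⟨y, hy⟩, ?_⟩
    simp only [s, Equiv.apply_symm_apply]
    exact hxy
  let φ : K →+* Γ(X, ⊤) := ((Scheme.ΓSpecIso (CommRingCat.of K)).inv ≫ f.appTop).hom
  let g := toProj φ F
  haveI : IsProper g := by
    have h : IsProper (g ≫ CohB1.ProjSpace.toSpec n K) := by
      rw [toProj_toSpec φ F f rfl]
      infer_instance
    exact IsProper.of_comp _ (CohB1.ProjSpace.toSpec n K)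
  -- closed fibres are finite
  have hfib : ∀ x : X, IsClosed {x} → (g ⁻¹' {g x}).Finite := fun x hx => by
    have hy : IsClosed {g x} := by
      have := g.isClosedMap _ hx
      rwa [Set.image_singleton] at this
    have hF : IsClosed (g ⁻¹' {g x}) := hy.preimage g.continuous
    haveI : NoetherianSpace (g ⁻¹' {g x}) := inferInstance
    rw [← Set.finite_coe_iff]
    have hsub : ∀ Z ∈ irreducibleComponents (g ⁻¹' {g x}), Z.Subsingleton := by
      intro Z hZ
      have hZc : IsClosed (Subtype.val '' Z : Set X) :=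
        hF.isClosedEmbedding_subtypeVal.isClosedMap _ (isClosed_of_mem_irreducibleComponents Z hZ)
      have hZi : IsIrreducible (Subtype.val '' Z : Set X) :=
        hZ.1.image _ continuous_subtype_val.continuousOn
      refine Set.subsingleton_of_image Subtype.val_injective Z (hC _ hZc hZi ?_)
      let I := Scheme.IdealSheafData.vanishingIdeal (⟨_, hZc⟩ : Closeds X)
      obtain ⟨i, hi⟩ := Opens.mem_iSup.1 (F.cover.ge (Opens.mem_top x))
      have hZU : ∀ z : X, z ∈ (Subtype.val '' Z : Set X) → z ∈ CohB1.genLocus P (s i) := by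
        rintro _ ⟨⟨z, hz⟩, -, rfl⟩
        rw [← hFU, ← preimage_basicOpen φ F i]
        rw [← preimage_basicOpen φ F i] at hi
        have hz' : g z = g x := hz
        show g z ∈ Proj.basicOpen (CohB1.polyGrading n K) (MvPolynomial.X i)
        rw [hz']
        exact hi
      have htop : CohB1.genLocus _ (pullS I.subschemeι (s i)) = ⊤ := by
        rw [genLocus_pullS _ hP]
        refine eq_top_iff.2 fun z _ => hZU _ ?_
        have hz : I.subschemeι z ∈ Set.range I.subschemeι := ⟨z, rfl⟩
        rwa [Scheme.IdealSheafData.range_subschemeι, Scheme.IdealSheafData.coe_support_vanishingIdeal] at hz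
      haveI := isIso_of_genLocus_eq_top (isInvertible_pullback _ hP) htop
      exact ⟨asIso (pullS I.subschemeι (s i))⟩
    exact Set.finite_univ_iff.1 <| (NoetherianSpace.finite_irreducibleComponents.sUnion
      fun Z hZ => (hsub Z hZ).finite).subset (by rw [sUnion_irreducibleComponents])
  haveI : LocallyQuasiFinite g := by
    rw [← Scheme.Hom.quasiFiniteLocus_eq_top_iff, eq_top_iff]
    intro x _
    by_contra hx
    obtain ⟨z, hz, hzc⟩ := nonempty_inter_closedPoints (X := X) (Z := (g.quasiFiniteLocus : Set X)ᶜ)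
      ⟨x, hx⟩ g.quasiFiniteLocus.2.isClosed_compl.isLocallyClosed
    rw [mem_closedPoints_iff] at hzc
    refine hz (Scheme.Hom.quasiFiniteAt_iff_isOpen_singleton_asFiber.2 ?_)
    haveI : Finite (g ⁻¹' {g z}) := (hfib z hzc).to_subtype
    haveI : Finite (g.fiber (g z)) := Finite.of_equiv _ (g.fiberHomeo (g z)).symm.toEquiv
    exact isOpen_discrete _
  haveI : IsFinite g := IsFinite.of_isProper_of_locallyQuasiFinite g
  obtain ⟨e⟩ := nonempty_iso_pullback_twistOne φ F s hFg hFt
  exact isAmple_of_iso e.symm (isAmple_pullback g (AmpleEmb.isAmple_twistOne n K))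

end Groth.Agent.GenMorph
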