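import Groth.Agent.AmpleLib.Basis
import Groth.Agent.AmpleLib.Extend

/-!
# Sections of `M` over `X_s` times large powers of `s` extend
-/

set_option autoImplicit false
set_option backward.isDefEq.respectTransparency false
set_option linter.style.haveILetI false

universe u

open CategoryTheory CategoryTheory.Limits AlgebraicGeometry TopologicalSpace Opposite
open Groth.Agent.PullbackMod Groth.Agent.DCohLib Groth.Agent.ParaFLib Groth.Agent.AmpleLib

noncomputable section

namespace Groth.Agent.AmpleEmb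

variable {X : Scheme.{u}}

theorem exists_extend_mod [CompactSpace X] [QuasiSeparatedSpace X] {P : X.Modules} (hP : PicF.IsInvertible P)
    (s : Coh.structureModule X ⟶ P) (M : X.Modules) [Coh.IsQCoh M] (m : Γ(M, CohB1.genLocus P s)) :
    ∃ k₀ : ℕ, ∀ K, k₀ ≤ K → ∃ ξ : Γ(tmod M (CohB1.tensorPow P K), ⊤),
      resT ξ (CohB1.genLocus P s) =
        pairS M (CohB1.tensorPow P K) m (powLoc (resT (sec s) (CohB1.genLocus P s)) K) := by
  classical
  obtain ⟨t, W, e, hWe, hcov⟩ := exists_affine_gen_cover hP (O := (⊤ : X.Opens)) isCompact_univ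
  let Xs := CohB1.genLocus P s
  have hall : ∀ x ∈ t, ∃ (a : Γ(X, W x)), a • e x = resT (sec s) (W x) := fun x hx => by
    obtain ⟨a, ha⟩ := ((hWe x hx).2.2 (W x) le_rfl).2 (resT (sec s) (W x))
    simp only [res_self] at ha
    exact ⟨a, ha⟩
  choose a ha using hall
  have hle : ∀ x (hx : x ∈ t), X.basicOpen (a x hx) ≤ Xs := fun x hx =>
    (genLocus_inf_eq_basicOpen s (hWe x hx).2.2 (ha x hx)).ge.trans inf_le_left
  have hb : ∀ x (hx : x ∈ t) (V : X.Opens), V ≤ Xs → V ≤ W x → V ≤ X.basicOpen (a x hx) := fun x hx V h1 h2 =>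
    (le_inf h1 h2).trans (genLocus_inf_eq_basicOpen s (hWe x hx).2.2 (ha x hx)).le
  have loc : ∀ x (hx : x ∈ t), ∃ (n : ℕ) (c : Γ(M, W x)),
      M.presheaf.map (homOfLE (X.basicOpen_le (a x hx))).op c =
        X.presheaf.map (homOfLE (X.basicOpen_le (a x hx))).op (a x hx ^ n) • M.presheaf.map (homOfLE (hle x hx)).op m :=
    fun x hx => (QCohLib.locAt M (hWe x hx).1).extend (a x hx) _
  choose n c hc using loc
  let N := t.attach.sup fun x => n x.1 x.2
  have hnN : ∀ x : {x // x ∈ t}, n x.1 x.2 ≤ N := fun x =>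
    Finset.le_sup (f := fun x : {x // x ∈ t} => n x.1 x.2) (Finset.mem_attach t x)
  let z : ∀ (_ : ℕ) (x : {x // x ∈ t}), Γ(M, W x.1) := fun K x => a x.1 x.2 ^ (K - n x.1 x.2) • c x.1 x.2
  let Z : ∀ (K : ℕ) (x : {x // x ∈ t}), Γ(tmod M (CohB1.tensorPow P K), W x.1) := fun K x =>
    pairS M (CohB1.tensorPow P K) (z K x) (powLoc (e x.1) K)
  have hsV : ∀ (x : {x // x ∈ t}) (V : X.Opens) (hV : V ≤ W x.1),
      resT (sec s) V = X.presheaf.map (homOfLE hV).op (a x.1 x.2) • P.presheaf.map (homOfLE hV).op (e x.1) :=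
    fun x V hV => by rw [← P.map_smul, ha, resT, resT, res_res]
  have hz : ∀ K, N ≤ K → ∀ (x : {x // x ∈ t}) (V : X.Opens) (hV : V ≤ W x.1) (hV' : V ≤ Xs),
      M.presheaf.map (homOfLE hV).op (z K x) =
        X.presheaf.map (homOfLE hV).op (a x.1 x.2) ^ K • M.presheaf.map (homOfLE hV').op m := by
    intro K hK x V hV hV'
    have h1 := congrArg (M.presheaf.map (homOfLE (hb x.1 x.2 V hV' hV)).op) (hc x.1 x.2)
    rw [M.map_smul, res_res, res_res, rres] at h1
    rw [M.map_smul, h1, smul_smul, map_pow, map_pow, ← pow_add,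
      Nat.sub_add_cancel ((hnN x).trans hK)]
  have key : ∀ K, N ≤ K → ∀ (x : {x // x ∈ t}) (V : X.Opens) (hV : V ≤ W x.1) (hV' : V ≤ Xs),
      (tmod M (CohB1.tensorPow P K)).presheaf.map (homOfLE hV).op (Z K x) =
        pairS M (CohB1.tensorPow P K) (M.presheaf.map (homOfLE hV').op m) (powLoc (resT (sec s) V) K) := by
    intro K hK x V hV hV'
    rw [res_pairS, hz K hK x V hV hV', powLoc_res, hsV x V hV, powLoc_smul, pairS_smul_left, pairS_smul_right]
  have hpair : ∀ x y : {x // x ∈ t}, ∃ J, ∀ K, J ≤ K →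
      (tmod M (CohB1.tensorPow P K)).presheaf.map (homOfLE (inf_le_left : W x.1 ⊓ W y.1 ≤ W x.1)).op (Z K x) =
        (tmod M (CohB1.tensorPow P K)).presheaf.map (homOfLE (inf_le_right : W x.1 ⊓ W y.1 ≤ W y.1)).op (Z K y) := by
    intro x y
    set O := W x.1 ⊓ W y.1
    let ax := X.presheaf.map (homOfLE (inf_le_left : O ≤ W x.1)).op (a x.1 x.2)
    let ay := X.presheaf.map (homOfLE (inf_le_right : O ≤ W y.1)).op (a y.1 y.2)
    let ex := P.presheaf.map (homOfLE (inf_le_left : O ≤ W x.1)).op (e x.1)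
    let ey := P.presheaf.map (homOfLE (inf_le_right : O ≤ W y.1)).op (e y.1)
    have hex : Gen O ex := (hWe x.1 x.2).2.2.res inf_le_left
    obtain ⟨v, hv⟩ : ∃ v : Γ(X, O), v • ex = ey := by
      obtain ⟨v, hv⟩ := (hex O le_rfl).2 ey
      simp only [res_self] at hv
      exact ⟨v, hv⟩
    have hva : v * ay = ax := by
      refine (hex O le_rfl).1 ?_
      simp only [res_self]
      rw [mul_comm, mul_smul, hv, ← hsV y O inf_le_right, ← hsV x O inf_le_left]
    let cx := M.presheaf.map (homOfLE (inf_le_left : O ≤ W x.1)).op (c x.1 x.2)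
    let cy := M.presheaf.map (homOfLE (inf_le_right : O ≤ W y.1)).op (c y.1 y.2)
    let d : Γ(M, O) := ax ^ (N - n x.1 x.2) • cx - (ax ^ (N - n y.1 y.2) * v ^ n y.1 y.2) • cy
    have hd : ∀ (V : X.Opens) (hV : V ≤ O), V ≤ Xs → M.presheaf.map (homOfLE hV).op d = 0 := by
      intro V hV hV'
      have h1 := congrArg (M.presheaf.map (homOfLE (hb x.1 x.2 V hV' (hV.trans inf_le_left))).op) (hc x.1 x.2)
      have h2 := congrArg (M.presheaf.map (homOfLE (hb y.1 y.2 V hV' (hV.trans inf_le_right))).op) (hc y.1 y.2)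
      rw [M.map_smul, res_res, res_res, rres] at h1 h2
      show M.presheaf.map (homOfLE hV).op (ax ^ (N - n x.1 x.2) • cx -
        (ax ^ (N - n y.1 y.2) * v ^ n y.1 y.2) • cy) = 0
      rw [map_sub, M.map_smul, M.map_smul, res_res, res_res, h1, h2, smul_smul, smul_smul, sub_eq_zero]
      refine congrArg (fun r : Γ(X, V) => r • M.presheaf.map (homOfLE hV').op m) ?_
      have ex1 : X.presheaf.map (homOfLE (hV.trans inf_le_left)).op (a x.1 x.2) = X.presheaf.map (homOfLE hV).op ax :=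
        (rres (inf_le_left : O ≤ W x.1) hV _).symm
      have ey1 : X.presheaf.map (homOfLE (hV.trans inf_le_right)).op (a y.1 y.2) = X.presheaf.map (homOfLE hV).op ay :=
        (rres (inf_le_right : O ≤ W y.1) hV _).symm
      simp only [map_mul, map_pow]
      erw [ex1, ey1]
      rw [← pow_add, Nat.sub_add_cancel (hnN x), mul_assoc, ← mul_pow, ← map_mul, hva, ← pow_add,
        Nat.sub_add_cancel (hnN y)]
    obtain ⟨t', W', _e', hW', hcov'⟩ := exists_affine_gen_cover (X := X) isInvertible_structureModule (O := O)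
      (QuasiSeparatedSpace.inter_isCompact _ _ (W x.1).isOpen (hWe x.1 x.2).1.isCompact (W y.1).isOpen (hWe y.1 y.2).1.isCompact)
    have loc' : ∀ w ∈ t', ∃ J, ∀ j, J ≤ j → ∀ h : W' w ≤ O,
        M.presheaf.map (homOfLE h).op (ax ^ j • d) = 0 := by
      intro w hw
      obtain ⟨hW, hle', -⟩ := hW' w hw
      let aw := X.presheaf.map (homOfLE hle').op ax
      have hbw : X.basicOpen aw ≤ Xs := by
        have : X.basicOpen aw ≤ X.basicOpen (a x.1 x.2) := by
          exact ((X.basicOpen_res ax (homOfLE hle').op).le.trans inf_le_right).trans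
            ((X.basicOpen_res (a x.1 x.2) (homOfLE (inf_le_left : O ≤ W x.1)).op).le.trans inf_le_right)
        exact this.trans (hle x.1 x.2)
      obtain ⟨J, hJ⟩ := (QCohLib.locAt M hW).kill aw (M.presheaf.map (homOfLE hle').op d) (by
        rw [res_res]
        exact hd _ _ hbw)
      refine ⟨J, fun j hj h => ?_⟩
      obtain ⟨i, rfl⟩ := Nat.exists_eq_add_of_le hj
      rw [M.map_smul, map_pow, add_comm, pow_add, mul_smul]
      refine (congrArg _ ?_).trans (smul_zero _)
      refine Eq.trans ?_ hJ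
      rw [CohBase.sc_apply]
      exact congrArg (· • _) (ConcreteCategory.congr_hom (X.presheaf.map_id _) _).symm
    choose J hJ using loc'
    refine ⟨N + t'.attach.sup (fun w => J w.1 w.2), fun K hK => ?_⟩
    let F : TopCat.Sheaf Ab.{u} X.carrier := ⟨M.presheaf, M.isSheaf⟩
    have h0 : ax ^ (K - N) • d = 0 := by
      refine F.eq_of_locally_eq' (fun w : {w // w ∈ t'} => W' w.1) O (fun w => homOfLE (hW' w.1 w.2).2.1)
        (fun p hp => by
          obtain ⟨w, hw, hpw⟩ := Set.mem_iUnion₂.1 (hcov' hp)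
          exact Opens.mem_iSup.2 ⟨⟨w, hw⟩, hpw⟩) _ _ fun w => ?_
      refine Eq.trans ?_ (map_zero _).symm
      exact hJ w.1 w.2 _ ((Finset.le_sup (f := fun w : {w // w ∈ t'} => J w.1 w.2) (Finset.mem_attach t' w)).trans
        (by omega)) _
    rw [smul_sub, smul_smul, smul_smul, sub_eq_zero, ← mul_assoc, ← pow_add, ← pow_add] at h0
    have hnx := hnN x
    have hny := hnN y
    rw [show K - N + (N - n x.1 x.2) = K - n x.1 x.2 by omega,
      show K - N + (N - n y.1 y.2) = K - n y.1 y.2 by omega] at h0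
    rw [res_pairS, res_pairS, powLoc_res, powLoc_res, M.map_smul, M.map_smul, map_pow, map_pow]
    show pairS M (CohB1.tensorPow P K) (ax ^ (K - n x.1 x.2) • cx) (powLoc ex K) =
      pairS M (CohB1.tensorPow P K) (ay ^ (K - n y.1 y.2) • cy) (powLoc ey K)
    rw [← hv, powLoc_smul, pairS_smul_right, ← pairS_smul_left, h0, smul_smul]
    congr 2
    calc ax ^ (K - n y.1 y.2) * v ^ n y.1 y.2 = (v * ay) ^ (K - n y.1 y.2) * v ^ n y.1 y.2 := by rw [hva]
      _ = v ^ (K - n y.1 y.2 + n y.1 y.2) * ay ^ (K - n y.1 y.2) := by rw [mul_pow, pow_add]; ring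
      _ = v ^ K * ay ^ (K - n y.1 y.2) := by rw [Nat.sub_add_cancel (by omega)]
  choose J hJ using hpair
  refine ⟨N + Finset.univ.sup (fun p : {x // x ∈ t} × {x // x ∈ t} => J p.1 p.2), fun K hK => ?_⟩
  let F : TopCat.Sheaf Ab.{u} X.carrier :=
    ⟨(tmod M (CohB1.tensorPow P K)).presheaf, (tmod M (CohB1.tensorPow P K)).isSheaf⟩
  have hcov' : (⊤ : X.Opens) ≤ ⨆ x : {x // x ∈ t}, W x.1 := fun y hy => by
    obtain ⟨x, hx, hyx⟩ := Set.mem_iUnion₂.1 (hcov hy)
    exact Opens.mem_iSup.2 ⟨⟨x, hx⟩, hyx⟩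
  obtain ⟨g, hg, -⟩ := F.existsUnique_gluing' (fun x : {x // x ∈ t} => W x.1) ⊤ (fun x => homOfLE le_top) hcov'
    (fun x => Z K x) (fun x y => hJ x y K
      ((Finset.le_sup (f := fun p : {x // x ∈ t} × {x // x ∈ t} => J p.1 p.2) (Finset.mem_univ (x, y))).trans
        (by omega)))
  refine ⟨g, F.eq_of_locally_eq' (fun x : {x // x ∈ t} => Xs ⊓ W x.1) Xs (fun x => homOfLE inf_le_left)
    (fun y hy => by
      obtain ⟨x, hx⟩ := Opens.mem_iSup.1 (hcov' (Opens.mem_top y))
      exact Opens.mem_iSup.2 ⟨x, hy, hx⟩) _ _ fun x => ?_⟩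
  show (tmod M (CohB1.tensorPow P K)).presheaf.map (homOfLE (inf_le_left : Xs ⊓ W x.1 ≤ Xs)).op _ =
    (tmod M (CohB1.tensorPow P K)).presheaf.map (homOfLE (inf_le_left : Xs ⊓ W x.1 ≤ Xs)).op _
  have e2 := congrArg ((tmod M (CohB1.tensorPow P K)).presheaf.map
    (homOfLE (inf_le_right : Xs ⊓ W x.1 ≤ W x.1)).op) (hg x)
  change (tmod M (CohB1.tensorPow P K)).presheaf.map _ ((tmod M (CohB1.tensorPow P K)).presheaf.map (homOfLE le_top).op g) =
    _ at e2
  rw [res_res] at e2
  refine (res_res _ _ _).trans (e2.trans ((key K (by omega) x _ inf_le_right inf_le_left).trans ?_))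
  rw [res_pairS, powLoc_res, resT, resT, res_res]

end Groth.Agent.AmpleEmb
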