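import Groth.Agent.AmpleEmb.Serre
import Groth.Agent.AmpleEmb.ExtendMod
import Groth.Agent.AmpleEmb.Immersion
import Groth.Prelude.Def_Curv2

/-!
# All large powers of an ample module are very ample over an affine base
-/

set_option autoImplicit false
set_option backward.isDefEq.respectTransparency false
set_option linter.style.haveILetI false

universe u

open CategoryTheory CategoryTheory.Limits AlgebraicGeometry TopologicalSpace Opposite
open Groth.Agent.PullbackMod Groth.Agent.DCohLib Groth.Agent.ParaFLib Groth.Agent.AmpleLib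

noncomputable section

namespace Groth.Agent.AmpleEmb

variable {X Y : Scheme.{u}}

theorem not_mem_genLocus_zero {P : X.Modules} (hP : PicF.IsInvertible P) (x : X) :
    x ∉ CohB1.genLocus P (secHom P 0) := by
  intro h
  have hb := (mem_genLocus_iff hP).1 h
  rw [sec_secHom, map_zero] at hb
  have : (0 : X.presheaf.stalk x) = 1 := hb.1 (by simp only [smul_zero])
  exact zero_ne_one this

theorem genLocus_zero {P : X.Modules} (hP : PicF.IsInvertible P) : CohB1.genLocus P (secHom P 0) = ⊥ :=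
  eq_bot_iff.2 fun x hx => (not_mem_genLocus_zero hP x hx).elim

/-- The family of loci and ratios of sections of an invertible module. -/
def familyOfSections {P : X.Modules} (hP : PicF.IsInvertible P) {n : ℕ}
    (s : Fin (n + 1) → (Coh.structureModule X ⟶ P)) (ha : ∀ i, IsAffineOpen (CohB1.genLocus P (s i)))
    (hc : ∀ x, ∃ i, x ∈ CohB1.genLocus P (s i)) (t : ∀ i, Fin (n + 1) → Γ(X, CohB1.genLocus P (s i)))
    (ht : ∀ i a, t i a • resT (sec (s i)) (CohB1.genLocus P (s i)) = resT (sec (s a)) (CohB1.genLocus P (s i))) :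
    RatioFamily X n where
  U i := CohB1.genLocus P (s i)
  affine := ha
  cover := eq_top_iff.2 fun x _ => Opens.mem_iSup.2 (hc x)
  t := t
  t_self i := by
    refine ((gen_genLocus hP (s i)) _ le_rfl).1 ?_
    simp only [resT, res_res]
    exact (ht i i).trans (one_smul _ _).symm
  t_open i a := (genLocus_inf_eq_basicOpen (s a) (gen_genLocus hP (s i)) (ht i a)).symm.trans (inf_comm _ _)
  t_mul i j a := by
    refine (((gen_genLocus hP (s j)).res (inf_le_right : CohB1.genLocus P (s i) ⊓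
      CohB1.genLocus P (s j) ≤ _)) _ le_rfl).1 ?_
    have e1 := congrArg (P.presheaf.map (homOfLE (inf_le_right : CohB1.genLocus P (s i) ⊓
      CohB1.genLocus P (s j) ≤ _)).op) (ht j a)
    have e2 := congrArg (P.presheaf.map (homOfLE (inf_le_right : CohB1.genLocus P (s i) ⊓
      CohB1.genLocus P (s j) ≤ _)).op) (ht j i)
    have e3 := congrArg (P.presheaf.map (homOfLE (inf_le_left : CohB1.genLocus P (s i) ⊓
      CohB1.genLocus P (s j) ≤ _)).op) (ht i a)
    rw [P.map_smul, resT, resT, res_res, res_res] at e1 e2 e3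
    simp only [resT, res_res]
    rw [mul_comm, mul_smul, e1, e2, e3]

/-- A cover by loci of sections of one power, trivializing two modules and small over the base. -/
theorem exists_trivial_cover (q : X ⟶ Y) {L L' : X.Modules} (h : CohB1.IsAmple L) (h' : PicF.IsInvertible L') :
    ∃ (T : Type u) (_ : Fintype T) (D : ℕ) (_ : 0 < D) (s : T → (Coh.structureModule X ⟶ CohB1.tensorPow L D))
      (e : ∀ x, Γ(L, CohB1.genLocus _ (s x))) (e' : ∀ x, Γ(L', CohB1.genLocus _ (s x))) (V : T → Y.Opens),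
      (∀ x, IsAffineOpen (CohB1.genLocus _ (s x))) ∧ (∀ x, Gen (CohB1.genLocus _ (s x)) (e x)) ∧
        (∀ x, Gen (CohB1.genLocus _ (s x)) (e' x)) ∧ (∀ x, IsAffineOpen (V x)) ∧
        (∀ x, CohB1.genLocus _ (s x) ≤ q ⁻¹ᵁ V x) ∧ ∀ p : X, ∃ x, p ∈ CohB1.genLocus _ (s x) := by
  classical
  haveI := h.2.1
  have hx : ∀ x : X, ∃ (W : X.Opens) (e : Γ(L, W)) (e' : Γ(L', W)) (V : Y.Opens) (m : ℕ)
      (σ : Coh.structureModule X ⟶ CohB1.tensorPow L (m + 1)),
      Gen W e ∧ Gen W e' ∧ IsAffineOpen V ∧ W ≤ q ⁻¹ᵁ V ∧ x ∈ CohB1.genLocus _ σ ∧ CohB1.genLocus _ σ ≤ W ∧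
        IsAffineOpen (CohB1.genLocus _ σ) := fun x => by
    obtain ⟨W, e, hxW, he⟩ := exists_gen_nhd h.1 x
    obtain ⟨W', e', hxW', he'⟩ := exists_gen_nhd h' x
    obtain ⟨_, ⟨V, hV, rfl⟩, hxV, -⟩ :=
      Y.isBasis_affineOpens.exists_subset_of_mem_open (Set.mem_univ (q x)) isOpen_univ
    obtain ⟨m, σ, h1, h2, h3⟩ := exists_small_genLocus h (U := (W ⊓ W') ⊓ q ⁻¹ᵁ V) ⟨⟨hxW, hxW'⟩, hxV⟩
    exact ⟨(W ⊓ W') ⊓ q ⁻¹ᵁ V, _, _, V, m, σ, he.res (inf_le_left.trans inf_le_left),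
      he'.res (inf_le_left.trans inf_le_right), hV, inf_le_right, h1, h2, h3⟩
  choose W e e' V m σ hgen hgen' hV hWV hxσ hle haσ using hx
  obtain ⟨T, hT⟩ := isCompact_univ.elim_finite_subcover
    (fun x : X => (CohB1.genLocus _ (σ x) : Set X)) (fun x => (CohB1.genLocus _ (σ x)).2)
    (fun x _ => Set.mem_iUnion.2 ⟨x, hxσ x⟩)
  let D := ∏ x ∈ T, (m x + 1)
  have hD : 0 < D := Finset.prod_pos fun x _ => Nat.succ_pos _
  have hraise : ∀ x : T, ∃ s' : Coh.structureModule X ⟶ CohB1.tensorPow L D,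
      CohB1.genLocus _ s' = CohB1.genLocus _ (σ x.1) := fun x =>
    exists_raise h.1 hD (Finset.dvd_prod_of_mem (fun x => m x + 1) x.2) (σ x.1)
  choose s hs using hraise
  refine ⟨T, inferInstance, D, hD, s, fun x => L.presheaf.map (homOfLE ((hs x).le.trans (hle x.1))).op (e x.1),
    fun x => L'.presheaf.map (homOfLE ((hs x).le.trans (hle x.1))).op (e' x.1), fun x => V x.1,
    fun x => ?_, fun x => (hgen x.1).res _, fun x => (hgen' x.1).res _, fun x => hV x.1,
    fun x => ((hs x).le.trans (hle x.1)).trans (hWV x.1), fun p => ?_⟩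
  · rw [hs x]
    exact haσ x.1
  · obtain ⟨x, hx, hp⟩ := Set.mem_iUnion₂.1 (hT (Set.mem_univ p))
    exact ⟨⟨x, hx⟩, (hs ⟨x, hx⟩).ge hp⟩

theorem exists_generators (q : X ⟶ Y) [LocallyOfFiniteType q] {V : Y.Opens} (hV : IsAffineOpen V)
    {U : X.Opens} (hU : IsAffineOpen U) (h : U ≤ q ⁻¹ᵁ V) :
    ∃ S : Finset Γ(X, U), Subring.closure (Set.range (q.appLE V U h).hom ∪ ↑S) = ⊤ := by
  have hψ : (q.appLE V U h).hom.FiniteType :=
    HasRingHomProperty.appLE (P := @LocallyOfFiniteType) q inferInstance ⟨V, hV⟩ ⟨U, hU⟩ h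
  algebraize [(q.appLE V U h).hom]
  obtain ⟨S, hS⟩ := (inferInstance : Algebra.FiniteType Γ(Y, V) Γ(X, U)).out
  refine ⟨S, ?_⟩
  have := congrArg Subalgebra.toSubring hS
  rw [Algebra.adjoin_eq_ring_closure, Algebra.top_toSubring] at this
  exact this

theorem eval₂Hom_surjective {R A B : Type u} [CommRing R] [CommRing A] [CommRing B] (f : R →+* A) (r : A →+* B)
    (hr : Function.Surjective r) (S : Set A) (hS : Subring.closure (Set.range f ∪ S) = ⊤)
    {ι : Type*} (t : ι → B) (ht : ∀ a ∈ S, r a ∈ Set.range t) :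
    Function.Surjective (MvPolynomial.eval₂Hom (r.comp f) t) := by
  rw [← RingHom.range_eq_top, eq_top_iff]
  rintro b -
  obtain ⟨z, rfl⟩ := hr b
  have hz : z ∈ Subring.closure (Set.range f ∪ S) := hS ▸ trivial
  induction hz using Subring.closure_induction with
  | zero => rw [map_zero]; exact zero_mem _
  | one => rw [map_one]; exact one_mem _
  | add a b _ _ ha hb => rw [map_add]; exact add_mem ha hb
  | neg a _ ha => rw [map_neg]; exact neg_mem ha
  | mul a b _ _ ha hb => rw [map_mul]; exact mul_mem ha hb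
  | mem a ha =>
    rcases ha with ⟨c, rfl⟩ | ha
    · exact ⟨MvPolynomial.C c, MvPolynomial.eval₂Hom_C _ _ c⟩
    · obtain ⟨i, hi⟩ := ht a ha
      exact ⟨MvPolynomial.X i, (MvPolynomial.eval₂Hom_X' _ _ i).trans hi⟩

theorem res_surjective {U V : X.Opens} (h : V = U) :
    Function.Surjective (X.presheaf.map (homOfLE h.le).op).hom := by
  subst h
  exact fun y => ⟨y, ConcreteCategory.congr_hom (X.presheaf.map_id _) y⟩

/-- Sections of `L^{⊗ e} ⊗ L'` with affine loci and generating ratios. -/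
theorem exists_sections_ge (q : X ⟶ Y) [LocallyOfFiniteType q] {L L' : X.Modules}
    (h : CohB1.IsAmple L) (h' : PicF.IsInvertible L') :
    ∃ N, ∀ E, N ≤ E → ∃ (Q : X.Modules) (_ : Q ≅ CohB1.tensorMod (CohB1.tensorPow L E) L')
      (_ : PicF.IsInvertible Q) (n : ℕ) (s : Fin (n + 1) → (Coh.structureModule X ⟶ Q))
      (t : ∀ i, Fin (n + 1) → Γ(X, CohB1.genLocus Q (s i))) (G : Set (Fin (n + 1))),
      (∀ i, IsAffineOpen (CohB1.genLocus Q (s i))) ∧
      (∀ i a, t i a • resT (sec (s i)) (CohB1.genLocus Q (s i)) = resT (sec (s a)) (CohB1.genLocus Q (s i))) ∧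
      (∀ p : X, ∃ i ∈ G, p ∈ CohB1.genLocus Q (s i)) ∧
      ∀ i ∈ G, ∃ (V : Y.Opens) (_ : IsAffineOpen V) (h : CohB1.genLocus Q (s i) ≤ q ⁻¹ᵁ V),
        Function.Surjective (MvPolynomial.eval₂Hom (q.appLE V (CohB1.genLocus Q (s i)) h).hom (t i)) := by
  classical
  haveI := h.2.1
  haveI := quasiSeparatedSpace_of_isAmple h
  obtain ⟨T, _, D, hD, s, e, e', V₀, hUa, he, he', hV₀, hUV, hcov⟩ := exists_trivial_cover q h h'
  let P := CohB1.tensorPow L D
  have hP : PicF.IsInvertible P := isInvertible_tensorPow h.1 D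
  let U : T → X.Opens := fun x => CohB1.genLocus P (s x)
  choose S hS using fun x => exists_generators q (hV₀ x) (hUa x) (hUV x)
  let J := Σ x : T, (insert 1 (S x) : Finset Γ(X, U x))
  let M : ℕ → X.Modules := fun r => tmod (CohB1.tensorPow L r) L'
  have hM : ∀ r, PicF.IsInvertible (M r) := fun r => isInvertible_tensor (isInvertible_tensorPow h.1 r) h'
  haveI : ∀ r, Coh.IsQCoh (M r) := fun r => Groth.Agent.InvExt.isQCoh_of_isInvertible (hM r)
  choose k₀ hk₀ using fun (p : Fin D × J) =>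
    exists_extend_mod hP (s p.2.1) (M p.1) (p.2.2.1 • pairS (CohB1.tensorPow L p.1) L' (powLoc (e p.2.1) p.1) (e' p.2.1))
  let K₀ := Finset.univ.sup k₀
  refine ⟨D * (K₀ + 1), fun E hE => ?_⟩
  have hr : E % D < D := Nat.mod_lt _ hD
  obtain ⟨K, hK⟩ : ∃ K, E / D = K + 1 :=
    Nat.exists_eq_succ_of_ne_zero (Nat.pos_iff_ne_zero.1 (Nat.div_pos (le_trans (Nat.le_mul_of_pos_right _ K₀.succ_pos) hE) hD))
  have hK₀ : K₀ ≤ K := by
    have h1 : K₀ + 1 ≤ E / D := (Nat.le_div_iff_mul_le hD).2 (by rw [mul_comm]; exact hE)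
    omega
  let r : Fin D := ⟨E % D, hr⟩
  choose ξ hξ using fun j : J => hk₀ (r, j) K ((Finset.le_sup (Finset.mem_univ _)).trans hK₀)
  let A := tmod (M r) (CohB1.tensorPow P K)
  let Q := tmod A P
  have hA : PicF.IsInvertible A := isInvertible_tensor (hM _) (isInvertible_tensorPow hP K)
  have hQ : PicF.IsInvertible Q := isInvertible_tensor hA hP
  let iso : Q ≅ CohB1.tensorMod (CohB1.tensorPow L E) L' :=
    (assoc _ _ _ ≪≫ assoc _ _ _ ≪≫ tIso (Iso.refl _) (comm _ _) ≪≫ (assoc _ _ _).symm) ≪≫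
    tIso ((assoc _ _ _).symm ≪≫ tIso (tIso (Iso.refl _) (powMul L D K) ≪≫ (powAdd L r (D * K)).symm) (Iso.refl _) ≪≫
      (powAdd L (r.1 + D * K) D).symm ≪≫ eqToIso (congrArg (CohB1.tensorPow L) (by
        have := Nat.mod_add_div E D
        rw [hK, Nat.mul_succ] at this
        show E % D + D * K + D = E
        omega))) (Iso.refl L')
  let u : Option J → (Coh.structureModule X ⟶ Q) := fun o => o.elim (secHom Q 0)
    fun j => tensorS (secHom A (ξ j)) (s j.1)
  let g : ∀ x, Γ(Q, U x) := fun x => pairS A P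
    (pairS (M r) (CohB1.tensorPow P K) (pairS (CohB1.tensorPow L r) L' (powLoc (e x) r) (e' x)) (powLoc (resT (sec (s x)) (U x)) K))
    (resT (sec (s x)) (U x))
  have hg : ∀ x, Gen (U x) (g x) := fun x =>
    gen_pairS (gen_pairS (gen_pairS (gen_powLoc (he x) _) (he' x)) (gen_powLoc (gen_genLocus hP (s x)) K)) (gen_genLocus hP (s x))
  have hu : ∀ j : J, j.2.1 • g j.1 = resT (sec (u (some j))) (U j.1) := fun j => by
    show j.2.1 • g j.1 = (tmod A P).presheaf.map _ (sec (secHom (tmod A P) (pairS A P (sec (secHom A (ξ j))) (sec (s j.1)))))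
    rw [sec_secHom, sec_secHom, res_pairS]
    refine ((pairS_smul_left _ _ _).symm.trans ?_)
    refine congrArg (fun v => pairS A P v (resT (sec (s j.1)) (U j.1))) ?_
    refine Eq.trans ?_ (hξ j).symm
    exact (pairS_smul_left _ _ _).symm
  have hloc : ∀ j : J, CohB1.genLocus Q (u (some j)) = X.basicOpen j.2.1 := fun j => by
    refine le_antisymm (fun p hp => (genLocus_inf_eq_basicOpen _ (hg j.1) (hu j)).le ⟨hp, ?_⟩)
      ((genLocus_inf_eq_basicOpen _ (hg j.1) (hu j)).ge.trans inf_le_left)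
    exact ((genLocus_tensorS hA hP _ _).le hp).2
  have haff : ∀ o, IsAffineOpen (CohB1.genLocus Q (u o)) := by
    rintro (_ | j)
    · exact (genLocus_zero hQ).symm ▸ isAffineOpen_bot X
    · rw [hloc]
      exact (hUa j.1).basicOpen _
  choose t ht using fun i a => ((gen_genLocus hQ (u i)) _ le_rfl).2 (resT (sec (u a)) (CohB1.genLocus Q (u i)))
  simp only [res_self] at ht
  obtain ⟨n, ⟨ε⟩⟩ : ∃ n, Nonempty (Fin (n + 1) ≃ Option J) :=
    ⟨Fintype.card J, ⟨(finCongr Fintype.card_option.symm).trans (Fintype.equivFin _).symm⟩⟩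
  let G : Set (Fin (n + 1)) := {i | ∃ x, ε i = some ⟨x, 1, Finset.mem_insert_self _ _⟩}
  have hloc1 : ∀ x, CohB1.genLocus Q (u (some ⟨x, 1, Finset.mem_insert_self _ _⟩)) = U x := fun x =>
    (hloc _).trans (X.basicOpen_of_isUnit isUnit_one)
  have hcov' : ∀ p : X, ∃ i ∈ G, p ∈ CohB1.genLocus Q (u (ε i)) := fun p => by
    obtain ⟨x, hx⟩ := hcov p
    refine ⟨ε.symm (some ⟨x, 1, Finset.mem_insert_self _ _⟩), ⟨x, ε.apply_symm_apply _⟩, ?_⟩
    rw [ε.apply_symm_apply]
    exact (hloc1 x).ge hx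
  have hgenG : ∀ i ∈ G, ∃ (V : Y.Opens) (_ : IsAffineOpen V) (h : CohB1.genLocus Q (u (ε i)) ≤ q ⁻¹ᵁ V),
      Function.Surjective (MvPolynomial.eval₂Hom
      (q.appLE V (CohB1.genLocus Q (u (ε i))) h).hom (fun a => t (ε i) (ε a))) := by
    rintro i ⟨x, hx⟩
    suffices h' : ∃ (h : CohB1.genLocus Q (u (some ⟨x, 1, Finset.mem_insert_self _ _⟩)) ≤ q ⁻¹ᵁ V₀ x),
        Function.Surjective (MvPolynomial.eval₂Hom
        (q.appLE (V₀ x) (CohB1.genLocus Q (u (some ⟨x, 1, Finset.mem_insert_self _ _⟩))) h).hom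
        (fun a => t (some ⟨x, 1, Finset.mem_insert_self _ _⟩) (ε a))) by
      refine ⟨V₀ x, hV₀ x, ?_⟩
      rw [hx]
      exact h'
    refine ⟨(hloc1 x).le.trans (hUV x), ?_⟩
    set o : Option J := some ⟨x, 1, Finset.mem_insert_self _ _⟩
    let V := CohB1.genLocus Q (u o)
    have hVU : V = U x := hloc1 x
    rw [show (q.appLE (V₀ x) V (hVU.le.trans (hUV x))).hom =
        (X.presheaf.map (homOfLE hVU.le).op).hom.comp (q.appLE (V₀ x) (U x) (hUV x)).hom from
      congrArg CommRingCat.Hom.hom (Scheme.Hom.appLE_map q (hUV x) (homOfLE hVU.le).op).symm]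
    refine eval₂Hom_surjective _ _ (res_surjective hVU) (↑(S x)) (hS x) _ fun a ha => ?_
    refine ⟨ε.symm (some ⟨x, a, Finset.mem_insert_of_mem ha⟩), ?_⟩
    show t o (ε (ε.symm _)) = _
    rw [ε.apply_symm_apply]
    refine ((gen_genLocus hQ (u o)) V le_rfl).1 ?_
    erw [res_self]
    refine (ht o _).trans ?_
    have e1 := congrArg (Q.presheaf.map (homOfLE hVU.le).op) (hu ⟨x, a, Finset.mem_insert_of_mem ha⟩)
    have e2 := congrArg (Q.presheaf.map (homOfLE hVU.le).op) (hu ⟨x, 1, Finset.mem_insert_self _ _⟩)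
    rw [Q.map_smul, resT, res_res] at e1 e2
    rw [map_one, one_smul] at e2
    rw [resT, ← e1, e2]
  exact ⟨Q, iso, hQ, n, fun i => u (ε i), fun i a => t (ε i) (ε a), G, fun i => haff _, fun i a => ht _ _,
    hcov', hgenG⟩

/-- `L^{⊗ e} ⊗ L'` is very ample for large `e`. -/
theorem eventually_isRelVeryAmplePn_tensor (q : X ⟶ Y) [LocallyOfFiniteType q] {L L' : X.Modules}
    (h : CohB1.IsAmple L) (h' : PicF.IsInvertible L') :
    ∃ N, ∀ E, N ≤ E → RelAmple.IsRelVeryAmplePn q (CohB1.tensorMod (CohB1.tensorPow L E) L') := by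
  obtain ⟨N, hN⟩ := exists_sections_ge q h h'
  refine ⟨N, fun E hE => ?_⟩
  obtain ⟨Q, iso, hQ, n, s, t, G, ha, ht, hc, hg⟩ := hN E hE
  exact isRelVeryAmplePn_of_ratios q (familyOfSections hQ s ha (fun p => (hc p).imp fun _ h => h.2) t ht)
    iso s (fun i => gen_genLocus hQ (s i)) ht G hg hc

/-- `L^{⊗ e}` is very ample for large `e`. -/
theorem eventually_isRelVeryAmplePn (q : X ⟶ Y) [LocallyOfFiniteType q] {L : X.Modules} (h : CohB1.IsAmple L) :
    ∃ N, ∀ E, N ≤ E → RelAmple.IsRelVeryAmplePn q (CohB1.tensorPow L E) := by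
  obtain ⟨N, hN⟩ := eventually_isRelVeryAmplePn_tensor q h isInvertible_structureModule
  refine ⟨N, fun E hE => ?_⟩
  obtain ⟨n, i, hi, hq, ⟨θ⟩⟩ := hN E hE
  exact ⟨n, i, hi, hq, ⟨(unitR _).symm ≪≫ θ⟩⟩

/-- Global generation from sections whose loci cover. -/
theorem isGloballyGenerated_of_genLocus {M : X.Modules} (hM : PicF.IsInvertible M) {ι : Type u}
    (s : ι → (Coh.structureModule X ⟶ M)) (hc : ∀ x, ∃ i, x ∈ CohB1.genLocus M (s i)) :
    Curv2.IsGloballyGenerated M := by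
  let σ : ι → SheafOfModules.sections (R := X.ringCatSheaf) M := fun i =>
    PresheafOfModules.sectionsMk (fun U => M.presheaf.map (homOfLE le_top).op (sec (s i))) fun {U V} j => by
      show (M.presheaf.map _ ≫ M.presheaf.map j) (sec (s i)) = M.presheaf.map _ (sec (s i))
      rw [← Functor.map_comp]
      rfl
  let p := (SheafOfModules.freeHomEquiv (R := X.ringCatSheaf) M).symm σ
  refine ⟨ι, p, (epi_iff_stalk (M := (SheafOfModules.free _ : X.Modules)) p).2 fun x z => ?_⟩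
  obtain ⟨i, hi⟩ := hc x
  obtain ⟨r, hr⟩ := ((mem_genLocus_iff hM).1 hi).2 z
  let P : X.Modules := (SheafOfModules.free (R := X.ringCatSheaf) ι : SheafOfModules X.ringCatSheaf)
  refine ⟨r • (Scheme.Modules.presheaf P |>.germ ⊤ x trivial
    ((SheafOfModules.freeSection (R := X.ringCatSheaf) i).val (op ⊤))), ?_⟩
  rw [map_smul, stalkLin_germ]
  refine Eq.trans ?_ hr
  refine congrArg (fun v => r • M.presheaf.germ ⊤ x trivial v) ?_
  have := (SheafOfModules.freeHomEquiv_apply p i).symm.trans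
    (congrFun ((SheafOfModules.freeHomEquiv (R := X.ringCatSheaf) M).apply_symm_apply σ) i)
  refine (congrArg (fun v : SheafOfModules.sections (R := X.ringCatSheaf) M => v.val (op ⊤)) this).trans ?_
  exact ConcreteCategory.congr_hom (M.presheaf.map_id _) (sec (s i))

/-- `L^{⊗ n} ⊗ L'` is ample and generated by sections for large `n`. -/
theorem eventually_isAmple_tensor {L L' : X.Modules} (h : CohB1.IsAmple L) (h' : PicF.IsInvertible L') :
    ∃ N, ∀ E, N ≤ E → CohB1.IsAmple (CohB1.tensorMod (CohB1.tensorPow L E) L') ∧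
      Curv2.IsGloballyGenerated (CohB1.tensorMod (CohB1.tensorPow L E) L') := by
  obtain ⟨N, hN⟩ := exists_sections_ge (𝟙 X) h h'
  refine ⟨N, fun E hE => ?_⟩
  obtain ⟨Q, iso, hQ, n, s, t, G, ha, -, hc, -⟩ := hN E hE
  have hloc : ∀ i, CohB1.genLocus _ (s i ≫ iso.hom) = CohB1.genLocus Q (s i) := fun i => genLocus_comp_iso _ iso
  have hc' : ∀ x : X, ∃ i : ULift.{u} (Fin (n + 1)), x ∈ CohB1.genLocus _ (s i.down ≫ iso.hom) := fun x => by
    obtain ⟨i, -, hi⟩ := hc x
    exact ⟨⟨i⟩, (hloc i).ge hi⟩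
  refine ⟨⟨isInvertible_of_iso iso hQ, h.2.1, fun x => ?_⟩,
    isGloballyGenerated_of_genLocus (isInvertible_of_iso iso hQ) _ hc'⟩
  obtain ⟨⟨i⟩, hi⟩ := hc' x
  refine ⟨0, (s i ≫ iso.hom) ≫ (powOne _).symm.hom, ?_⟩
  have e : CohB1.genLocus _ ((s i ≫ iso.hom) ≫ (powOne _).symm.hom) = CohB1.genLocus Q (s i) :=
    (genLocus_comp_iso _ (powOne _).symm).trans (hloc i)
  rw [e]
  exact ⟨(hloc i).le hi, ha i⟩

end Groth.Agent.AmpleEmb
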