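import Groth.Agent.AmpleEmb.FiniteSet
import Groth.Agent.AmpleEmb.Misc

/-!
# Sections of an invertible module on a quasi-affine scheme with affine loci around finite sets
-/

set_option autoImplicit false
set_option backward.isDefEq.respectTransparency false
set_option linter.style.haveILetI false

universe u

open CategoryTheory CategoryTheory.Limits AlgebraicGeometry TopologicalSpace Opposite
open Groth.Agent.AmpleLib Groth.Agent.PullbackMod Groth.Agent.DCohLib Groth.Agent.ParaFLib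

noncomputable section

namespace Groth.Agent.AmpleEmb

variable {X : Scheme.{u}}

theorem exists_section_genLocus_small [X.IsQuasiAffine] {L : X.Modules} (hL : PicF.IsInvertible L) {x : X} {W : X.Opens}
    (hx : x ∈ W) : ∃ s : Coh.structureModule X ⟶ L, x ∈ CohB1.genLocus L s ∧ CohB1.genLocus L s ≤ W ∧
      IsAffineOpen (CohB1.genLocus L s) := by
  haveI : QuasiSeparatedSpace X := quasiSeparatedSpace_of_isAmple (isQuasiAffine_iff.1 (inferInstance : X.IsQuasiAffine))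
  obtain ⟨G, e, hxG, he⟩ := exists_gen_nhd hL x
  obtain ⟨_, ⟨g, hg, rfl⟩, hxg, hle⟩ :=
    Opens.isBasis_iff_nbhd.1 (Scheme.IsQuasiAffine.isBasis_basicOpen X) (U := G ⊓ W) (x := x) ⟨hxG, hx⟩
  haveI : Coh.IsQCoh L := Groth.Agent.InvExt.isQCoh_of_isInvertible hL
  obtain ⟨N, σ, hσ⟩ := exists_extend_qcoh L g (L.presheaf.map (homOfLE (hle.trans inf_le_left)).op e)
  have hgu : IsUnit (X.presheaf.map (homOfLE (X.basicOpen_le g)).op g) := RingedSpace.isUnit_res_basicOpen _ g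
  have hloc : CohB1.genLocus L (secHom L (g • σ)) = X.basicOpen g := by
    refine le_antisymm (fun y hy => ?_) (fun y hy => mem_genLocus_iff'.2 ⟨_, hy, ?_⟩)
    · have hy' := (mem_genLocus_iff hL).1 hy
      rw [sec_secHom, germ_smul'] at hy'
      obtain ⟨a, ha⟩ := exists_stalk_gen hL y
      obtain ⟨c, hc⟩ := ha.2 (L.presheaf.germ ⊤ y (Opens.mem_top y) σ)
      simp only at hc
      rw [← hc, ← mul_smul, bijective_smul_iff ha] at hy'
      exact (X.mem_basicOpen g y (Opens.mem_top y)).2 (isUnit_of_mul_isUnit_left hy')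
    · rw [resT, sec_secHom, L.map_smul, hσ, ← mul_smul]
      refine (he.res (hle.trans inf_le_left)).smul (hgu.mul ?_)
      rw [map_pow]
      exact hgu.pow N
  refine ⟨secHom L (g • σ), ?_⟩
  rw [hloc]
  exact ⟨hxg, hle.trans inf_le_right, hg⟩

theorem exists_genLocus_finite_quasiAffine [X.IsQuasiAffine] {L : X.Modules} (hL : PicF.IsInvertible L)
    {Z : Set X} (hZ : Z.Finite) {U : X.Opens} (hZU : Z ⊆ U) :
    ∃ s : Coh.structureModule X ⟶ L,
      IsAffineOpen (CohB1.genLocus L s) ∧ Z ⊆ CohB1.genLocus L s ∧ CohB1.genLocus L s ≤ U := by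
  classical
  let Z₀ : Set X := {z ∈ Z | ∀ w ∈ Z, z ⤳ w → w = z}
  have hcov : ∀ z ∈ Z, ∃ w ∈ Z₀, z ⤳ w := fun z hz => by
    letI : Preorder X := specializationPreorder X
    obtain ⟨w, hzw, hw⟩ := (hZ.subset (Set.sep_subset Z (fun w => z ⤳ w))).exists_minimal ⟨z, hz, specializes_rfl⟩
    refine ⟨w, ⟨hzw.1, fun v hv hwv => ?_⟩, hzw.2⟩
    have := hw ⟨hv, hzw.2.trans hwv⟩ hwv
    exact (inseparable_iff_specializes_and.2 ⟨hwv, this⟩).eq.symm
  haveI : Fintype Z₀ := (hZ.subset (Set.sep_subset _ _)).fintype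
  have hx : ∀ z : Z₀, ∃ σ : Coh.structureModule X ⟶ L,
      z.1 ∈ CohB1.genLocus _ σ ∧ CohB1.genLocus _ σ ≤ U ∧ (∀ w : Z₀, w ≠ z → w.1 ∉ CohB1.genLocus _ σ) ∧
        IsAffineOpen (CohB1.genLocus _ σ) := fun z => by
    let C : Set X := ⋃ w ∈ ({z}ᶜ : Set Z₀), closure {w.1}
    have hC : IsClosed C := (Set.toFinite _).isClosed_biUnion fun _ _ => isClosed_closure
    have hzC : z.1 ∉ C := fun hz => by
      obtain ⟨w, hw, hzw⟩ := Set.mem_iUnion₂.1 hz
      exact hw (Subtype.ext (w.2.2 z.1 z.2.1 (specializes_iff_mem_closure.2 hzw)).symm)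
    obtain ⟨σ, h1, h2, h3⟩ := exists_section_genLocus_small hL (W := U ⊓ ⟨Cᶜ, hC.isOpen_compl⟩) ⟨hZU z.2.1, hzC⟩
    exact ⟨σ, h1, h2.trans inf_le_left, fun w hw hwσ => (h2 hwσ).2 (Set.mem_iUnion₂.2 ⟨w, hw, subset_closure rfl⟩), h3⟩
  choose t hmem hle hne haff using hx
  obtain ⟨hA, hsub⟩ := isAffineOpen_genLocus_sum hL t haff
  refine ⟨secHom _ (∑ z, sec (t z)), hA, fun z hz => ?_, hsub.trans (iSup_le hle)⟩
  obtain ⟨w, hw, hzw⟩ := hcov z hz
  exact hzw.mem_open (Opens.isOpen _) (mem_genLocus_sum hL t (z := ⟨w, hw⟩) (hmem _)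
    fun v hv h' => hne v ⟨w, hw⟩ (Ne.symm hv) h')

end Groth.Agent.AmpleEmb
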