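import Groth.Agent.AmpleEmb.Sections
import Groth.Agent.AmpleEmb.Inverse
import Groth.Agent.ProjCoh.MulData
import Groth.Agent.ProjCoh.Cohom
import Groth.Agent.CurveLib.Components

/-!
# Serre vanishing for ample modules on proper schemes over a Noetherian ring
-/

set_option autoImplicit false
set_option backward.isDefEq.respectTransparency false
set_option linter.style.haveILetI false

universe u

open CategoryTheory CategoryTheory.Limits AlgebraicGeometry TopologicalSpace Opposite
open Groth.Agent.PullbackMod Groth.Agent.DCohLib Groth.Agent.ParaFLib Groth.Agent.AmpleLib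

noncomputable section

namespace Groth.Agent.AmpleEmb

variable {X : Scheme.{u}} {R : Type u} [CommRing R] {φ : R →+* Γ(X, ⊤)} {L : X.Modules} (E : Emb φ L)

theorem Emb.iSup_eq_top : iSup (fun i => CohB1.genLocus E.P (E.s i)) = ⊤ :=
  eq_top_iff.2 fun x _ => by
    obtain ⟨i, -, hi⟩ := E.cover x
    exact Opens.mem_iSup.2 ⟨i, hi⟩

/-- The ratios of the sections. -/
def Emb.family : RatioFamily X E.n where
  U i := CohB1.genLocus E.P (E.s i)
  affine := E.affine
  cover := E.iSup_eq_top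
  t := E.t
  t_self i := by
    refine ((gen_genLocus E.inv (E.s i)) _ le_rfl).1 ?_
    simp only [resT, res_res]
    exact (E.ht i i).trans (one_smul _ _).symm
  t_open i a := (genLocus_inf_eq_basicOpen (E.s a) (gen_genLocus E.inv (E.s i)) (E.ht i a)).symm.trans (inf_comm _ _)
  t_mul i j a := by
    refine (((gen_genLocus E.inv (E.s j)).res (inf_le_right : CohB1.genLocus E.P (E.s i) ⊓
      CohB1.genLocus E.P (E.s j) ≤ _)) _ le_rfl).1 ?_
    have e1 := congrArg (E.P.presheaf.map (homOfLE (inf_le_right : CohB1.genLocus E.P (E.s i) ⊓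
      CohB1.genLocus E.P (E.s j) ≤ _)).op) (E.ht j a)
    have e2 := congrArg (E.P.presheaf.map (homOfLE (inf_le_right : CohB1.genLocus E.P (E.s i) ⊓
      CohB1.genLocus E.P (E.s j) ≤ _)).op) (E.ht j i)
    have e3 := congrArg (E.P.presheaf.map (homOfLE (inf_le_left : CohB1.genLocus E.P (E.s i) ⊓
      CohB1.genLocus E.P (E.s j) ≤ _)).op) (E.ht i a)
    rw [E.P.map_smul, resT, resT, res_res, res_res] at e1 e2 e3
    simp only [resT, res_res]
    rw [mul_comm, mul_smul, e1, e2, e3]

theorem Emb.genAt (f : X ⟶ Spec (CommRingCat.of R))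
    (hf : (Scheme.ΓSpecIso (CommRingCat.of R)).inv ≫ f.appTop = CommRingCat.ofHom φ) [IsProper f]
    (i : Fin (E.n + 1)) : GenAt φ E.family i :=
  genAt_all φ E.family f hf E.G E.gen E.cover i

theorem stalkLin_ext_oneG {M : X.Modules} (x : X) {g h : (Coh.structureModule X).presheaf.stalk x →ₗ[X.presheaf.stalk x] M.presheaf.stalk x}
    (e : g (oneG x) = h (oneG x)) : g = h := LinearMap.ext fun z => by
  obtain ⟨r, rfl⟩ := (bijective_oneG x).2 z
  rw [map_smul, map_smul, e]

/-- Multiplication by a section. -/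
def mulGen {P Q Q' : X.Modules} (s : Coh.structureModule X ⟶ P) (θ : tmod P Q ≅ Q') : Q ⟶ Q' :=
  (CurveLib.tmodUnit Q).inv ≫ ((DCoh.tensorBi (X := X)).map s).app Q ≫ θ.hom

theorem bijective_mulGen {P Q Q' : X.Modules} (hP : PicF.IsInvertible P) (s : Coh.structureModule X ⟶ P)
    (θ : tmod P Q ≅ Q') {x : X} (hx : x ∈ CohB1.genLocus P s) :
    Function.Bijective (stalkLin (mulGen s θ) x) := by
  unfold mulGen
  rw [stalkLin_comp, stalkLin_comp]
  refine ((isIso_iff_stalk _).1 inferInstance x).comp (Function.Bijective.comp ?_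
    ((isIso_iff_stalk _).1 inferInstance x))
  have hb := CurveLib.bijective_stalkLin_of_mem_genLocus hP hx
  have hcomp : (stalkLin (((DCoh.tensorBi (X := X)).map s).app Q) x) ∘
      (stalkTensor x (Coh.structureModule X) Q) =
      (stalkTensor x P Q) ∘ (LinearMap.rTensor _ (stalkLin s x)) :=
    funext fun w => stalkTensor_natural_left x s w
  refine (Function.Bijective.of_comp_iff _ (stalkTensor x (Coh.structureModule X) Q).bijective).1 ?_
  rw [hcomp]
  exact (stalkTensor x P _).bijective.comp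
    (LinearEquiv.rTensor _ (LinearEquiv.ofBijective _ hb)).bijective

theorem ratio_mulGen {P Q Q' : X.Modules} (s s' : Coh.structureModule X ⟶ P) (θ : tmod P Q ≅ Q')
    {x : X} (c : X.presheaf.stalk x) (h : stalkLin s' x = c • stalkLin s x) (z : Q.presheaf.stalk x) :
    stalkLin (mulGen s' θ) x z = c • stalkLin (mulGen s θ) x z := by
  unfold mulGen
  simp only [stalkLin_comp, LinearMap.comp_apply]
  obtain ⟨w, hw⟩ := (stalkTensor x (Coh.structureModule X) Q).surjective (stalkLin (CurveLib.tmodUnit Q).inv x z)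
  rw [← hw, stalkTensor_natural_left, stalkTensor_natural_left, h, LinearMap.rTensor_smul,
    LinearMap.smul_apply, map_smul, map_smul]

theorem Emb.stalkLin_s (i a : Fin (E.n + 1)) (x : X) (hx : x ∈ CohB1.genLocus E.P (E.s i)) :
    stalkLin (E.s a) x = X.presheaf.germ (CohB1.genLocus E.P (E.s i)) x hx (E.t i a) • stalkLin (E.s i) x := by
  refine stalkLin_ext_oneG x ?_
  have hone : ∀ u : Coh.structureModule X ⟶ E.P,
      stalkLin u x (oneG x) = E.P.presheaf.germ ⊤ x trivial (sec u) := fun u =>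
    stalkLin_germ u (U := ⊤) x trivial _
  rw [LinearMap.smul_apply, hone, hone]
  have h1 := congrArg (E.P.presheaf.germ (CohB1.genLocus E.P (E.s i)) x hx) (E.ht i a)
  rw [germ_smul', TopCat.Presheaf.germ_res_apply, TopCat.Presheaf.germ_res_apply] at h1
  exact h1.symm

/-- Integer powers of the module with multiplication by the sections. -/
def Emb.mulData {N : X.Modules} (e : CohB1.tensorMod E.P N ≅ Coh.structureModule X) :
    ProjCoh.MulData X (Fin (E.n + 1)) where
  U i := CohB1.genLocus E.P (E.s i)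
  cover := E.iSup_eq_top
  F := pw E.P N
  μ i d := mulGen (E.s i) (pwStep e (d - 1) ≪≫ eqToIso (congrArg (pw E.P N) (sub_add_cancel d 1)))
  t := E.t
  t_open := E.family.t_open
  bij i d x hx := by
    exact bijective_mulGen E.inv (E.s i) _ hx
  ratio i a d x hx z := by
    exact ratio_mulGen (E.s i) (E.s a) _ _ (E.stalkLin_s i a x hx) z

theorem Emb.isAffineOpen_inf : ∀ S : Finset (Fin (E.n + 1)), S.Nonempty →
    IsAffineOpen (S.inf fun i => CohB1.genLocus E.P (E.s i)) := by
  intro S hS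
  induction hS using Finset.Nonempty.cons_induction with
  | singleton a =>
    rw [Finset.inf_singleton]
    exact E.affine a
  | cons a S ha _ ih =>
    rw [Finset.inf_cons]
    exact isAffineOpen_inf_genLocus E.inv (E.s a) ih

theorem exists_vanishing_pos [IsNoetherianRing R] (f : X ⟶ Spec (CommRingCat.of R)) [IsProper f]
    (hf : (Scheme.ΓSpecIso (CommRingCat.of R)).inv ≫ f.appTop = CommRingCat.ofHom φ)
    {M : X.Modules} (hM : Coh.IsCoh M) :
    ∃ n₀ : ℕ, ∀ n, n₀ ≤ n → ∀ p, 0 < p → Subsingleton (Coh.HH X (tmod M (CohB1.tensorPow E.P n)) p) := by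
  haveI : IsLocallyNoetherian X := LocallyOfFiniteType.isLocallyNoetherian f
  obtain ⟨N, hN, ⟨e⟩⟩ := exists_isInverseOf E.inv
  let T₀ := (E.mulData e).tensor M
  have h0 : Coh.IsCoh (T₀.F 0) := CurveLib.isCoh_tmod hM (DevLib.isCoh_structureModule X)
  let T := T₀.toTwistData h0.1 E.isAffineOpen_inf
  have hgen : T.RatioGenerated φ := E.genAt f hf
  have hfin : ∀ i, Module.Finite Γ(X, T.U i) Γ(T.F 0, T.U i) := fun i =>
    QCohLib.finite_sections_of_isCoh h0 (E.affine i)
  have hp : ∀ p : ℕ, ∃ d₀ : ℤ, ∀ d, d₀ ≤ d → 0 < p → Subsingleton (Coh.HH X (T.F d) p) := fun p => by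
    by_cases hp : 0 < p
    · obtain ⟨d₀, h⟩ := T.exists_subsingleton_HH φ hgen hfin p hp
      exact ⟨d₀, fun d hd _ => h d hd⟩
    · exact ⟨0, fun d _ h => absurd h hp⟩
  choose d₀ hd₀ using hp
  let m := (Finset.range (E.n + 2)).sup fun p => (d₀ p).toNat
  refine ⟨m, fun n hn p hp => ?_⟩
  by_cases hpn : p ≤ E.n + 1
  · refine hd₀ p (Int.ofNat n) ?_ hp
    have h1 : (d₀ p).toNat ≤ m := Finset.le_sup (f := fun p => (d₀ p).toNat) (Finset.mem_range.2 (by omega))
    show d₀ p ≤ (n : ℤ)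
    omega
  · obtain ⟨q, rfl⟩ : ∃ q, p = q + 1 := ⟨p - 1, by omega⟩
    exact T.subsingleton_HH_of_card_le (Int.ofNat n) q (by simp; omega)

/-- Serre vanishing. -/
theorem serre_vanishing {R : Type u} [CommRing R] [IsNoetherianRing R] {X : Scheme.{u}}
    (f : X ⟶ Spec (CommRingCat.of R)) [IsProper f] {L : X.Modules} (h : CohB1.IsAmple L)
    {M : X.Modules} (hM : Coh.IsCoh M) :
    ∃ n₀ : ℕ, ∀ n, n₀ ≤ n → ∀ p, 0 < p → Subsingleton (Coh.HH X (tmod M (CohB1.tensorPow L n)) p) := by
  haveI : IsLocallyNoetherian X := LocallyOfFiniteType.isLocallyNoetherian f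
  haveI := h.2.1
  haveI : IsNoetherian X := { }
  rcases isEmpty_or_nonempty X with hX | hX
  · refine ⟨0, fun n _ p hp => CurveLib.subsingleton_HH_of_dim _ (d := 0) ?_ hp⟩
    refine Order.krullDim_nonpos_iff_forall_isMax.2 fun Z => ?_
    obtain ⟨x, -⟩ := Z.isIrreducible.1
    exact (hX.false x).elim
  let φ : R →+* Γ(X, ⊤) := ((Scheme.ΓSpecIso (CommRingCat.of R)).inv ≫ f.appTop).hom
  obtain ⟨E⟩ := exists_emb h f φ rfl
  have hr : ∀ r : ℕ, ∃ n₀ : ℕ, ∀ n, n₀ ≤ n → ∀ p, 0 < p →
      Subsingleton (Coh.HH X (tmod (tmod M (CohB1.tensorPow L r)) (CohB1.tensorPow E.P n)) p) := fun r =>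
    exists_vanishing_pos E f rfl
      (CurveLib.isCoh_tmod hM (CurveLib.isCoh_of_isInvertible (isInvertible_tensorPow h.1 r)))
  choose n₀ hn₀ using hr
  let m := (Finset.range E.D).sup n₀
  refine ⟨E.D * (m + 1), fun n hn p hp => ?_⟩
  have h1 := Nat.div_add_mod n E.D
  have hr : n % E.D < E.D := Nat.mod_lt n E.hD
  have hq : m ≤ n / E.D := ((Nat.le_div_iff_mul_le E.hD).2 (by rw [mul_comm]; omega)).trans' (Nat.le_succ m)
  refine CurveLib.subsingleton_HH_iso ?_ p
    (hn₀ (n % E.D) (n / E.D) ((Finset.le_sup (Finset.mem_range.2 hr)).trans hq) p hp)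
  exact AmpleLib.assoc _ _ _ ≪≫ AmpleLib.tIso (Iso.refl M)
    (AmpleLib.tIso (Iso.refl _) (AmpleLib.powCongr E.iso _ ≪≫ AmpleLib.powMul L E.D _) ≪≫
      (AmpleLib.powAdd L (n % E.D) (E.D * (n / E.D))).symm ≪≫
        eqToIso (congrArg (CohB1.tensorPow L) ((add_comm _ _).trans h1)))

end Groth.Agent.AmpleEmb
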