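import Groth.Agent.CurveLib.IntegralCrit
import Groth.Agent.BCLib.TensorFun
import Groth.Agent.ProperFin.Main
import Groth.Agent.QcInjLib.Scheme

/-!
# Ampleness on the closed fibre of a proper scheme over a local ring
-/

set_option autoImplicit false
set_option backward.isDefEq.respectTransparency false
set_option linter.style.haveILetI false

universe u

open CategoryTheory CategoryTheory.Limits AlgebraicGeometry TopologicalSpace Opposite
open Groth.Agent.PullbackMod Groth.Agent.DCohLib

noncomputable section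

namespace Groth.Agent.AmpleEmb

variable {X : Scheme.{u}}

theorem smulModΓ_natural {M N : X.Modules} (f : M ⟶ N) (r : Coh.Γtop X) :
    Formal.smulModΓ M r ≫ f = f ≫ Formal.smulModΓ N r := by
  refine Scheme.Modules.hom_ext _ _ fun U => AddCommGrpCat.hom_ext (AddMonoidHom.ext fun s => ?_)
  exact Scheme.Modules.Hom.app_smul f _ s

/-- A global function which is nonzero on an integral closed subscheme acts injectively on its modules. -/
theorem mono_smulModΓ_pushUnit {Z : Scheme.{u}} [IsIntegral Z] (i : Z ⟶ X) (r : Γ(X, ⊤))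
    (hr : i (genericPoint Z) ∈ X.basicOpen r) :
    Mono (Formal.smulModΓ ((Scheme.Modules.pushforward i).obj (Coh.structureModule Z)) r) := by
  refine QcInjLib.mono_of_app_injective _ fun V => (injective_iff_map_eq_zero _).2 fun s hs => ?_
  let s' : Γ(Z, i ⁻¹ᵁ V) := s
  have hs' : (i.app V).hom (X.presheaf.map (homOfLE (le_top : V ≤ ⊤)).op r) * s' = 0 := hs
  show s' = 0
  by_cases hne : genericPoint Z ∈ i ⁻¹ᵁ V
  · haveI : Nonempty (i ⁻¹ᵁ V).toScheme := ⟨⟨_, hne⟩⟩
    haveI : IsDomain Γ(Z, i ⁻¹ᵁ V) := IsIntegral.component_integral (i ⁻¹ᵁ V)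
    refine (mul_eq_zero.mp hs').resolve_left fun h0 => ?_
    have h2 : genericPoint Z ∈ Z.basicOpen ((i.app V).hom (X.presheaf.map (homOfLE (le_top : V ≤ ⊤)).op r)) := by
      rw [← Scheme.preimage_basicOpen, Scheme.basicOpen_res]
      exact ⟨hne, hr⟩
    rw [h0, Scheme.basicOpen_zero] at h2
    exact h2
  · have hb : i ⁻¹ᵁ V = ⊥ := le_bot_iff.1 fun z hz =>
      (hne ((genericPoint_specializes z).mem_open (i ⁻¹ᵁ V).2 hz)).elim
    haveI : Subsingleton Γ(Z, i ⁻¹ᵁ V) := by
      rw [hb]
      exact CommRingCat.subsingleton_of_isTerminal Z.sheaf.isTerminalOfEmpty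
    exact Subsingleton.elim (α := Γ(Z, i ⁻¹ᵁ V)) _ _

/-- Cohomology of the first term surjects if that of the last term vanishes. -/
theorem surjective_H_map {T : ShortComplex (Sheaf (Opens.grothendieckTopology X) AddCommGrpCat.{u})}
    (hT : T.ShortExact) (p : ℕ) (h : Subsingleton (Sheaf.H T.X₃ p)) :
    Function.Surjective (Sheaf.H.map T.f p) := by
  intro x
  haveI := h
  have h0 : x.comp (Abelian.Ext.mk₀ T.g) (add_zero p) = 0 :=
    Subsingleton.elim (α := Sheaf.H T.X₃ p) _ _
  exact Abelian.Ext.covariant_sequence_exact₂ _ hT x h0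

variable {A : Type u} [CommRing A]

/-- Nakayama: multiplication by an element of the radical cannot have a cokernel without `H¹`
unless `H¹` vanishes. -/
theorem subsingleton_HH_of_coker [IsLocalRing A] (f : X ⟶ Spec (CommRingCat.of A)) {a : A}
    (ha : a ∈ IsLocalRing.maximalIdeal A) {N C : X.Modules} (π : N ⟶ C)
    (w : Formal.smulModΓ N (Coh.toGlobal f a) ≫ π = 0)
    (hS : (ShortComplex.mk _ π w).ShortExact) (p : ℕ)
    (hfin : @Module.Finite A (Coh.HH X N p) _ _ (Module.compHom _ (Coh.toGlobal f)))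
    (hC : Subsingleton (Coh.HH X C p)) : Subsingleton (Coh.HH X N p) := by
  letI : Module A (Coh.HH X N p) := Module.compHom _ (Coh.toGlobal f)
  haveI := hfin
  have htop : (⊤ : Submodule A (Coh.HH X N p)) ≤ IsLocalRing.maximalIdeal A • ⊤ := by
    intro x _
    obtain ⟨y, hy⟩ := surjective_H_map (QCohLib.toAb_shortExact hS) p hC x
    let y' : Coh.HH X N p := y
    have hxy : x = a • y' := hy.symm
    rw [hxy]
    exact Submodule.smul_mem_smul ha Submodule.mem_top
  have hbot := Submodule.eq_bot_of_le_smul_of_le_jacobson_bot (IsLocalRing.maximalIdeal A)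
    (⊤ : Submodule A (Coh.HH X N p)) Module.Finite.fg_top htop
    (IsLocalRing.maximalIdeal_le_jacobson _)
  exact subsingleton_of_forall_eq 0 fun x => (Submodule.mem_bot A).1 (hbot ▸ Submodule.mem_top)

variable [IsNoetherianRing A] [IsLocalRing A] (f : X ⟶ Spec (CommRingCat.of A)) [IsProper f]

/-- The piece of the dévissage which is not in the closed fibre. -/
theorem evVanish_of_smaller {L : X.Modules} (hL : PicF.IsInvertible L) {a : A}
    (ha : a ∈ IsLocalRing.maximalIdeal A) {ξ : X} (haξ : ξ ∈ X.basicOpen (Coh.toGlobal f a))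
    {N : X.Modules} (hN : Coh.IsCoh N) (hsupp : ∀ y ∈ CohB1.support N, ξ ⤳ y)
    [Mono (Formal.smulModΓ N (Coh.toGlobal f a))] (hsm : DevLib.SmallerOK (CurveLib.EvVanish L) ξ) :
    CurveLib.EvVanish L N := by
  haveI : IsLocallyNoetherian X := LocallyOfFiniteType.isLocallyNoetherian f
  haveI : CompactSpace X := QuasiCompact.compactSpace_of_compactSpace f
  haveI : IsNoetherian X := { }
  let φ := Formal.smulModΓ N (Coh.toGlobal f a)
  have hC : Coh.IsCoh (cokernel φ) := (QCohLib.isCoh_kernel_cokernel φ hN hN).2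
  obtain ⟨n₀, hn₀⟩ := hsm (cokernel φ) hC (fun y hy => hsupp y (DevLib.support_coker_subset φ hy)) (by
    rw [DevLib.mem_support_iff, not_not]
    refine DevLib.subsingleton_coker φ fun z => ?_
    obtain ⟨u, hu⟩ : IsUnit (X.presheaf.germ ⊤ ξ trivial (Coh.toGlobal f a)) :=
      (Scheme.mem_basicOpen X (Coh.toGlobal f a) ξ trivial).1 haξ
    refine ⟨(↑u⁻¹ : X.presheaf.stalk ξ) • z, ?_⟩
    rw [BCLib.stalkLin_smulModΓ, ← mul_smul, ← hu, Units.mul_inv, one_smul])
  refine ⟨n₀, fun n hn => ?_⟩
  have hinv := AmpleLib.isInvertible_tensorPow hL n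
  let E := CohB1.tensorPow L n
  have hT := CurveLib.shortExact_tensR (DevLib.cokerSeq_shortExact φ)
    (CurveLib.freeAt_one_of_isInvertible hinv)
  have e : (CurveLib.tensR E).map φ = Formal.smulModΓ (tmod N E) (Coh.toGlobal f a) :=
    BCLib.tensorRightMod_map_smulModΓ E N _
  have w : Formal.smulModΓ (tmod N E) (Coh.toGlobal f a) ≫ (CurveLib.tensR E).map (cokernel.π φ) = 0 := by
    rw [← e]
    exact ((DevLib.cokerSeq φ).map (CurveLib.tensR E)).zero
  refine subsingleton_HH_of_coker f ha _ w ?_ 1 ?_ (hn₀ n hn)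
  · exact ShortComplex.shortExact_of_iso
      (ShortComplex.isoMk (S₁ := (DevLib.cokerSeq φ).map (CurveLib.tensR E))
        (S₂ := ShortComplex.mk _ _ w) (Iso.refl _) (Iso.refl _) (Iso.refl _)
        ((Category.id_comp _).trans (e.symm.trans (Category.comp_id _).symm))
        ((Category.id_comp _).trans (Category.comp_id _).symm)) hT
  · exact ProperFin.allFin_of_isCoh f (tmod N E)
      (CurveLib.isCoh_tmod hN (CurveLib.isCoh_of_isInvertible hinv)) 1

/-- Over a Noetherian local ring, ampleness on the closed fibre gives ampleness. -/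
theorem isAmple_of_closedFibre {L : X.Modules} (hL : PicF.IsInvertible L) {X₀ : Scheme.{u}} (g : X₀ ⟶ X)
    [IsClosedImmersion g] (hg : ∀ x, f x = IsLocalRing.closedPoint A → x ∈ Set.range g)
    (ha : CohB1.IsAmple ((Scheme.Modules.pullback g).obj L)) : CohB1.IsAmple L := by
  haveI : IsLocallyNoetherian X := LocallyOfFiniteType.isLocallyNoetherian f
  haveI : CompactSpace X := QuasiCompact.compactSpace_of_compactSpace f
  haveI : IsNoetherian X := { }
  have hiso : ∀ M N : X.Modules, Nonempty (M ≅ N) → CurveLib.EvVanish L M → CurveLib.EvVanish L N :=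
    fun M N ⟨e⟩ ⟨n₀, hn⟩ =>
      ⟨n₀, fun n hn' => CurveLib.subsingleton_HH_iso ((CurveLib.tensR _).mapIso e) 1 (hn n hn')⟩
  have hext : ∀ S : ShortComplex X.Modules, S.ShortExact → CurveLib.EvVanish L S.X₁ →
      CurveLib.EvVanish L S.X₃ → CurveLib.EvVanish L S.X₂ := by
    rintro S hS ⟨a, ha⟩ ⟨b, hb⟩
    refine ⟨max a b, fun n hn => ?_⟩
    have hT := CurveLib.shortExact_tensR hS
      (CurveLib.freeAt_one_of_isInvertible (AmpleLib.isInvertible_tensorPow hL n))
    exact SerreAff.subsingleton_mid hT 1 (ha n (le_of_max_le_left hn)) (hb n (le_of_max_le_right hn))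
  suffices key : ∀ M, Coh.IsCoh M → CurveLib.EvVanish L M by
    refine CurveLib.isAmple_of_vanishing hL fun J j _ hJ => ?_
    obtain ⟨n₀, hn₀⟩ := key J (QCohLib.isCoh_of_mono j (DevLib.isCoh_structureModule X) hJ)
    have h1 := hn₀ (n₀ + 1) (Nat.le_succ n₀)
    exact ⟨n₀, h1⟩
  intro M hM
  refine DevLib.devissage Set.univ (CurveLib.EvVanish L) hiso ?_ (fun S hS _ _ _ _ => hext S hS) ?_ M hM
    (Set.subset_univ _)
  · intro N hN
    refine ⟨0, fun n _ => ?_⟩
    have hz : IsZero ((QCohLib.toAbF X).obj (tmod N (CohB1.tensorPow L n))) :=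
      (QCohLib.toAbF X).map_isZero ((CurveLib.tensR _).map_isZero hN)
    refine subsingleton_of_forall_eq 0 fun x => ?_
    rw [← Sheaf.H.map_id_apply (x := x), hz.eq_of_src (𝟙 _) 0]
    show x.comp (Abelian.Ext.mk₀ 0) (add_zero 1) = 0
    rw [Abelian.Ext.mk₀_zero, Abelian.Ext.comp_zero]
  · intro ξ _ hξ Q hQ hsm
    let J := Scheme.IdealSheafData.vanishingIdeal (⟨closure {ξ}, isClosed_closure⟩ : Closeds X)
    let Z := J.subscheme
    let i : Z ⟶ X := J.subschemeι
    have hirr : IsIrreducible (closure ({ξ} : Set X)) := isIrreducible_singleton.closure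
    haveI hZ : IsIntegral Z := CurveLib.isIntegral_vanishingIdeal isClosed_closure hirr
    have hr : Set.range i = closure {ξ} := by
      rw [Scheme.IdealSheafData.range_subschemeι, Scheme.IdealSheafData.coe_support_vanishingIdeal]
      rfl
    have hgen : i (genericPoint Z) = ξ := by
      have h1 : IsGenericPoint (i (genericPoint Z)) (closure {ξ}) := by
        have := (genericPoint_spec Z).image i.continuous
        rwa [Set.image_univ, hr, closure_closure] at this
      exact h1.eq isGenericPoint_closure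
    rw [← hgen] at hξ hQ hsm
    refine DevLib.piece_of_ext Set.univ hξ (CurveLib.EvVanish L) (fun S hS _ _ _ _ => hext S hS)
      (DevLib.isPiece_pushUnit i) (fun H q hq hH => ?_) hQ hsm
    haveI := hq
    by_cases hcl : f ξ = IsLocalRing.closedPoint A
    · obtain ⟨I, ι, hι, hIq, ⟨e⟩⟩ := DevLib.exists_ideal_of_mono i q hH.1
      haveI : IsLocallyNoetherian Z := LocallyOfFiniteType.isLocallyNoetherian i
      haveI := hι
      have hker : g.ker ≤ i.ker := by
        rw [Scheme.IdealSheafData.ker_subschemeι]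
        refine Scheme.IdealSheafData.le_support_iff_le_vanishingIdeal.1 fun z hz => ?_
        rw [← SetLike.mem_coe, Scheme.Hom.support_ker]
        refine subset_closure (hg z ?_)
        have hsp : f ξ ⤳ f z := (specializes_iff_mem_closure.2 hz).map f.continuous
        rw [hcl] at hsp
        exact (IsLocalRing.isClosed_singleton_closedPoint A).closure_eq.le hsp.mem_closure
      let h := IsClosedImmersion.lift g i hker
      haveI : IsClosedImmersion (h ≫ g) := by rw [IsClosedImmersion.lift_fac]; infer_instance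
      haveI : IsClosedImmersion h := IsClosedImmersion.of_comp h g
      have hamp : CohB1.IsAmple ((Scheme.Modules.pullback i).obj L) :=
        AmpleLib.isAmple_of_iso ((Scheme.Modules.pullbackComp h g).app L ≪≫
          (Scheme.Modules.pullbackCongr (IsClosedImmersion.lift_fac g i hker)).app L)
          (AmpleLib.isAmple_pullback h ha)
      obtain ⟨n₀, hn₀⟩ := serre_vanishing (i ≫ f) hamp
        (QCohLib.isCoh_of_mono ι (DevLib.isCoh_structureModule Z) hIq)
      refine ⟨n₀, fun n hn => ?_⟩
      have h1 := hn₀ n hn 1 one_pos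
      have h2 : Subsingleton (Coh.HH Z (tmod I ((Scheme.Modules.pullback i).obj (CohB1.tensorPow L n))) 1) :=
        CurveLib.subsingleton_HH_iso (((DCoh.tensorBi (X := Z)).obj I).mapIso (AmpleLib.pullPow i L n).symm) 1 h1
      haveI : Coh.IsQCoh (tmod I ((Scheme.Modules.pullback i).obj (CohB1.tensorPow L n))) :=
        (CurveLib.isCoh_tmod (QCohLib.isCoh_of_mono ι (DevLib.isCoh_structureModule Z) hIq)
          (CurveLib.isCoh_of_isInvertible
            (AmpleLib.isInvertible_pullback i (AmpleLib.isInvertible_tensorPow hL n)))).1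
      obtain ⟨e', -⟩ := ProperFin.exists_pushEquiv i
        (M := tmod I ((Scheme.Modules.pullback i).obj (CohB1.tensorPow L n)))
        (fun _ hV m => CohBase.affine_vanishing _ (hV.preimage i) m) 1
      haveI := h2
      exact CurveLib.subsingleton_HH_iso ((projIso i I (CohB1.tensorPow L n)).symm ≪≫
        (CurveLib.tensR _).mapIso e) 1 e'.symm.toEquiv.subsingleton
    · obtain ⟨a, ha, haξ⟩ : ∃ a ∈ IsLocalRing.maximalIdeal A, a ∉ (f ξ).asIdeal := by
        by_contra hc
        push Not at hc
        exact hcl (PrimeSpectrum.ext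
          ((IsLocalRing.maximalIdeal.isMaximal A).eq_of_le (f ξ).2.ne_top hc).symm)
      have hb : i (genericPoint Z) ∈ X.basicOpen (Coh.toGlobal f a) := by
        show i (genericPoint Z) ∈ X.basicOpen (f.appTop ((Scheme.ΓSpecIso (CommRingCat.of A)).inv a))
        rw [← Scheme.preimage_basicOpen_top, basicOpen_eq_of_affine',
          ← CategoryTheory.ConcreteCategory.comp_apply, Iso.inv_hom_id, hgen]
        exact haξ
      haveI := mono_smulModΓ_pushUnit i (Coh.toGlobal f a) hb
      haveI : Mono (Formal.smulModΓ H (Coh.toGlobal f a)) := by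
        haveI : Mono (Formal.smulModΓ H (Coh.toGlobal f a) ≫ q) := by
          rw [smulModΓ_natural]; infer_instance
        exact mono_of_mono _ q
      exact evVanish_of_smaller f hL ha hb hH (fun y hy => (DevLib.isPiece_pushUnit i).supp y
        (DevLib.support_subset_of_mono q hy)) hsm

end Groth.Agent.AmpleEmb
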