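import Groth.Agent.ProjCoh.Twist
import Groth.Agent.ProjCoh.PSData
import Groth.Agent.ProjMap.Basic
import Groth.Agent.AmpleLib.Pullback
import Groth.Agent.AmpleLib.Basis

/-!
# The coordinate sections of `O(1)` on projective space
-/

set_option autoImplicit false
set_option backward.isDefEq.respectTransparency false
set_option linter.style.haveILetI false

universe u

open CategoryTheory CategoryTheory.Limits AlgebraicGeometry TopologicalSpace Opposite
open Groth.Agent.PullbackMod Groth.Agent.DCohLib Groth.Agent.ParaFLib Groth.Agent.AmpleLib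
open Groth.Agent.ProjCoh

noncomputable section

namespace Groth.Agent.AmpleEmb

variable (n : ℕ) (R : Type u) [CommRing R]

/-- The coordinate forms. -/
def coordForm (a : Fin (n + 1)) : CohB1.polyGrading n R 1 := ⟨MvPolynomial.X a, ProjMap.X_mem a⟩

/-- The standard opens. -/
abbrev stdOpen (a : Fin (n + 1)) : (CohB1.ProjSpace n R).Opens :=
  Proj.basicOpen (CohB1.polyGrading n R) (MvPolynomial.X a)

theorem iSup_stdOpen : ⨆ a, stdOpen n R a = ⊤ :=
  cover_of_adjoin (CohB1.polyGrading n R) (coordForm n R) MvPolynomial.adjoin_range_X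

/-- The coordinate section of `O(1)`. -/
def coordSec (a : Fin (n + 1)) :
    Coh.structureModule (CohB1.ProjSpace n R) ⟶ Twist.twistProjSpace n R 1 :=
  unitToTwist (CohB1.polyGrading n R) ≫
    (show Twist.twist (CohB1.polyGrading n R) 0 ⟶ Twist.twist (CohB1.polyGrading n R) 1 from
      mulTwist (CohB1.polyGrading n R) (coordForm n R a) 1)

/-- The ratio of two coordinates. -/
def coordRatio (i a : Fin (n + 1)) : Γ(CohB1.ProjSpace n R, stdOpen n R i) :=
  ratioSec (CohB1.polyGrading n R) (coordForm n R i) (coordForm n R a)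

theorem basicOpen_coordRatio (i a : Fin (n + 1)) :
    (CohB1.ProjSpace n R).basicOpen (coordRatio n R i a) = stdOpen n R i ⊓ stdOpen n R a :=
  basicOpen_ratioSec _ _

theorem gen_coordSec (i : Fin (n + 1)) : Gen (stdOpen n R i) (resT (sec (coordSec n R i)) (stdOpen n R i)) := by
  intro O hO
  simp only [resT, res_res]
  rw [← funext fun r => app_eq (coordSec n R i) O r]
  exact (mulTwist_bijective (coordForm n R i) 1 hO).comp (unitToTwist_bijective O)

theorem coordRatio_smul (i a : Fin (n + 1)) :
    coordRatio n R i a • resT (sec (coordSec n R i)) (stdOpen n R i) =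
      resT (sec (coordSec n R a)) (stdOpen n R i) := by
  have h : ∀ b, (coordSec n R b).app (stdOpen n R i) (1 : Γ(CohB1.ProjSpace n R, stdOpen n R i)) =
      resT (sec (coordSec n R b)) (stdOpen n R i) := fun b =>
    (app_eq (coordSec n R b) _ 1).trans (one_smul _ _)
  rw [← h, ← h]
  refine Eq.symm ?_
  refine (mulTwist_ratio (coordForm n R i) (coordForm n R a) 1 (stdOpen n R i) le_rfl _).trans ?_
  exact congrArg (· • _) (ConcreteCategory.congr_hom ((CohB1.ProjSpace n R).presheaf.map_id _) _)

theorem genLocus_coordSec (a : Fin (n + 1)) :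
    CohB1.genLocus _ (coordSec n R a) = stdOpen n R a := by
  refine le_antisymm (fun x hx => ?_) (fun x hx => mem_genLocus_iff'.2 ⟨_, hx, gen_coordSec n R a⟩)
  obtain ⟨i, hi⟩ := Opens.mem_iSup.1 ((iSup_stdOpen n R).ge (Opens.mem_top x))
  have h := (genLocus_inf_eq_basicOpen (coordSec n R a) (gen_coordSec n R i) (coordRatio_smul n R i a)).le
    ⟨hx, hi⟩
  rw [basicOpen_coordRatio] at h
  exact h.2

theorem isInvertible_twistOne : PicF.IsInvertible (Twist.twistProjSpace n R 1) :=
  isInvertible_of_gen fun x => by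
    obtain ⟨i, hi⟩ := Opens.mem_iSup.1 ((iSup_stdOpen n R).ge (Opens.mem_top x))
    exact ⟨_, _, hi, gen_coordSec n R i⟩

theorem isAffineOpen_stdOpen (a : Fin (n + 1)) : IsAffineOpen (stdOpen n R a) :=
  Proj.isAffineOpen_basicOpen _ _ (ProjMap.X_mem a) one_pos

theorem isAmple_twistOne : CohB1.IsAmple (Twist.twistProjSpace n R 1) := by
  refine ⟨isInvertible_twistOne n R, ?_, fun x => ?_⟩
  · rw [← isCompact_univ_iff, ← Opens.coe_top, ← iSup_stdOpen n R, Opens.coe_iSup]
    exact isCompact_iUnion fun a => (isAffineOpen_stdOpen n R a).isCompact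
  · obtain ⟨i, hi⟩ := Opens.mem_iSup.1 ((iSup_stdOpen n R).ge (Opens.mem_top x))
    refine ⟨0, coordSec n R i ≫ (powOne _).inv, ?_⟩
    rw [← Iso.symm_hom, show CohB1.genLocus _ (coordSec n R i ≫ (powOne (Twist.twistProjSpace n R 1)).symm.hom) =
      stdOpen n R i from (genLocus_comp_iso _ _).trans (genLocus_coordSec n R i)]
    exact ⟨hi, isAffineOpen_stdOpen n R i⟩

end Groth.Agent.AmpleEmb
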