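import Groth.Agent.AmpleEmb.LocalFibre
import Groth.Agent.AmpleLib.RelLocal
import Groth.Agent.S4366

/-!
# Spreading ampleness from the local ring of the base to a neighbourhood
-/

set_option autoImplicit false
set_option backward.isDefEq.respectTransparency false
set_option linter.style.haveILetI false

universe u

open CategoryTheory CategoryTheory.Limits AlgebraicGeometry TopologicalSpace Opposite
open Groth.Agent.PullbackMod Groth.Agent.ParaFLib Groth.Agent.AmpleLib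
open Groth.Agent.DCohLib hiding res_res

noncomputable section

namespace Groth.Agent.AmpleEmb

variable {X Y : Scheme.{u}}

theorem exists_gen_iff {M : X.Modules} (hM : PicF.IsInvertible M) {O : X.Opens} (s : Γ(M, O)) {x : X}
    (hx : x ∈ O) :
    (Function.Bijective fun r : X.presheaf.stalk x => r • M.presheaf.germ O x hx s) ↔
      ∃ (W : X.Opens) (h : W ≤ O), x ∈ W ∧ Gen W (M.presheaf.map (homOfLE h).op s) := by
  constructor
  · intro hb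
    obtain ⟨W, e, hxW, he⟩ := exists_gen_nhd hM x
    have he' := he.res (inf_le_right : O ⊓ W ≤ W)
    obtain ⟨a, ha⟩ := (he (O ⊓ W) inf_le_right).2 (M.presheaf.map (homOfLE (inf_le_left : O ⊓ W ≤ O)).op s)
    simp only at ha
    have hu : x ∈ X.basicOpen a := by
      refine (X.mem_basicOpen a x ⟨hx, hxW⟩).2 ((bijective_smul_iff (he'.bijective_germ x ⟨hx, hxW⟩) _).1 ?_)
      rw [← germ_smul', ha, TopCat.Presheaf.germ_res_apply]
      exact hb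
    refine ⟨X.basicOpen a, (X.basicOpen_le a).trans inf_le_left, hu, ?_⟩
    have h1 : M.presheaf.map (homOfLE ((X.basicOpen_le a).trans inf_le_left)).op s =
        X.presheaf.map (homOfLE (X.basicOpen_le a)).op a •
          M.presheaf.map (homOfLE ((X.basicOpen_le a).trans inf_le_right)).op e := by
      rw [← res_res (inf_le_left : O ⊓ W ≤ O) (X.basicOpen_le a) s, ← ha, M.map_smul, res_res]
    rw [h1]
    exact (he.res _).smul (RingedSpace.isUnit_res_basicOpen _ a)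
  · rintro ⟨W, h, hxW, hg⟩
    have h1 := hg.bijective_germ x hxW
    rwa [TopCat.Presheaf.germ_res_apply] at h1

variable (f : X ⟶ Y) [IsProper f] [AlgebraicGeometry.IsNoetherian Y] (y : Y)

local notation "g₁" => pullback.fst f (Y.fromSpecStalk y)

omit [IsProper f] [AlgebraicGeometry.IsNoetherian Y] in
theorem mem_range_locBase {x : X} (h : f x ⤳ y) : x ∈ Set.range g₁ := by
  rw [Scheme.Pullback.range_fst, Scheme.range_fromSpecStalk]
  exact h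

/-- An inclusion of opens over the local ring holds over a neighbourhood. -/
theorem exists_nbhd_le {U U' : X.Opens} (h : ∀ z : locBase f y, g₁ z ∈ U' → g₁ z ∈ U) :
    ∃ V : Y.Opens, IsAffineOpen V ∧ y ∈ V ∧ U' ⊓ f ⁻¹ᵁ V ≤ U := by
  classical
  haveI : IsLocallyNoetherian X := LocallyOfFiniteType.isLocallyNoetherian f
  haveI : CompactSpace X := QuasiCompact.compactSpace_of_compactSpace f
  haveI : IsNoetherian X := { }
  let K : Set X := closure ((U' : Set X) \ U)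
  have hcl : IsClosed (f '' K) := f.isClosedMap _ isClosed_closure
  have hy : y ∉ f '' K := by
    rintro ⟨x, hx, hxy⟩
    obtain ⟨S, hirr, hsup⟩ := NoetherianSpace.exists_finset_irreducible (⟨K, isClosed_closure⟩ : Closeds X)
    have hmem : ∀ z, z ∈ K ↔ ∃ k ∈ S, z ∈ k := fun z => by
      rw [← DevLib.mem_sup_closeds, ← hsup]
      rfl
    let S' := S.filter fun k : Closeds X => ((k : Set X) ∩ ((U' : Set X) \ U)).Nonempty
    have hsub : K ⊆ ((S'.sup id : Closeds X) : Set X) := by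
      refine closure_minimal (fun z hz => ?_) (S'.sup id).isClosed
      obtain ⟨k, hk, hzk⟩ := (hmem z).1 (subset_closure hz)
      exact (DevLib.mem_sup_closeds _ _).2 ⟨k, Finset.mem_filter.2 ⟨hk, z, hzk, hz⟩, hzk⟩
    obtain ⟨k, hk, hxk⟩ := (DevLib.mem_sup_closeds _ _).1 (hsub hx)
    obtain ⟨hkS, c, hck, hcU', -⟩ := Finset.mem_filter.1 hk
    obtain ⟨η, hη⟩ := QuasiSober.sober (hirr ⟨k, hkS⟩) k.isClosed
    have h1 : η ∈ U' := (hη.specializes hck).mem_open U'.2 hcU'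
    have h2 : η ∉ U := fun hu => by
      have hηK : η ∈ K := (hmem η).2 ⟨k, hkS, hη.mem⟩
      obtain ⟨w, hw, hw'⟩ := mem_closure_iff.1 hηK U U.2 hu
      exact hw'.2 hw
    obtain ⟨z, rfl⟩ := mem_range_locBase f y
      (show f η ⤳ y from hxy ▸ (hη.specializes hxk).map f.continuous)
    exact h2 (h z h1)
  obtain ⟨_, ⟨V, hV, rfl⟩, hyV, hVK⟩ :=
    Y.isBasis_affineOpens.exists_subset_of_mem_open (show y ∈ (f '' K)ᶜ from hy) hcl.isOpen_compl
  refine ⟨V, hV, hyV, fun x hx => ?_⟩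
  by_contra hxU
  exact hVK hx.2 ⟨x, subset_closure ⟨hx.1, hxU⟩, rfl⟩

omit [IsProper f] [AlgebraicGeometry.IsNoetherian Y] in
theorem bijective_pullStalk_locBase {M : X.Modules} (hM : PicF.IsInvertible M) (z : locBase f y) :
    Function.Bijective (pullStalk g₁ M z) := by
  haveI := Groth.Agent.InvExt.isQCoh_of_isInvertible hM
  haveI := Groth.Agent.S4366.result f y z
  obtain ⟨e, he⟩ := exists_stalk_gen hM (g₁ z)
  have he' := AmpleLib.bijective_pullStalk g₁ z he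
  have hσ := ConcreteCategory.bijective_of_isIso ((g₁).stalkMap z)
  have h : pullStalk g₁ M z ∘ (fun r : X.presheaf.stalk (g₁ z) => r • e) =
      (fun r => r • pullStalk g₁ M z e) ∘ ((g₁).stalkMap z) := funext fun r => pullStalk_smul _ _ _ r e
  refine (Function.Bijective.of_comp_iff _ he).1 ?_
  rw [h]
  exact he'.comp hσ

/-- Sections over the local ring extend over a neighbourhood. -/
theorem exists_section_nbhd {M : X.Modules} (hM : PicF.IsInvertible M)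
    (t : Γ((Scheme.Modules.pullback g₁).obj M, ⊤)) :
    ∃ (V : Y.Opens) (s : Γ(M, f ⁻¹ᵁ V)), IsAffineOpen V ∧ y ∈ V ∧ ∀ (z : locBase f y) (hz : g₁ z ∈ f ⁻¹ᵁ V),
      pullStalk g₁ M z (M.presheaf.germ (f ⁻¹ᵁ V) (g₁ z) hz s) =
        ((Scheme.Modules.pullback g₁).obj M).presheaf.germ ⊤ z trivial t := by
  classical
  let G := (Scheme.Modules.pullback g₁).obj M
  haveI : IsPreimmersion g₁ := MorphismProperty.pullback_fst _ _ inferInstance
  have hloc : ∀ z : locBase f y, ∃ (W : X.Opens) (s : Γ(M, W)), g₁ z ∈ W ∧ ∀ (z' : locBase f y) (h' : g₁ z' ∈ W),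
      pullStalk g₁ M z' (M.presheaf.germ W (g₁ z') h' s) = G.presheaf.germ ⊤ z' trivial t := by
    intro z
    obtain ⟨m, hm⟩ := (bijective_pullStalk_locBase f y hM z).2 (G.presheaf.germ ⊤ z trivial t)
    obtain ⟨U, hU, s, rfl⟩ := TopCat.Presheaf.exists_germ_eq M.presheaf m
    rw [pullStalk_germ' g₁ M z hU (W' := g₁ ⁻¹ᵁ U) hU le_rfl] at hm
    obtain ⟨O, hzO, i₁, i₂, heq⟩ := TopCat.Presheaf.germ_eq G.presheaf z _ _ _ _ hm
    obtain ⟨P, hP, hPO⟩ := (g₁).isEmbedding.isInducing.isOpen_iff.1 O.2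
    have hzP : g₁ z ∈ (⟨P, hP⟩ : X.Opens) := (Set.ext_iff.1 hPO z).2 hzO
    refine ⟨U ⊓ ⟨P, hP⟩, M.presheaf.map (homOfLE inf_le_left).op s, ⟨hU, hzP⟩, fun z' h' => ?_⟩
    have hzO' : z' ∈ O := (Set.ext_iff.1 hPO z').1 h'.2
    rw [TopCat.Presheaf.germ_res_apply, pullStalk_germ' g₁ M z' h'.1 (W' := g₁ ⁻¹ᵁ U) h'.1 le_rfl,
      ← TopCat.Presheaf.germ_res_apply G.presheaf i₁ z' hzO', heq, TopCat.Presheaf.germ_res_apply]
  choose W s hzW hs using hloc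
  haveI : CompactSpace (locBase f y) := QuasiCompact.compactSpace_of_compactSpace (pullback.snd f (Y.fromSpecStalk y))
  obtain ⟨T, hT⟩ := isCompact_univ.elim_finite_subcover (fun z => (g₁ ⁻¹ᵁ W z : Set (locBase f y)))
    (fun z => (g₁ ⁻¹ᵁ W z).2) (fun z _ => Set.mem_iUnion.2 ⟨z, hzW z⟩)
  obtain ⟨V₀, -, hyV₀, hcov⟩ := exists_nbhd_le f y (U := ⨆ a : T, W a.1) (U' := ⊤) fun z _ => by
    obtain ⟨a, ha, hza⟩ := Set.mem_iUnion₂.1 (hT (Set.mem_univ z))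
    exact Opens.mem_iSup.2 ⟨⟨a, ha⟩, hza⟩
  have hov : ∀ a b : T, ∃ V : Y.Opens, y ∈ V ∧ ∀ (x : X) (hx : x ∈ W a.1 ⊓ W b.1), f x ∈ V →
      M.presheaf.germ (W a.1) x hx.1 (s a.1) = M.presheaf.germ (W b.1) x hx.2 (s b.1) := by
    intro a b
    let E : X.Opens := ⨆ p : {O : X.Opens // ∃ h : O ≤ W a.1 ⊓ W b.1,
      M.presheaf.map (homOfLE (h.trans inf_le_left)).op (s a.1) =
        M.presheaf.map (homOfLE (h.trans inf_le_right)).op (s b.1)}, p.1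
    obtain ⟨V, -, hyV, hVE⟩ := exists_nbhd_le f y (U := E) (U' := W a.1 ⊓ W b.1) fun z hz => by
      obtain ⟨O, hO, i₁, i₂, heq⟩ := TopCat.Presheaf.germ_eq M.presheaf (g₁ z) hz.1 hz.2 _ _
        ((bijective_pullStalk_locBase f y hM z).1 ((hs a.1 z hz.1).trans (hs b.1 z hz.2).symm))
      exact Opens.mem_iSup.2 ⟨⟨O, le_inf i₁.le i₂.le, heq⟩, hO⟩
    refine ⟨V, hyV, fun x hx hxV => ?_⟩
    obtain ⟨⟨O, h, heq⟩, hxO⟩ := Opens.mem_iSup.1 (hVE ⟨hx, hxV⟩)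
    rw [← TopCat.Presheaf.germ_res_apply M.presheaf (homOfLE (h.trans inf_le_left)) x hxO,
      ← TopCat.Presheaf.germ_res_apply M.presheaf (homOfLE (h.trans inf_le_right)) x hxO, heq]
  choose Vab hyVab hVab using hov
  obtain ⟨_, ⟨V, hV, rfl⟩, hyV, hVle⟩ := Y.isBasis_affineOpens.exists_subset_of_mem_open
    (show y ∈ (V₀ : Set Y) ∩ ⋂ a, ⋂ b, (Vab a b : Set Y) from
      ⟨hyV₀, Set.mem_iInter.2 fun a => Set.mem_iInter.2 fun b => hyVab a b⟩)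
    (V₀.2.inter (isOpen_iInter_of_finite fun a => isOpen_iInter_of_finite fun b => (Vab a b).2))
  let F : TopCat.Sheaf Ab.{u} X.carrier := ⟨M.presheaf, M.isSheaf⟩
  obtain ⟨σ, hσ, -⟩ := F.existsUnique_gluing' (fun a : T => W a.1 ⊓ f ⁻¹ᵁ V) (f ⁻¹ᵁ V)
    (fun a => homOfLE inf_le_right)
    (fun x hx => by
      obtain ⟨a, ha⟩ := Opens.mem_iSup.1 (hcov (show x ∈ ⊤ ⊓ f ⁻¹ᵁ V₀ from ⟨trivial, (hVle hx).1⟩))
      exact Opens.mem_iSup.2 ⟨a, ha, hx⟩)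
    (fun a => M.presheaf.map (homOfLE inf_le_left).op (s a.1))
    (fun a b => TopCat.Presheaf.section_ext F _ _ _ fun x hx => by
      refine (TopCat.Presheaf.germ_res_apply M.presheaf _ x hx _).trans ?_
      refine Eq.trans ?_ (TopCat.Presheaf.germ_res_apply M.presheaf _ x hx _).symm
      rw [TopCat.Presheaf.germ_res_apply, TopCat.Presheaf.germ_res_apply]
      exact hVab a b x ⟨hx.1.1, hx.2.1⟩ (Set.mem_iInter.1 (Set.mem_iInter.1 (hVle hx.1.2).2 a) b))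
  refine ⟨V, σ, hV, hyV, fun z hz => ?_⟩
  obtain ⟨a, ha⟩ := Opens.mem_iSup.1 (hcov (show g₁ z ∈ ⊤ ⊓ f ⁻¹ᵁ V₀ from ⟨trivial, (hVle hz).1⟩))
  have hmem : g₁ z ∈ W a.1 ⊓ f ⁻¹ᵁ V := ⟨ha, hz⟩
  have h1 := congrArg (M.presheaf.germ (W a.1 ⊓ f ⁻¹ᵁ V) (g₁ z) hmem) (hσ a)
  have h2 := (TopCat.Presheaf.germ_res_apply M.presheaf _ (g₁ z) hmem σ).symm.trans
    (h1.trans (TopCat.Presheaf.germ_res_apply M.presheaf _ (g₁ z) hmem _))
  rw [h2]
  exact hs a.1 z ha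

/-- Near a point over `y` some section of a power has affine non-vanishing locus near `y`. -/
theorem exists_good_section {L : X.Modules} (hL : PicF.IsInvertible L)
    (hamp : CohB1.IsAmple ((Scheme.Modules.pullback g₁).obj L)) {V₀ : Y.Opens} (hyV₀ : y ∈ V₀)
    (z : locBase f y) :
    ∃ (V : Y.Opens) (n : ℕ) (s : Γ(CohB1.tensorPow L (n + 1), f ⁻¹ᵁ V)) (A G : X.Opens),
      y ∈ V ∧ IsAffineOpen A ∧ A ≤ f ⁻¹ᵁ V₀ ∧ g₁ z ∈ G ∧ G ⊓ f ⁻¹ᵁ V ≤ A ∧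
      ∀ x : X, x ∈ G ↔ ∃ (W : X.Opens) (h : W ≤ f ⁻¹ᵁ V), x ∈ W ∧
        Gen W ((CohB1.tensorPow L (n + 1)).presheaf.map (homOfLE h).op s) := by
  have hz₀ : g₁ z ∈ f ⁻¹ᵁ V₀ := by
    show f (g₁ z) ∈ V₀
    rw [← Scheme.Hom.comp_apply, pullback.condition, Scheme.Hom.comp_apply]
    have h := Set.mem_range_self (f := Y.fromSpecStalk y) (pullback.snd f (Y.fromSpecStalk y) z)
    rw [Scheme.range_fromSpecStalk] at h
    exact h.mem_open V₀.2 hyV₀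
  obtain ⟨_, ⟨A, hA, rfl⟩, hzA, hAle⟩ := X.isBasis_affineOpens.exists_subset_of_mem_open hz₀ (f ⁻¹ᵁ V₀).2
  obtain ⟨n, t, hzt, htA, -⟩ := exists_small_genLocus hamp (show z ∈ g₁ ⁻¹ᵁ A from hzA)
  let M := CohB1.tensorPow L (n + 1)
  have hM : PicF.IsInvertible M := AmpleLib.isInvertible_tensorPow hL _
  let t' : Coh.structureModule (locBase f y) ⟶ (Scheme.Modules.pullback g₁).obj M :=
    t ≫ (pullPow g₁ L (n + 1)).inv
  have ht' : CohB1.genLocus _ t' = CohB1.genLocus _ t := genLocus_comp_iso t (pullPow g₁ L (n + 1)).symm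
  obtain ⟨V₁, s, hV₁, hyV₁, hs⟩ := exists_section_nbhd f y hM (sec t')
  let G : X.Opens := ⨆ p : {W : X.Opens // ∃ h : W ≤ f ⁻¹ᵁ V₁, Gen W (M.presheaf.map (homOfLE h).op s)}, p.1
  have hG : ∀ x : X, x ∈ G ↔ ∃ (W : X.Opens) (h : W ≤ f ⁻¹ᵁ V₁), x ∈ W ∧
      Gen W (M.presheaf.map (homOfLE h).op s) := fun x => by
    refine Opens.mem_iSup.trans ⟨?_, ?_⟩
    · rintro ⟨⟨W, h, hg⟩, hxW⟩
      exact ⟨W, h, hxW, hg⟩
    · rintro ⟨W, h, hxW, hg⟩
      exact ⟨⟨W, h, hg⟩, hxW⟩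
  have hin : ∀ w : locBase f y, g₁ w ∈ f ⁻¹ᵁ V₁ := fun w => by
    show f (g₁ w) ∈ V₁
    rw [← Scheme.Hom.comp_apply, pullback.condition, Scheme.Hom.comp_apply]
    have h := Set.mem_range_self (f := Y.fromSpecStalk y) (pullback.snd f (Y.fromSpecStalk y) w)
    rw [Scheme.range_fromSpecStalk] at h
    exact h.mem_open V₁.2 hyV₁
  have hGz : ∀ w : locBase f y, g₁ w ∈ G ↔ w ∈ CohB1.genLocus _ t' := fun w => by
    haveI := Groth.Agent.InvExt.isQCoh_of_isInvertible hM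
    haveI := Groth.Agent.S4366.result f y w
    rw [hG, ← exists_gen_iff hM s (hin w), mem_genLocus_iff (AmpleLib.isInvertible_pullback g₁ hM), ← hs w (hin w)]
    obtain ⟨e, he⟩ := exists_stalk_gen hM (g₁ w)
    obtain ⟨a, ha⟩ := he.2 (M.presheaf.germ (f ⁻¹ᵁ V₁) (g₁ w) (hin w) s)
    simp only at ha
    rw [← ha, bijective_smul_iff he, pullStalk_smul, bijective_smul_iff (AmpleLib.bijective_pullStalk g₁ w he)]
    exact ⟨fun h => h.map ((g₁).stalkMap w).hom, fun h => isUnit_of_map_unit ((g₁).stalkMap w).hom a h⟩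
  obtain ⟨V₂, -, hyV₂, hV₂⟩ := exists_nbhd_le f y (U := A) (U' := G) fun w hw =>
    htA (ht' ▸ (hGz w).1 hw)
  have hle : f ⁻¹ᵁ (V₁ ⊓ V₂) ≤ f ⁻¹ᵁ V₁ := fun x hx => hx.1
  refine ⟨V₁ ⊓ V₂, n, M.presheaf.map (homOfLE hle).op s, A, G ⊓ f ⁻¹ᵁ (V₁ ⊓ V₂), ⟨hyV₁, hyV₂⟩, hA, hAle, ?_, ?_, ?_⟩
  · refine ⟨(hGz z).2 (ht'.symm ▸ hzt), ?_⟩
    refine ⟨hin z, ?_⟩
    have h := Set.mem_range_self (f := Y.fromSpecStalk y) (pullback.snd f (Y.fromSpecStalk y) z)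
    rw [Scheme.range_fromSpecStalk] at h
    show f (g₁ z) ∈ V₂
    rw [← Scheme.Hom.comp_apply, pullback.condition, Scheme.Hom.comp_apply]
    exact h.mem_open V₂.2 hyV₂
  · exact fun x hx => hV₂ ⟨hx.1.1, hx.1.2.2⟩
  · intro x
    constructor
    · rintro ⟨hxG, hxV⟩
      obtain ⟨W, h, hxW, hg⟩ := (hG x).1 hxG
      refine ⟨W ⊓ f ⁻¹ᵁ (V₁ ⊓ V₂), inf_le_right, ⟨hxW, hxV⟩, ?_⟩
      rw [res_res]
      have h1 := hg.res (inf_le_left : W ⊓ f ⁻¹ᵁ (V₁ ⊓ V₂) ≤ W)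
      rwa [res_res] at h1
    · rintro ⟨W, h, hxW, hg⟩
      rw [res_res] at hg
      exact ⟨(hG x).2 ⟨W, h.trans hle, hxW, hg⟩, h hxW⟩

/-- Ampleness on a fibre spreads to a neighbourhood. -/
theorem exists_ampleOn_nbhd {L : X.Modules} (hL : PicF.IsInvertible L)
    (hy : CohB1.IsAmple ((Scheme.Modules.pullback (f.fiberι y)).obj L)) :
    ∃ V : Y.Opens, IsAffineOpen V ∧ y ∈ V ∧ AmpleOn L (f ⁻¹ᵁ V) := by
  classical
  have hamp := isAmple_locBase f hL y hy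
  obtain ⟨_, ⟨W₀, hW₀, rfl⟩, hyV₀, -⟩ :=
    Y.isBasis_affineOpens.exists_subset_of_mem_open (Set.mem_univ y) isOpen_univ
  let V₀ : Y.Opens := W₀
  have hV₀ : IsAffineOpen V₀ := hW₀
  replace hyV₀ : y ∈ V₀ := hyV₀
  choose V n s A G hyV hA hAle hzG hGA hG using exists_good_section f y hL hamp hyV₀
  haveI : CompactSpace (locBase f y) := hamp.2.1
  obtain ⟨T, hT⟩ := isCompact_univ.elim_finite_subcover (fun z => (g₁ ⁻¹ᵁ G z : Set (locBase f y)))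
    (fun z => (g₁ ⁻¹ᵁ G z).2) (fun z _ => Set.mem_iUnion.2 ⟨z, hzG z⟩)
  obtain ⟨V₁, -, hyV₁, hcov⟩ := exists_nbhd_le f y (U := ⨆ a : T, G a.1) (U' := ⊤) fun z _ => by
    obtain ⟨a, ha, hza⟩ := Set.mem_iUnion₂.1 (hT (Set.mem_univ z))
    exact Opens.mem_iSup.2 ⟨⟨a, ha⟩, hza⟩
  obtain ⟨_, ⟨V', hV', rfl⟩, hyV', hV'le⟩ := Y.isBasis_affineOpens.exists_subset_of_mem_open
    (show y ∈ ((V₀ : Set Y) ∩ V₁) ∩ ⋂ a : T, (V a.1 : Set Y) from
      ⟨⟨hyV₀, hyV₁⟩, Set.mem_iInter.2 fun a => hyV a.1⟩)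
    ((V₀.2.inter V₁.2).inter (isOpen_iInter_of_finite fun a => (V a.1).2))
  refine ⟨V', hV', hyV', ?_⟩
  let Z := f ⁻¹ᵁ V'
  refine ⟨ParaFLib.isInvertible_restrict Z.ι hL,
    isCompact_iff_compactSpace.1 (f.isCompact_preimage hV'.isCompact), fun w => ?_⟩
  have hw : w.1 ∈ Z := w.2
  obtain ⟨a, ha⟩ := Opens.mem_iSup.1 (hcov (show w.1 ∈ ⊤ ⊓ f ⁻¹ᵁ V₁ from ⟨trivial, (hV'le hw).1.2⟩))
  have hVV : V' ≤ V a.1 := fun v hv => Set.mem_iInter.1 (hV'le hv).2 a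
  have hZ : Z ≤ f ⁻¹ᵁ V a.1 := fun x hx => hVV hx
  let M := CohB1.tensorPow L (n a.1 + 1)
  have hM : PicF.IsInvertible M := AmpleLib.isInvertible_tensorPow hL _
  let m : Γ(M.restrict Z.ι, ⊤) := M.presheaf.map (homOfLE (Z.ι_image_top.le.trans hZ)).op (s a.1)
  let σ := DCohLib.secHom (M.restrict Z.ι) m ≫ (restrictPow Z.ι L (n a.1 + 1)).hom
  refine ⟨n a.1, σ, ?_⟩
  have hloc : CohB1.genLocus _ σ = Z.ι ⁻¹ᵁ G a.1 := by
    rw [genLocus_comp_iso]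
    ext x
    refine mem_genLocus_iff'.trans ((?_ : _ ↔ _).trans (hG a.1 (Z.ι x)).symm)
    rw [sec_secHom]
    constructor
    · rintro ⟨O, hxO, hO⟩
      have hO' := (gen_restrict_iff Z.ι M O _).1 hO
      exact ⟨Z.ι ''ᵁ O, ((Z.ι.image_mono le_top).trans Z.ι_image_top.le).trans hZ, ⟨x, hxO, rfl⟩,
        (res_res (Z.ι_image_top.le.trans hZ) (Z.ι.image_mono le_top) (s a.1)) ▸ hO'⟩
    · rintro ⟨W, hW, hxW, hg⟩
      refine ⟨Z.ι ⁻¹ᵁ W, hxW, (gen_restrict_iff Z.ι M _ _).2 ?_⟩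
      have hle : Z.ι ''ᵁ (Z.ι ⁻¹ᵁ W) ≤ W := by
        rw [Scheme.Hom.image_preimage_eq_opensRange_inf]; exact inf_le_right
      have h1 := hg.res hle
      rw [res_res] at h1
      exact (congrArg (Gen (L := M) (Z.ι ''ᵁ Z.ι ⁻¹ᵁ W))
        (res_res (Z.ι_image_top.le.trans hZ) (Z.ι.image_mono le_top) (s a.1))).mpr h1
  rw [hloc]
  refine ⟨ha, ?_⟩
  have hB : IsAffineOpen (A a.1 ⊓ Z) := by
    haveI : IsAffine (A a.1).toScheme := hA a.1
    haveI : IsAffine V₀.toScheme := hV₀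
    let φ : (A a.1).toScheme ⟶ V₀.toScheme := IsOpenImmersion.lift V₀.ι ((A a.1).ι ≫ f) (by
      rintro _ ⟨x, rfl⟩
      rw [Scheme.Opens.range_ι]
      exact hAle a.1 x.2)
    have h1 := ((hV'.preimage_of_isOpenImmersion V₀.ι (by
      rw [Scheme.Opens.opensRange_ι]; exact fun v hv => (hV'le hv).1.1)).preimage φ).image_of_isOpenImmersion (A a.1).ι
    rw [show (A a.1).ι ''ᵁ (φ ⁻¹ᵁ (V₀.ι ⁻¹ᵁ V')) = A a.1 ⊓ Z by
      rw [← Scheme.Hom.comp_preimage, IsOpenImmersion.lift_fac, Scheme.Hom.comp_preimage,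
        Scheme.Hom.image_preimage_eq_opensRange_inf, Scheme.Opens.opensRange_ι]] at h1
    exact h1
  have hB' : IsAffineOpen (Z.ι ⁻¹ᵁ (A a.1 ⊓ Z)) :=
    hB.preimage_of_isOpenImmersion Z.ι (by rw [Scheme.Opens.opensRange_ι]; exact inf_le_right)
  have h2 := isAffineOpen_inf_genLocus (AmpleLib.isInvertible_tensorPow
    (ParaFLib.isInvertible_restrict Z.ι hL) _) σ hB'
  rw [hloc] at h2
  rwa [inf_eq_left.2 (fun x hx => ⟨hGA a.1 ⟨hx, hZ x.2⟩, x.2⟩)] at h2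

end Groth.Agent.AmpleEmb
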