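import Groth.Agent.AmpleLib.RelLocal

/-!
# Ampleness on a disjoint union
-/

set_option autoImplicit false
set_option backward.isDefEq.respectTransparency false
set_option linter.style.haveILetI false

universe u

open CategoryTheory CategoryTheory.Limits AlgebraicGeometry TopologicalSpace Opposite
open Groth.Agent.AmpleLib Groth.Agent.PullbackMod Groth.Agent.DCohLib Groth.Agent.ParaFLib

noncomputable section

namespace Groth.Agent.AmpleEmb

/-- A function equal to one on one piece and to zero on the other. -/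
theorem exists_basicOpen_eq_of_isCompl {Z : Scheme.{u}} {A B : Z.Opens} (h : A ⊓ B = ⊥) (h' : A ⊔ B = ⊤) :
    ∃ g : Γ(Z, ⊤), Z.basicOpen g = A := by
  let U : Bool → Z.Opens := fun b => bif b then A else B
  let sf : ∀ b, Γ(Z, U b) := fun b => match b with
    | true => (1 : Γ(Z, A))
    | false => (0 : Γ(Z, B))
  have hcov : (⊤ : Z.Opens) ≤ iSup U := by
    rw [iSup_bool_eq]
    exact h'.ge
  haveI hsub : ∀ O : Z.Opens, O ≤ ⊥ → Subsingleton Γ(Z, O) := fun O hO => by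
    rw [le_bot_iff] at hO
    subst hO
    exact CommRingCat.subsingleton_of_isTerminal Z.sheaf.isTerminalOfEmpty
  have hc : TopCat.Presheaf.IsCompatible Z.presheaf U sf := by
    intro i j
    cases i <;> cases j
    · rfl
    · exact (hsub (B ⊓ A) (inf_comm A B ▸ h.le)).elim _ _
    · exact (hsub (A ⊓ B) h.le).elim _ _
    · rfl
  obtain ⟨g, hg, -⟩ := TopCat.Sheaf.existsUnique_gluing' Z.sheaf U ⊤ (fun i => homOfLE le_top) hcov sf hc
  refine ⟨g, ?_⟩
  have hA : Z.presheaf.map (homOfLE (le_top : A ≤ ⊤)).op g = (1 : Γ(Z, A)) := hg true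
  have hB : Z.presheaf.map (homOfLE (le_top : B ≤ ⊤)).op g = (0 : Γ(Z, B)) := hg false
  have h1 := Z.basicOpen_res g (homOfLE (le_top : A ≤ ⊤)).op
  have h2 := Z.basicOpen_res g (homOfLE (le_top : B ≤ ⊤)).op
  rw [hA, Z.basicOpen_of_isUnit isUnit_one] at h1
  rw [hB, Scheme.basicOpen_zero] at h2
  refine le_antisymm (fun x hx => ?_) (h1.le.trans inf_le_right)
  rcases (h'.ge (Opens.mem_top x) : x ∈ A ⊔ B) with hxA | hxB
  · exact hxA
  · exact False.elim (h2.ge ⟨hxB, hx⟩ : x ∈ (⊥ : Z.Opens))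

theorem ampleOn_pullback_iff {X T : Scheme.{u}} (L : X.Modules) (j : T ⟶ X) [IsOpenImmersion j] (U : T.Opens) :
    AmpleOn ((Scheme.Modules.pullback j).obj L) U ↔ AmpleOn L (j ''ᵁ U) := by
  have h := ampleOn_iff_of_range (L := L) (U.ι ≫ j)
  rw [Scheme.Hom.opensRange_comp, Scheme.Opens.opensRange_ι] at h
  let e : ((Scheme.Modules.pullback j).obj L).restrict U.ι ≅ L.restrict (U.ι ≫ j) :=
    (Scheme.Modules.restrictFunctor U.ι).mapIso (restrictIso j L).symm ≪≫ (restrictComp U.ι j L).symm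
  exact ⟨fun h' => h.1 (isAmple_of_iso e h'), fun h' => isAmple_of_iso e.symm (h.2 h')⟩

theorem ampleOn_sup {X : Scheme.{u}} {L : X.Modules} {U U' : X.Opens} (hd : U ⊓ U' = ⊥)
    (h : AmpleOn L U) (h' : AmpleOn L U') : AmpleOn L (U ⊔ U') := by
  let Z := U ⊔ U'
  haveI : CompactSpace (Z : Scheme.{u}) := by
    refine isCompact_iff_compactSpace.1 ?_
    rw [show ((Z : X.Opens) : Set X) = (U : Set X) ∪ U' from rfl]
    exact (isCompact_of_ampleOn h).union (isCompact_of_ampleOn h')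
  have hAB : Z.ι ⁻¹ᵁ U ⊓ Z.ι ⁻¹ᵁ U' = ⊥ := by
    rw [← Scheme.Hom.preimage_inf, hd]
    exact Opens.ext rfl
  have hAB' : Z.ι ⁻¹ᵁ U ⊔ Z.ι ⁻¹ᵁ U' = ⊤ := Opens.ext (Set.eq_univ_of_forall fun z => z.2)
  have piece : ∀ (V : X.Opens), V ≤ Z → AmpleOn L V → ∀ (W : (Z : Scheme.{u}).Opens), Z.ι ⁻¹ᵁ V = W →
      AmpleOn (L.restrict Z.ι) W := by
    intro V hV hVa W hW
    subst hW
    refine isAmple_of_iso (restrictComp _ _ L) ((ampleOn_iff_of_range _).2 ?_)
    rw [Scheme.Hom.opensRange_comp, Scheme.Opens.opensRange_ι, Scheme.Hom.image_preimage_eq_opensRange_inf,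
      Scheme.Opens.opensRange_ι, inf_eq_right.2 hV]
    exact hVa
  have hL : PicF.IsInvertible (L.restrict Z.ι) := isInvertible_of_locally fun z => by
    rcases (z.2 : z.1 ∈ U ⊔ U') with hz | hz
    · exact ⟨Z.ι ⁻¹ᵁ U, hz, (piece U le_sup_left h _ rfl).1⟩
    · exact ⟨Z.ι ⁻¹ᵁ U', hz, (piece U' le_sup_right h' _ rfl).1⟩
  refine isAmple_of_cover hL fun z => ?_
  rcases (z.2 : z.1 ∈ U ⊔ U') with hz | hz
  · obtain ⟨g, hg⟩ := exists_basicOpen_eq_of_isCompl hAB hAB'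
    exact ⟨g, hg.ge hz, piece U le_sup_left h _ hg.symm⟩
  · obtain ⟨g, hg⟩ := exists_basicOpen_eq_of_isCompl
      (show Z.ι ⁻¹ᵁ U' ⊓ Z.ι ⁻¹ᵁ U = ⊥ by rw [inf_comm]; exact hAB)
      (show Z.ι ⁻¹ᵁ U' ⊔ Z.ι ⁻¹ᵁ U = ⊤ by rw [sup_comm]; exact hAB')
    exact ⟨g, hg.ge hz, piece U' le_sup_right h' _ hg.symm⟩

end Groth.Agent.AmpleEmb
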