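import Groth.Agent.AmpleLib.RelLocal

/-!
# Ampleness of external tensor products
-/

set_option autoImplicit false
set_option backward.isDefEq.respectTransparency false
set_option linter.style.haveILetI false

universe u

open CategoryTheory CategoryTheory.Limits AlgebraicGeometry TopologicalSpace Opposite
open Groth.Agent.AmpleLib Groth.Agent.PullbackMod Groth.Agent.DCohLib Groth.Agent.ParaFLib

noncomputable section

namespace Groth.Agent.AmpleEmb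

variable {X₁ X₂ S : Scheme.{u}}

theorem isAffineOpen_boxOpen (a : X₁ ⟶ S) (b : X₂ ⟶ S) [IsAffine S] {A : X₁.Opens} {B : X₂.Opens}
    (hA : IsAffineOpen A) (hB : IsAffineOpen B) :
    IsAffineOpen (pullback.fst a b ⁻¹ᵁ A ⊓ pullback.snd a b ⁻¹ᵁ B) := by
  haveI : IsAffine A.toScheme := hA
  haveI : IsAffine B.toScheme := hB
  let j := pullback.map (A.ι ≫ a) (B.ι ≫ b) a b A.ι B.ι (𝟙 S) (by simp) (by simp)
  have h : j.opensRange = pullback.fst a b ⁻¹ᵁ A ⊓ pullback.snd a b ⁻¹ᵁ B := by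
    refine Opens.ext ((Scheme.Pullback.range_map _ _ _ _ _ _ _ _ _).trans ?_)
    rw [Scheme.Opens.range_ι, Scheme.Opens.range_ι]
    rfl
  exact h ▸ isAffineOpen_opensRange j

theorem exists_pow_section {X : Scheme.{u}} {L : X.Modules} (hL : PicF.IsInvertible L) {m q k : ℕ}
    (h : (m + 1) * (q + 1) = k) (s : Coh.structureModule X ⟶ CohB1.tensorPow L (m + 1)) :
    ∃ s' : Coh.structureModule X ⟶ CohB1.tensorPow L k, CohB1.genLocus _ s' = CohB1.genLocus _ s := by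
  subst h
  refine ⟨powS s (q + 1) ≫ (powMul L (m + 1) (q + 1)).hom, ?_⟩
  rw [genLocus_comp_iso, genLocus_powS (isInvertible_tensorPow hL (m + 1))]

/-- The external tensor product of ample modules over an affine base is ample. -/
theorem isAmple_ext (a : X₁ ⟶ S) (b : X₂ ⟶ S) [IsAffine S] {L₁ : X₁.Modules} {L₂ : X₂.Modules}
    (h₁ : CohB1.IsAmple L₁) (h₂ : CohB1.IsAmple L₂) :
    CohB1.IsAmple (CohB1.tensorMod ((Scheme.Modules.pullback (pullback.fst a b)).obj L₁)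
      ((Scheme.Modules.pullback (pullback.snd a b)).obj L₂)) := by
  haveI := h₁.2.1
  haveI := h₂.2.1
  haveI : QuasiCompact a := (quasiCompact_iff_compactSpace (f := a)).2 inferInstance
  haveI : CompactSpace ↑(pullback a b) := QuasiCompact.compactSpace_of_compactSpace (pullback.snd a b)
  refine ⟨isInvertible_tensor (isInvertible_pullback _ h₁.1) (isInvertible_pullback _ h₂.1), inferInstance, fun z => ?_⟩
  obtain ⟨n, s, hs, hsa⟩ := h₁.2.2 (pullback.fst a b z)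
  obtain ⟨m, t, ht, hta⟩ := h₂.2.2 (pullback.snd a b z)
  obtain ⟨k, hk⟩ : ∃ k, (n + 1) * (m + 1) = k + 1 :=
    ⟨(n + 1) * (m + 1) - 1, (Nat.succ_pred_eq_of_pos (Nat.mul_pos (Nat.succ_pos n) (Nat.succ_pos m))).symm⟩
  obtain ⟨s', hs'⟩ := exists_pow_section h₁.1 hk s
  obtain ⟨t', ht'⟩ := exists_pow_section h₂.1 ((mul_comm _ _).trans hk) t
  let φ : CohB1.tensorMod ((Scheme.Modules.pullback (pullback.fst a b)).obj (CohB1.tensorPow L₁ (k + 1)))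
      ((Scheme.Modules.pullback (pullback.snd a b)).obj (CohB1.tensorPow L₂ (k + 1))) ≅
      CohB1.tensorPow (CohB1.tensorMod ((Scheme.Modules.pullback (pullback.fst a b)).obj L₁)
        ((Scheme.Modules.pullback (pullback.snd a b)).obj L₂)) (k + 1) :=
    tIso (pullPow _ _ _) (pullPow _ _ _) ≪≫ (powTensor _ _ _).symm
  refine ⟨k, tensorS (pullS (pullback.fst a b) s') (pullS (pullback.snd a b) t') ≫ φ.hom, ?_⟩
  have hloc : CohB1.genLocus _ (tensorS (pullS (pullback.fst a b) s') (pullS (pullback.snd a b) t') ≫ φ.hom) =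
      pullback.fst a b ⁻¹ᵁ CohB1.genLocus _ s ⊓ pullback.snd a b ⁻¹ᵁ CohB1.genLocus _ t := by
    refine (genLocus_comp_iso _ _).trans ?_
    rw [genLocus_tensorS (isInvertible_pullback _ (isInvertible_tensorPow h₁.1 _))
      (isInvertible_pullback _ (isInvertible_tensorPow h₂.1 _)),
      genLocus_pullS _ (isInvertible_tensorPow h₁.1 _), genLocus_pullS _ (isInvertible_tensorPow h₂.1 _), hs', ht']
  rw [hloc]
  exact ⟨⟨hs, ht⟩, isAffineOpen_boxOpen a b hsa hta⟩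

theorem isRelAmple_ext {Y₁ Y₂ : Scheme.{u}} (a₁ : Y₁ ⟶ S) (a₂ : Y₂ ⟶ S) (f₁ : X₁ ⟶ Y₁) (f₂ : X₂ ⟶ Y₂)
    {L₁ : X₁.Modules} {L₂ : X₂.Modules} (h₁ : RelAmple.IsRelAmple f₁ L₁) (h₂ : RelAmple.IsRelAmple f₂ L₂)
    (m : pullback (f₁ ≫ a₁) (f₂ ≫ a₂) ⟶ pullback a₁ a₂) [QuasiCompact m]
    (hm₁ : m ≫ pullback.fst a₁ a₂ = pullback.fst (f₁ ≫ a₁) (f₂ ≫ a₂) ≫ f₁)
    (hm₂ : m ≫ pullback.snd a₁ a₂ = pullback.snd (f₁ ≫ a₁) (f₂ ≫ a₂) ≫ f₂) :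
    RelAmple.IsRelAmple m (CohB1.tensorMod ((Scheme.Modules.pullback (pullback.fst (f₁ ≫ a₁) (f₂ ≫ a₂))).obj L₁)
      ((Scheme.Modules.pullback (pullback.snd (f₁ ≫ a₁) (f₂ ≫ a₂))).obj L₂)) := by
  refine isRelAmple_of_locally fun z => ?_
  obtain ⟨_, ⟨T, hT, rfl⟩, hzT, -⟩ :=
    S.isBasis_affineOpens.exists_subset_of_mem_open (Set.mem_univ (a₁ (pullback.fst a₁ a₂ z))) isOpen_univ
  rename' T => T0
  let T : S.Opens := T0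
  change IsAffineOpen T at hT
  change a₁ (pullback.fst a₁ a₂ z) ∈ T at hzT
  have hzT2 : a₂ (pullback.snd a₁ a₂ z) ∈ T := by
    rw [← Scheme.Hom.comp_apply, ← pullback.condition, Scheme.Hom.comp_apply]; exact hzT
  obtain ⟨_, ⟨W₁, hW₁, rfl⟩, hz₁, hle₁⟩ :=
    Y₁.isBasis_affineOpens.exists_subset_of_mem_open (show pullback.fst a₁ a₂ z ∈ a₁ ⁻¹ᵁ T from hzT) (a₁ ⁻¹ᵁ T).isOpen
  obtain ⟨_, ⟨W₂, hW₂, rfl⟩, hz₂, hle₂⟩ :=
    Y₂.isBasis_affineOpens.exists_subset_of_mem_open (show pullback.snd a₁ a₂ z ∈ a₂ ⁻¹ᵁ T from hzT2) (a₂ ⁻¹ᵁ T).isOpen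
  rename' W₁ => W10, W₂ => W20
  let W₁ : Y₁.Opens := W10
  let W₂ : Y₂.Opens := W20
  change IsAffineOpen W₁ at hW₁
  change IsAffineOpen W₂ at hW₂
  change W₁ ≤ a₁ ⁻¹ᵁ T at hle₁
  change W₂ ≤ a₂ ⁻¹ᵁ T at hle₂
  change pullback.fst a₁ a₂ z ∈ W₁ at hz₁
  change pullback.snd a₁ a₂ z ∈ W₂ at hz₂
  have hV : IsAffineOpen (pullback.fst a₁ a₂ ⁻¹ᵁ W₁ ⊓ pullback.snd a₁ a₂ ⁻¹ᵁ W₂) := by
    haveI : IsAffine W₁.toScheme := hW₁
    haveI : IsAffine W₂.toScheme := hW₂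
    haveI : IsAffine T.toScheme := hT
    let i := pullback.map (a₁.resLE T W₁ hle₁) (a₂.resLE T W₂ hle₂) a₁ a₂ W₁.ι W₂.ι T.ι
      (Scheme.Hom.resLE_comp_ι a₁ hle₁) (Scheme.Hom.resLE_comp_ι a₂ hle₂)
    have hi : i.opensRange = pullback.fst a₁ a₂ ⁻¹ᵁ W₁ ⊓ pullback.snd a₁ a₂ ⁻¹ᵁ W₂ := by
      refine Opens.ext ((Scheme.Pullback.range_map _ _ _ _ _ _ _ _ _).trans ?_)
      rw [Scheme.Opens.range_ι, Scheme.Opens.range_ι]
      rfl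
    exact hi ▸ isAffineOpen_opensRange i
  refine ⟨_, hV, ⟨hz₁, hz₂⟩, ?_⟩
  haveI : IsAffine T.toScheme := hT
  have hA₁ : f₁ ⁻¹ᵁ W₁ ≤ (f₁ ≫ a₁) ⁻¹ᵁ T := fun x hx => hle₁ hx
  have hA₂ : f₂ ⁻¹ᵁ W₂ ≤ (f₂ ≫ a₂) ⁻¹ᵁ T := fun x hx => hle₂ hx
  let j := pullback.map ((f₁ ≫ a₁).resLE T (f₁ ⁻¹ᵁ W₁) hA₁) ((f₂ ≫ a₂).resLE T (f₂ ⁻¹ᵁ W₂) hA₂) (f₁ ≫ a₁) (f₂ ≫ a₂)
    (f₁ ⁻¹ᵁ W₁).ι (f₂ ⁻¹ᵁ W₂).ι T.ι (Scheme.Hom.resLE_comp_ι _ hA₁) (Scheme.Hom.resLE_comp_ι _ hA₂)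
  have hj : j.opensRange = m ⁻¹ᵁ (pullback.fst a₁ a₂ ⁻¹ᵁ W₁ ⊓ pullback.snd a₁ a₂ ⁻¹ᵁ W₂) := by
    rw [Scheme.Hom.preimage_inf, ← Scheme.Hom.comp_preimage, ← Scheme.Hom.comp_preimage, hm₁, hm₂,
      Scheme.Hom.comp_preimage, Scheme.Hom.comp_preimage]
    refine Opens.ext ((Scheme.Pullback.range_map _ _ _ _ _ _ _ _ _).trans ?_)
    rw [Scheme.Opens.range_ι, Scheme.Opens.range_ι]
    rfl
  rw [← hj]
  refine (ampleOn_iff_of_range j).1 ?_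
  have w₁ : j ≫ pullback.fst (f₁ ≫ a₁) (f₂ ≫ a₂) = pullback.fst _ _ ≫ (f₁ ⁻¹ᵁ W₁).ι := pullback.lift_fst ..
  have w₂ : j ≫ pullback.snd (f₁ ≫ a₁) (f₂ ≫ a₂) = pullback.snd _ _ ≫ (f₂ ⁻¹ᵁ W₂).ι := pullback.lift_snd ..
  refine isAmple_of_iso ?_ (isAmple_ext ((f₁ ≫ a₁).resLE T (f₁ ⁻¹ᵁ W₁) hA₁) ((f₂ ≫ a₂).resLE T (f₂ ⁻¹ᵁ W₂) hA₂)
    (h₁.2 ⟨W₁, hW₁⟩) (h₂.2 ⟨W₂, hW₂⟩))
  exact (tIso ((restrictIso j _) ≪≫ ((Scheme.Modules.pullbackComp j _).app L₁) ≪≫ (Scheme.Modules.pullbackCongr w₁).app L₁ ≪≫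
      ((Scheme.Modules.pullbackComp _ _).app L₁).symm ≪≫ (Scheme.Modules.pullback _).mapIso (restrictIso _ L₁).symm)
    ((restrictIso j _) ≪≫ ((Scheme.Modules.pullbackComp j _).app L₂) ≪≫ (Scheme.Modules.pullbackCongr w₂).app L₂ ≪≫
      ((Scheme.Modules.pullbackComp _ _).app L₂).symm ≪≫ (Scheme.Modules.pullback _).mapIso (restrictIso _ L₂).symm)).symm ≪≫
    (restrictTensor j _ _).symm

end Groth.Agent.AmpleEmb
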