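import Groth.Agent.AmpleEmb.Ratio
import Groth.Agent.AmpleEmb.Sections

/-!
# The morphism to projective space given by finitely many generating sections

As in `AmpleEmb.Morph` and `AmpleEmb.Ratio`, for covers that need not consist of affine opens.
-/

set_option autoImplicit false
set_option backward.isDefEq.respectTransparency false
set_option linter.style.haveILetI false

universe u

open CategoryTheory CategoryTheory.Limits AlgebraicGeometry TopologicalSpace Opposite
open Groth.Agent.PullbackMod Groth.Agent.DCohLib Groth.Agent.ParaFLib Groth.Agent.AmpleLib Groth.Agent.ProjMap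
open Groth.Agent.AmpleEmb (constV pt specMap_pt pt_congr stdOpen coordRatio coordForm coordSec gen_resT_of_mem smul_resT_eq coord_pullback_ratio genLocus_coordSec isInvertible_twistOne iSup_stdOpen)

noncomputable section

namespace Groth.Agent.GenMorph

variable {X : Scheme.{u}} {R : Type u} [CommRing R] (φ : R →+* Γ(X, ⊤))

/-- Ring maps into the functions on an open are determined by the morphism to their spectrum. -/
theorem toSpecΓ_cancel (U : X.Opens) {S : CommRingCat.{u}} {a b : S ⟶ Γ(X, U)}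
    (h : U.toSpecΓ ≫ Spec.map a = U.toSpecΓ ≫ Spec.map b) : a = b := by
  have h' := congrArg (fun g => (Scheme.ΓSpecIso S).inv ≫ g.appTop) h
  simp only [Scheme.Hom.comp_appTop, Scheme.Opens.toSpecΓ_appTop] at h'
  simp only [← Category.assoc, cancel_mono] at h'
  simpa only [Category.assoc, ← Scheme.ΓSpecIso_inv_naturality, Category.comp_id, cancel_mono, Iso.cancel_iso_inv_right, ← Scheme.ΓSpecIso_naturality, Iso.inv_hom_id_assoc] using h'

/-- A cover with a compatible system of ratios. -/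
structure RatioFamily (X : Scheme.{u}) (n : ℕ) where
  /-- The cover. -/
  U : Fin (n + 1) → X.Opens
  cover : iSup U = ⊤
  /-- The ratios. -/
  t : ∀ i, Fin (n + 1) → Γ(X, U i)
  t_self : ∀ i, t i i = 1
  t_open : ∀ i a, X.basicOpen (t i a) = U i ⊓ U a
  t_mul : ∀ i j a, X.presheaf.map (homOfLE (inf_le_right : U i ⊓ U j ≤ U j)).op (t j a) =
    X.presheaf.map (homOfLE (inf_le_right : U i ⊓ U j ≤ U j)).op (t j i) *
      X.presheaf.map (homOfLE (inf_le_left : U i ⊓ U j ≤ U i)).op (t i a)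

variable {n : ℕ} (F : RatioFamily X n)

/-- The map on one member of the cover. -/
def piece (i : Fin (n + 1)) : (F.U i).toScheme ⟶ CohB1.ProjSpace n R :=
  (F.U i).toSpecΓ ≫ AmpleEmb.pt φ (F.U i) (F.t i) i (F.t_self i ▸ isUnit_one)

theorem homOfLE_piece {i : Fin (n + 1)} {W : X.Opens} (h : W ≤ F.U i) :
    X.homOfLE h ≫ piece φ F i = W.toSpecΓ ≫
      AmpleEmb.pt φ W (fun a => X.presheaf.map (homOfLE h).op (F.t i a)) i
        ((F.t_self i ▸ isUnit_one).map (X.presheaf.map (homOfLE h).op).hom) := by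
  rw [piece, ← Scheme.Opens.toSpecΓ_SpecMap_presheaf_map_assoc _ _ h, specMap_pt]

theorem piece_compat (i j : Fin (n + 1)) :
    X.homOfLE (inf_le_left : F.U i ⊓ F.U j ≤ F.U i) ≫ piece φ F i =
      X.homOfLE (inf_le_right : F.U i ⊓ F.U j ≤ F.U j) ≫ piece φ F j := by
  rw [homOfLE_piece, homOfLE_piece]
  congr 1
  refine (pt_congr φ _ (fun a => F.t_mul i j a) j i _ _ ?_).symm
  exact isUnit_of_mem_basicOpen (F.t i j) inf_le_left (F.t_open i j).ge
where
  isUnit_of_mem_basicOpen {V W : X.Opens} (f : Γ(X, V)) (h : W ≤ V) (h' : W ≤ X.basicOpen f) :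
      IsUnit (X.presheaf.map (homOfLE h).op f) := by
    have h1 := (RingedSpace.isUnit_res_basicOpen X.toRingedSpace f).map (X.presheaf.map (homOfLE h').op).hom
    have h2 : X.presheaf.map (homOfLE h').op (X.presheaf.map (homOfLE (X.basicOpen_le f)).op f) =
        X.presheaf.map (homOfLE h).op f := by
      rw [← ConcreteCategory.comp_apply, ← Functor.map_comp]
      rfl
    exact h2 ▸ h1

/-- The morphism to projective space. -/
def toProj : X ⟶ CohB1.ProjSpace n R :=
  (X.openCoverOfIsOpenCover F.U F.cover).glueMorphisms (fun i => piece φ F i) fun i j => by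
    have hle : ∀ w, (pullback.fst (F.U i).ι (F.U j).ι ≫ (F.U i).ι) w ∈ F.U i ⊓ F.U j := fun w => by
      refine ⟨(pullback.fst (F.U i).ι (F.U j).ι w).2, ?_⟩
      rw [pullback.condition]
      exact (pullback.snd (F.U i).ι (F.U j).ι w).2
    let k := IsOpenImmersion.lift (F.U i ⊓ F.U j).ι (pullback.fst (F.U i).ι (F.U j).ι ≫ (F.U i).ι)
      (by rintro _ ⟨w, rfl⟩; rw [Scheme.Opens.range_ι]; exact hle w)
    have hk1 : k ≫ X.homOfLE (inf_le_left : F.U i ⊓ F.U j ≤ F.U i) = pullback.fst (F.U i).ι (F.U j).ι := by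
      rw [← cancel_mono (F.U i).ι, Category.assoc, Scheme.homOfLE_ι, IsOpenImmersion.lift_fac]
    have hk2 : k ≫ X.homOfLE (inf_le_right : F.U i ⊓ F.U j ≤ F.U j) = pullback.snd (F.U i).ι (F.U j).ι := by
      rw [← cancel_mono (F.U j).ι, Category.assoc, Scheme.homOfLE_ι, IsOpenImmersion.lift_fac, pullback.condition]
    show pullback.fst (F.U i).ι (F.U j).ι ≫ piece φ F i = pullback.snd (F.U i).ι (F.U j).ι ≫ piece φ F j
    rw [← hk1, ← hk2, Category.assoc, Category.assoc, piece_compat]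

theorem ι_toProj (i : Fin (n + 1)) : (F.U i).ι ≫ toProj φ F = piece φ F i :=
  Scheme.Cover.ι_glueMorphisms (X.openCoverOfIsOpenCover F.U F.cover) _ _ i

theorem toProj_toSpec (f : X ⟶ Spec (CommRingCat.of R))
    (hf : (Scheme.ΓSpecIso (CommRingCat.of R)).inv ≫ f.appTop = CommRingCat.ofHom φ) :
    toProj φ F ≫ CohB1.ProjSpace.toSpec n R = f := by
  refine (X.openCoverOfIsOpenCover F.U F.cover).hom_ext _ _ fun i => ?_
  show (F.U i).ι ≫ _ ≫ _ = (F.U i).ι ≫ f
  rw [← Category.assoc, ι_toProj, piece, Category.assoc, AmpleEmb.pt,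
    @ProjMap.point_toSpec _ _ _ _ _ (constV φ (F.U i)).toAlgebra]
  show (F.U i).toSpecΓ ≫ Spec.map (CommRingCat.ofHom φ ≫
    X.presheaf.map (homOfLE (le_top : F.U i ≤ ⊤)).op) = _
  rw [← hf, Spec.map_comp, Scheme.Opens.toSpecΓ_SpecMap_presheaf_map_top_assoc]
  congr 1
  rw [Spec.map_comp, ← Scheme.toSpecΓ_naturality_assoc, toSpecΓ_SpecMap_ΓSpecIso_inv, Category.comp_id]

theorem preimage_basicOpen (a : Fin (n + 1)) :
    toProj φ F ⁻¹ᵁ Proj.basicOpen (CohB1.polyGrading n R) (MvPolynomial.X a) = F.U a := by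
  refine Opens.ext (Set.ext fun x => ?_)
  obtain ⟨i, hxi⟩ := Opens.mem_iSup.1 (F.cover.ge (Opens.mem_top x))
  letI : Algebra R Γ(X, F.U i) := (constV φ (F.U i)).toAlgebra
  have h1 : (⟨x, hxi⟩ : (F.U i).toScheme) ∈ piece φ F i ⁻¹ᵁ Proj.basicOpen (CohB1.polyGrading n R) (MvPolynomial.X a) ↔
      x ∈ toProj φ F ⁻¹ᵁ Proj.basicOpen (CohB1.polyGrading n R) (MvPolynomial.X a) := by
    rw [← ι_toProj φ F i]
    rfl
  rw [SetLike.mem_coe, ← h1, piece, Scheme.Hom.comp_preimage, AmpleEmb.pt,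
    ProjMap.point_preimage_basicOpen (F.t i) i _ one_pos (X_mem a), MvPolynomial.aeval_X,
    Scheme.Opens.toSpecΓ_preimage_basicOpen, F.t_open]
  exact ⟨fun h => h.2, fun h => ⟨hxi, h⟩⟩

/-- The ring map of the `i`-th chart. -/
def chartHom (i : Fin (n + 1)) :
    HomogeneousLocalization.Away (CohB1.polyGrading n R) (MvPolynomial.X i : MvPolynomial (Fin (n + 1)) R) →+*
      Γ(X, F.U i) :=
  letI : Algebra R Γ(X, F.U i) := (constV φ (F.U i)).toAlgebra
  evalAway (R := R) (F.t i) (MvPolynomial.X i) (by simp [F.t_self])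

theorem le_preimage_stdOpen (i : Fin (n + 1)) : F.U i ≤ toProj φ F ⁻¹ᵁ stdOpen n R i :=
  (preimage_basicOpen φ F i).ge

theorem chartHom_mk (i a : Fin (n + 1)) (h : (MvPolynomial.X a : MvPolynomial (Fin (n + 1)) R) ∈
    CohB1.polyGrading n R (1 • 1)) :
    chartHom φ F i (HomogeneousLocalization.Away.mk _ (ProjMap.X_mem i) 1 (MvPolynomial.X a) h) = F.t i a := by
  letI : Algebra R Γ(X, F.U i) := (constV φ (F.U i)).toAlgebra
  have hu : IsUnit (MvPolynomial.aeval (F.t i) (MvPolynomial.X i : MvPolynomial (Fin (n + 1)) R)) := by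
    simp [F.t_self]
  have h := ProjMap.evalAway_mk (v := F.t i) (ProjMap.X_mem i) hu 1 (MvPolynomial.X a) h
  rwa [MvPolynomial.aeval_X, MvPolynomial.aeval_X, F.t_self, one_pow, mul_one] at h

theorem toProj_appLE_ratio (i a : Fin (n + 1)) :
    (toProj φ F).appLE (stdOpen n R i) (F.U i) (le_preimage_stdOpen φ F i) (coordRatio n R i a) = F.t i a := by
  have h : (MvPolynomial.X a : MvPolynomial (Fin (n + 1)) R) ∈ CohB1.polyGrading n R (1 • 1) := by
    simpa using ProjMap.X_mem (R := R) a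
  rw [show coordRatio n R i a = Proj.awayToSection (CohB1.polyGrading n R) (MvPolynomial.X i)
      (HomogeneousLocalization.Away.mk _ (ProjMap.X_mem i) 1 (MvPolynomial.X a) h) from
      (ProjCoh.awayToSection_ratio _ (coordForm n R i) (coordForm n R a)).symm, ← chartHom_mk φ F i a h]
  let B : Proj (CohB1.polyGrading n R) ⟶ Proj (CohB1.polyGrading n R) := 𝟙 _
  let e := Proj.basicOpenIsoSpec (CohB1.polyGrading n R) (MvPolynomial.X i) (ProjMap.X_mem i) one_pos
  have h1 : (toProj φ F).resLE (stdOpen n R i) (F.U i) (le_preimage_stdOpen φ F i) =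
      (F.U i).toSpecΓ ≫ Spec.map (CommRingCat.ofHom (chartHom φ F i)) ≫ e.inv := by
    rw [← cancel_mono (stdOpen n R i).ι, Scheme.Hom.resLE_comp_ι, ι_toProj, Category.assoc, Category.assoc]
    rfl
  have h2 : (F.U i).toSpecΓ ≫ Spec.map (Proj.awayToSection (CohB1.polyGrading n R) (MvPolynomial.X i) ≫
        (toProj φ F).appLE (stdOpen n R i) (F.U i) (le_preimage_stdOpen φ F i)) =
      (F.U i).toSpecΓ ≫ Spec.map (CommRingCat.ofHom (chartHom φ F i)) := by
    rw [Spec.map_comp, Scheme.Opens.toSpecΓ_SpecMap_appLE_assoc, h1, Category.assoc, Category.assoc]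
    refine congrArg ((F.U i).toSpecΓ ≫ ·) ((congrArg (Spec.map (CommRingCat.ofHom (chartHom φ F i)) ≫ ·) ?_).trans (Category.comp_id _))
    exact e.inv_hom_id
  replace h2 := toSpecΓ_cancel _ h2
  exact congrArg (fun g => g (HomogeneousLocalization.Away.mk _ (ProjMap.X_mem i) 1 (MvPolynomial.X a) h))
    h2

theorem nonempty_iso_of_ratios {P P' : X.Modules} (s : Fin (n + 1) → (Coh.structureModule X ⟶ P))
    (s' : Fin (n + 1) → (Coh.structureModule X ⟶ P'))
    (hgen : ∀ i, Gen (F.U i) (resT (sec (s i)) (F.U i))) (hgen' : ∀ i, Gen (F.U i) (resT (sec (s' i)) (F.U i)))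
    (ht : ∀ i a, F.t i a • resT (sec (s i)) (F.U i) = resT (sec (s a)) (F.U i))
    (ht' : ∀ i a, F.t i a • resT (sec (s' i)) (F.U i) = resT (sec (s' a)) (F.U i)) : Nonempty (P ≅ P') := by
  refine nonempty_iso_of_bases (U := fun i : ULift.{u} (Fin (n + 1)) => F.U i.down)
    (s := fun i => resT (sec (s i.down)) (F.U i.down)) (t := fun i => resT (sec (s' i.down)) (F.U i.down))
    ?_ (fun i => hgen i.down) (fun i => hgen' i.down)
    (fun i j => X.presheaf.map (homOfLE (inf_le_right : F.U i.down ⊓ F.U j.down ≤ F.U j.down)).op (F.t j.down i.down))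
    ?_ ?_
  · exact (eq_top_iff.2 fun x _ => by
      obtain ⟨i, hi⟩ := Opens.mem_iSup.1 (F.cover.ge (Opens.mem_top x))
      exact Opens.mem_iSup.2 ⟨⟨i⟩, hi⟩)
  · rintro ⟨i⟩ ⟨j⟩
    have h := congrArg (P.presheaf.map (homOfLE (inf_le_right : F.U i ⊓ F.U j ≤ F.U j)).op) (ht j i)
    rw [P.map_smul] at h
    simp only [resT, res_res] at h ⊢
    exact h.symm
  · rintro ⟨i⟩ ⟨j⟩
    have h := congrArg (P'.presheaf.map (homOfLE (inf_le_right : F.U i ⊓ F.U j ≤ F.U j)).op) (ht' j i)
    rw [P'.map_smul] at h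
    simp only [resT, res_res] at h ⊢
    exact h.symm

/-- The module of the sections is the inverse image of `O(1)`. -/
theorem nonempty_iso_pullback_twistOne {P : X.Modules} (s : Fin (n + 1) → (Coh.structureModule X ⟶ P))
    (hgen : ∀ i, Gen (F.U i) (resT (sec (s i)) (F.U i)))
    (ht : ∀ i a, F.t i a • resT (sec (s i)) (F.U i) = resT (sec (s a)) (F.U i)) :
    Nonempty (P ≅ (Scheme.Modules.pullback (toProj φ F)).obj (Twist.twistProjSpace n R 1)) :=
  nonempty_iso_of_ratios F s (fun i => pullS (toProj φ F) (coordSec n R i)) hgen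
    (fun i => gen_resT_of_mem (isInvertible_pullback _ (isInvertible_twistOne n R)) _
      ((genLocus_pullS _ (isInvertible_twistOne n R) _).trans
        ((congrArg (toProj φ F ⁻¹ᵁ ·) (genLocus_coordSec n R i)).trans (preimage_basicOpen φ F i))))
    ht (fun i a => smul_resT_eq _ _ (le_preimage_stdOpen φ F i) _ _ (toProj_appLE_ratio φ F i a)
      fun x hx => coord_pullback_ratio (toProj φ F) i a x (le_preimage_stdOpen φ F i hx))

end Groth.Agent.GenMorph
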