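import Groth.Agent.AmpleEmb.FibreAmple
import Groth.Agent.RpushLib.Stalk
import Groth.Agent.RpushLib.ToAb
import Groth.Agent.DCohLib.Adjoint
import Groth.Agent.AmpleLib.Rel

/-!
# Ampleness on a fibre: the local ring of the base
-/

set_option autoImplicit false
set_option backward.isDefEq.respectTransparency false
set_option linter.style.haveILetI false

universe u

open CategoryTheory CategoryTheory.Limits AlgebraicGeometry TopologicalSpace Opposite
open Groth.Agent.PullbackMod Groth.Agent.DCohLib

noncomputable section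

namespace Groth.Agent.AmpleEmb

variable {X Y : Scheme.{u}} (f : X ⟶ Y)

/-- `X` over the local ring of the base at `y`. -/
abbrev locBase (y : Y) : Scheme.{u} := pullback f (Y.fromSpecStalk y)

/-- The fibre, inside `X` over the local ring. -/
def fibreToLocBase (y : Y) : f.fiber y ⟶ locBase f y :=
  pullback.lift (f.fiberι y) (f.fiberToSpecResidueField y ≫ Spec.map (Y.residue y))
    (by rw [Category.assoc]; exact f.fiber_fac y)

theorem fibreToLocBase_fst (y : Y) : fibreToLocBase f y ≫ pullback.fst _ _ = f.fiberι y :=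
  pullback.lift_fst _ _ _

theorem fibreToLocBase_snd (y : Y) : fibreToLocBase f y ≫ pullback.snd _ _ =
    f.fiberToSpecResidueField y ≫ Spec.map (Y.residue y) :=
  pullback.lift_snd _ _ _

theorem isClosedImmersion_fibreToLocBase (y : Y) : IsClosedImmersion (fibreToLocBase f y) := by
  have h : IsPullback (fibreToLocBase f y) (f.fiberToSpecResidueField y)
      (pullback.snd f (Y.fromSpecStalk y)) (Spec.map (Y.residue y)) := by
    refine IsPullback.of_right (h₁₂ := pullback.fst f (Y.fromSpecStalk y)) ?_
      (fibreToLocBase_snd f y) (IsPullback.of_hasPullback f (Y.fromSpecStalk y))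
    rw [fibreToLocBase_fst]
    exact IsPullback.of_hasPullback f (Y.fromSpecResidueField y)
  haveI : IsClosedImmersion (Spec.map (Y.residue y)) :=
    IsClosedImmersion.spec_of_surjective _ (Y.residue_surjective y)
  exact MorphismProperty.of_isPullback (P := @IsClosedImmersion) h.flip inferInstance

theorem mem_range_fibreToLocBase (y : Y) (x : locBase f y)
    (hx : pullback.snd f (Y.fromSpecStalk y) x = IsLocalRing.closedPoint (Y.presheaf.stalk y)) :
    x ∈ Set.range (fibreToLocBase f y) := by
  haveI : IsPreimmersion (pullback.fst f (Y.fromSpecStalk y)) :=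
    MorphismProperty.pullback_fst _ _ inferInstance
  have h1 : f (pullback.fst f (Y.fromSpecStalk y) x) = y := by
    rw [← Scheme.Hom.comp_apply, pullback.condition, Scheme.Hom.comp_apply, hx]
    exact Scheme.fromSpecStalk_closedPoint
  obtain ⟨w, hw⟩ : pullback.fst f (Y.fromSpecStalk y) x ∈ Set.range (f.fiberι y) := by
    rw [f.range_fiberι]
    exact h1
  refine ⟨w, (pullback.fst f (Y.fromSpecStalk y)).isEmbedding.injective ?_⟩
  rw [← Scheme.Hom.comp_apply, fibreToLocBase_fst, hw]

/-- Ampleness on the fibre gives ampleness over the local ring. -/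
theorem isAmple_locBase [IsProper f] [IsNoetherian Y] {L : X.Modules} (hL : PicF.IsInvertible L) (y : Y)
    (hy : CohB1.IsAmple ((Scheme.Modules.pullback (f.fiberι y)).obj L)) :
    CohB1.IsAmple ((Scheme.Modules.pullback (pullback.fst f (Y.fromSpecStalk y))).obj L) := by
  haveI := isClosedImmersion_fibreToLocBase f y
  exact isAmple_of_closedFibre (A := Y.presheaf.stalk y) (pullback.snd f (Y.fromSpecStalk y))
    (AmpleLib.isInvertible_pullback _ hL) (fibreToLocBase f y) (mem_range_fibreToLocBase f y)
    (AmpleLib.isAmple_of_iso (((Scheme.Modules.pullbackComp _ _).app L ≪≫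
      (Scheme.Modules.pullbackCongr (fibreToLocBase_fst f y)).app L).symm) hy)

/-- Ampleness on the fibre kills the stalks of higher direct images of large twists. -/
theorem exists_isZero_stalk_rpushAb [IsProper f] [IsNoetherian Y] {L : X.Modules} (hL : PicF.IsInvertible L)
    {M : X.Modules} (hM : Coh.IsCoh M) (y : Y)
    (hy : CohB1.IsAmple ((Scheme.Modules.pullback (f.fiberι y)).obj L)) :
    ∃ d₀ : ℕ, ∀ d : ℕ, d₀ ≤ d → ∀ p : ℕ, 0 < p →
      IsZero (TopCat.Presheaf.stalk
        ((Coh.RpushAb f p).obj (Coh.toAb (CohB1.tensorMod M (CohB1.tensorPow L d)))).obj y) := by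
  haveI : IsLocallyNoetherian X := LocallyOfFiniteType.isLocallyNoetherian f
  haveI : HasInjectiveResolutions X.Modules := inferInstance
  let g : locBase f y ⟶ X := pullback.fst f (Y.fromSpecStalk y)
  letI : (locBase f y).Over (Spec (CommRingCat.of (Y.presheaf.stalk y))) :=
    ⟨pullback.snd f (Y.fromSpecStalk y)⟩
  obtain ⟨d₀, hd₀⟩ := serre_vanishing (R := Y.presheaf.stalk y) (pullback.snd f (Y.fromSpecStalk y))
    (isAmple_locBase f hL y hy) (PullbackMod.isCoh_pullback g M hM)
  refine ⟨d₀, fun d hd p hp => ?_⟩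
  let Q := CohB1.tensorMod M (CohB1.tensorPow L d)
  have hQ : Coh.IsCoh Q :=
    CurveLib.isCoh_tmod hM (CurveLib.isCoh_of_isInvertible (AmpleLib.isInvertible_tensorPow hL d))
  haveI := hQ.1
  obtain ⟨e⟩ := RpushLib.nonempty_stalk_equiv f Q y p (locBase f y) g
    (IsPullback.of_hasPullback f (Y.fromSpecStalk y))
  haveI := CurveLib.subsingleton_HH_iso ((AmpleLib.pullTensor g M _ ≪≫
    AmpleLib.tIso (Iso.refl _) (AmpleLib.pullPow g L d)).symm) p (hd₀ d hd p hp)
  haveI : Subsingleton (((Coh.Rpush f p).obj Q).presheaf.stalk y) := e.toEquiv.subsingleton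
  refine IsZero.of_iso ?_ ((TopCat.Presheaf.stalkFunctor AddCommGrpCat.{u} y).mapIso
    ((sheafToPresheaf _ _).mapIso ((RpushLib.toAbRpushIso f p).app Q))).symm
  exact AddCommGrpCat.isZero_of_subsingleton (((Coh.Rpush f p).obj Q).presheaf.stalk y)

end Groth.Agent.AmpleEmb
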