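import Groth.Agent.ProjMap.Basic
import Groth.Agent.CompleteCurve.ProjSpace
import Groth.Prelude.Def_Coh

/-!
# The morphism to projective space given by compatible ratios on an affine cover
-/

set_option autoImplicit false
set_option backward.isDefEq.respectTransparency false
set_option linter.style.haveILetI false

universe u

open CategoryTheory CategoryTheory.Limits AlgebraicGeometry TopologicalSpace Opposite
open Groth.Agent.ProjMap

noncomputable section

namespace Groth.Agent.AmpleEmb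

variable {X : Scheme.{u}} {R : Type u} [CommRing R] (φ : R →+* Γ(X, ⊤))

/-- Constants on an open. -/
def constV (V : X.Opens) : R →+* Γ(X, V) := (X.presheaf.map (homOfLE (le_top : V ≤ ⊤)).op).hom.comp φ

theorem res_constV {V W : X.Opens} (h : W ≤ V) (r : R) :
    X.presheaf.map (homOfLE h).op (constV φ V r) = constV φ W r := by
  show X.presheaf.map (homOfLE h).op (X.presheaf.map (homOfLE le_top).op (φ r)) = _
  rw [← ConcreteCategory.comp_apply, ← Functor.map_comp]
  rfl

/-- An affine cover with a compatible system of ratios. -/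
structure RatioFamily (X : Scheme.{u}) (n : ℕ) where
  /-- The cover. -/
  U : Fin (n + 1) → X.Opens
  affine : ∀ i, IsAffineOpen (U i)
  cover : iSup U = ⊤
  /-- The ratios. -/
  t : ∀ i, Fin (n + 1) → Γ(X, U i)
  t_self : ∀ i, t i i = 1
  t_open : ∀ i a, X.basicOpen (t i a) = U i ⊓ U a
  t_mul : ∀ i j a, X.presheaf.map (homOfLE (inf_le_right : U i ⊓ U j ≤ U j)).op (t j a) =
    X.presheaf.map (homOfLE (inf_le_right : U i ⊓ U j ≤ U j)).op (t j i) *
      X.presheaf.map (homOfLE (inf_le_left : U i ⊓ U j ≤ U i)).op (t i a)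

variable {n : ℕ} (F : RatioFamily X n)

/-- The point with coordinates `v` over the open `V`. -/
def pt (V : X.Opens) (v : Fin (n + 1) → Γ(X, V)) (c : Fin (n + 1)) (hc : IsUnit (v c)) :
    Spec Γ(X, V) ⟶ CohB1.ProjSpace n R :=
  letI : Algebra R Γ(X, V) := (constV φ V).toAlgebra
  ProjMap.point (R := R) v c hc

theorem specMap_pt {V W : X.Opens} (h : W ≤ V) (v : Fin (n + 1) → Γ(X, V)) (c : Fin (n + 1)) (hc : IsUnit (v c)) :
    Spec.map (X.presheaf.map (homOfLE h).op) ≫ pt φ V v c hc =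
      pt φ W (fun i => X.presheaf.map (homOfLE h).op (v i)) c (hc.map (X.presheaf.map (homOfLE h).op).hom) := by
  letI : Algebra R Γ(X, V) := (constV φ V).toAlgebra
  letI : Algebra R Γ(X, W) := (constV φ W).toAlgebra
  exact ProjMap.specMap_point (X.presheaf.map (homOfLE h).op).hom (res_constV φ h) v c hc

theorem pt_congr {V : X.Opens} {v w : Fin (n + 1) → Γ(X, V)} (t : Γ(X, V)) (hw : ∀ a, w a = t * v a)
    (c d : Fin (n + 1)) (hc : IsUnit (w c)) (hd : IsUnit (v d)) (hc' : IsUnit (v c)) :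
    pt φ V w c hc = pt φ V v d hd := by
  letI : Algebra R Γ(X, V) := (constV φ V).toAlgebra
  exact (ProjMap.point_smul v w t hw c hc' hc).trans (ProjMap.point_chart v c d hc' hd)

/-- The map on one member of the cover. -/
def piece (i : Fin (n + 1)) : (F.U i).toScheme ⟶ CohB1.ProjSpace n R :=
  (F.U i).toSpecΓ ≫ pt φ (F.U i) (F.t i) i (F.t_self i ▸ isUnit_one)

theorem homOfLE_piece {i : Fin (n + 1)} {W : X.Opens} (h : W ≤ F.U i) :
    X.homOfLE h ≫ piece φ F i = W.toSpecΓ ≫
      pt φ W (fun a => X.presheaf.map (homOfLE h).op (F.t i a)) i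
        ((F.t_self i ▸ isUnit_one).map (X.presheaf.map (homOfLE h).op).hom) := by
  rw [piece, ← Scheme.Opens.toSpecΓ_SpecMap_presheaf_map_assoc _ _ h, specMap_pt]

theorem piece_compat (i j : Fin (n + 1)) :
    X.homOfLE (inf_le_left : F.U i ⊓ F.U j ≤ F.U i) ≫ piece φ F i =
      X.homOfLE (inf_le_right : F.U i ⊓ F.U j ≤ F.U j) ≫ piece φ F j := by
  rw [homOfLE_piece, homOfLE_piece]
  congr 1
  refine (pt_congr φ _ (fun a => F.t_mul i j a) j i _ _ ?_).symm
  exact isUnit_of_mem_basicOpen (F.t i j) inf_le_left (F.t_open i j).ge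
where
  isUnit_of_mem_basicOpen {V W : X.Opens} (f : Γ(X, V)) (h : W ≤ V) (h' : W ≤ X.basicOpen f) :
      IsUnit (X.presheaf.map (homOfLE h).op f) := by
    have h1 := (RingedSpace.isUnit_res_basicOpen X.toRingedSpace f).map (X.presheaf.map (homOfLE h').op).hom
    have h2 : X.presheaf.map (homOfLE h').op (X.presheaf.map (homOfLE (X.basicOpen_le f)).op f) =
        X.presheaf.map (homOfLE h).op f := by
      rw [← ConcreteCategory.comp_apply, ← Functor.map_comp]
      rfl
    exact h2 ▸ h1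

/-- The morphism to projective space. -/
def toProj : X ⟶ CohB1.ProjSpace n R :=
  (X.openCoverOfIsOpenCover F.U F.cover).glueMorphisms (fun i => piece φ F i) fun i j => by
    have hle : ∀ w, (pullback.fst (F.U i).ι (F.U j).ι ≫ (F.U i).ι) w ∈ F.U i ⊓ F.U j := fun w => by
      refine ⟨(pullback.fst (F.U i).ι (F.U j).ι w).2, ?_⟩
      rw [pullback.condition]
      exact (pullback.snd (F.U i).ι (F.U j).ι w).2
    let k := IsOpenImmersion.lift (F.U i ⊓ F.U j).ι (pullback.fst (F.U i).ι (F.U j).ι ≫ (F.U i).ι)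
      (by rintro _ ⟨w, rfl⟩; rw [Scheme.Opens.range_ι]; exact hle w)
    have hk1 : k ≫ X.homOfLE (inf_le_left : F.U i ⊓ F.U j ≤ F.U i) = pullback.fst (F.U i).ι (F.U j).ι := by
      rw [← cancel_mono (F.U i).ι, Category.assoc, Scheme.homOfLE_ι, IsOpenImmersion.lift_fac]
    have hk2 : k ≫ X.homOfLE (inf_le_right : F.U i ⊓ F.U j ≤ F.U j) = pullback.snd (F.U i).ι (F.U j).ι := by
      rw [← cancel_mono (F.U j).ι, Category.assoc, Scheme.homOfLE_ι, IsOpenImmersion.lift_fac, pullback.condition]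
    show pullback.fst (F.U i).ι (F.U j).ι ≫ piece φ F i = pullback.snd (F.U i).ι (F.U j).ι ≫ piece φ F j
    rw [← hk1, ← hk2, Category.assoc, Category.assoc, piece_compat]

theorem ι_toProj (i : Fin (n + 1)) : (F.U i).ι ≫ toProj φ F = piece φ F i :=
  Scheme.Cover.ι_glueMorphisms (X.openCoverOfIsOpenCover F.U F.cover) _ _ i

theorem toProj_toSpec (f : X ⟶ Spec (CommRingCat.of R))
    (hf : (Scheme.ΓSpecIso (CommRingCat.of R)).inv ≫ f.appTop = CommRingCat.ofHom φ) :
    toProj φ F ≫ CohB1.ProjSpace.toSpec n R = f := by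
  refine (X.openCoverOfIsOpenCover F.U F.cover).hom_ext _ _ fun i => ?_
  show (F.U i).ι ≫ _ ≫ _ = (F.U i).ι ≫ f
  rw [← Category.assoc, ι_toProj, piece, Category.assoc, pt,
    @ProjMap.point_toSpec _ _ _ _ _ (constV φ (F.U i)).toAlgebra]
  show (F.U i).toSpecΓ ≫ Spec.map (CommRingCat.ofHom φ ≫
    X.presheaf.map (homOfLE (le_top : F.U i ≤ ⊤)).op) = _
  rw [← hf, Spec.map_comp, Scheme.Opens.toSpecΓ_SpecMap_presheaf_map_top_assoc]
  congr 1
  rw [Spec.map_comp, ← Scheme.toSpecΓ_naturality_assoc, toSpecΓ_SpecMap_ΓSpecIso_inv, Category.comp_id]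

theorem preimage_basicOpen (a : Fin (n + 1)) :
    toProj φ F ⁻¹ᵁ Proj.basicOpen (CohB1.polyGrading n R) (MvPolynomial.X a) = F.U a := by
  refine Opens.ext (Set.ext fun x => ?_)
  obtain ⟨i, hxi⟩ := Opens.mem_iSup.1 (F.cover.ge (Opens.mem_top x))
  letI : Algebra R Γ(X, F.U i) := (constV φ (F.U i)).toAlgebra
  have h1 : (⟨x, hxi⟩ : (F.U i).toScheme) ∈ piece φ F i ⁻¹ᵁ Proj.basicOpen (CohB1.polyGrading n R) (MvPolynomial.X a) ↔
      x ∈ toProj φ F ⁻¹ᵁ Proj.basicOpen (CohB1.polyGrading n R) (MvPolynomial.X a) := by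
    rw [← ι_toProj φ F i]
    rfl
  rw [SetLike.mem_coe, ← h1, piece, Scheme.Hom.comp_preimage, pt,
    ProjMap.point_preimage_basicOpen (F.t i) i _ one_pos (X_mem a), MvPolynomial.aeval_X,
    Scheme.Opens.toSpecΓ_preimage_basicOpen, F.t_open]
  exact ⟨fun h => h.2, fun h => ⟨hxi, h⟩⟩

end Groth.Agent.AmpleEmb
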