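import Groth.Agent.AmpleEmb.Generated
import Groth.Agent.AmpleEmb.Inverse
import Groth.Agent.DCohLib.TensorPerf
import Groth.Prelude.Def_PerfAux

/-!
# Quotients of sums of negative powers
-/

set_option autoImplicit false
set_option backward.isDefEq.respectTransparency false
set_option linter.style.haveILetI false

universe u

open CategoryTheory CategoryTheory.Limits AlgebraicGeometry TopologicalSpace Opposite
open Groth.Agent.PullbackMod Groth.Agent.DCohLib Groth.Agent.ParaFLib Groth.Agent.AmpleLib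
open scoped TensorProduct

noncomputable section

namespace Groth.Agent.AmpleEmb

variable {X : Scheme.{u}}

theorem range_stalkLin_le {A B : X.Modules} {ι : Type} {N : ι → X.Modules} [HasCoproduct N] (φ : ∀ i, N i ⟶ B)
    (i : ι) (g : A ⟶ N i) (x : X) :
    LinearMap.range (stalkLin (g ≫ φ i) x) ≤ LinearMap.range (stalkLin (Sigma.desc φ) x) := by
  rw [← Sigma.ι_desc φ i, ← Category.assoc, stalkLin_comp]
  exact LinearMap.range_comp_le_range _ _

/-- The map out of `N` given by a section of `G`, when `G ⊗ N ≅ F`. -/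
def secTensor {F G N : X.Modules} (θ : CohB1.tensorMod G N ≅ F) (ξ : Γ(G, ⊤)) : N ⟶ F :=
  (unitL N).inv ≫ (show CohB1.tensorMod (Coh.structureModule X) N ⟶ CohB1.tensorMod G N from
    ((DCoh.tensorBi (X := X)).map (secHom G ξ)).app N) ≫ θ.hom

theorem mem_range_secTensor {F G N : X.Modules} (θ : CohB1.tensorMod G N ≅ F) (ξ : Γ(G, ⊤)) (y : X)
    (q : N.presheaf.stalk y) :
    stalkLin θ.hom y (stalkTensor y G N (G.presheaf.germ ⊤ y trivial ξ ⊗ₜ q)) ∈
      LinearMap.range (stalkLin (secTensor θ ξ) y) := by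
  haveI : IsIso (unitL N).inv := inferInstance
  obtain ⟨w, hw⟩ := ((isIso_iff_stalk (unitL N).inv).1 inferInstance y).2
    (stalkTensor y (Coh.structureModule X) N ((Coh.structureModule X).presheaf.germ ⊤ y trivial (1 : Γ(X, ⊤)) ⊗ₜ q))
  refine ⟨w, ?_⟩
  have h1 := stalkTensor_natural_left (N := N) y (secHom G ξ)
    ((Coh.structureModule X).presheaf.germ ⊤ y trivial (1 : Γ(X, ⊤)) ⊗ₜ[X.presheaf.stalk y] q)
  have h2 : stalkLin (secHom G ξ) y ((Coh.structureModule X).presheaf.germ ⊤ y trivial (1 : Γ(X, ⊤))) =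
      G.presheaf.germ ⊤ y trivial ξ := by
    rw [stalkLin_germ]
    exact congrArg (G.presheaf.germ ⊤ y trivial) ((secHom_app_one G ξ ⊤).trans (res_self _ ξ))
  rw [LinearMap.rTensor_tmul, h2] at h1
  rw [secTensor, stalkLin_comp, stalkLin_comp, LinearMap.comp_apply, LinearMap.comp_apply, hw]
  exact congrArg (stalkLin θ.hom y) h1

theorem span_germ_of_extend {F P : X.Modules} [Coh.IsQCoh F] (hP : PicF.IsInvertible P)
    {s : Coh.structureModule X ⟶ P} (hU : IsAffineOpen (CohB1.genLocus P s)) {S : Finset Γ(F, CohB1.genLocus P s)}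
    (hS : Submodule.span Γ(X, CohB1.genLocus P s) (S : Set Γ(F, CohB1.genLocus P s)) = ⊤) {K : ℕ}
    (ξ : S → Γ(CohB1.tensorMod F (CohB1.tensorPow P K), ⊤))
    (hξ : ∀ σ : S, resT (ξ σ) (CohB1.genLocus P s) =
      pairS F (CohB1.tensorPow P K) σ (powLoc (resT (sec s) (CohB1.genLocus P s)) K))
    {y : X} (hy : y ∈ CohB1.genLocus P s) :
    Submodule.span (X.presheaf.stalk y)
      (Set.range fun σ : S => (CohB1.tensorMod F (CohB1.tensorPow P K)).presheaf.germ ⊤ y trivial (ξ σ)) = ⊤ := by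
  refine eq_top_iff.2 (le_trans (span_stalkTensor
    ((gen_powLoc (gen_genLocus hP s) K).bijective_germ y hy) (span_germ_eq_top F hU hy hS)).ge (Submodule.span_mono ?_))
  rintro _ ⟨_, ⟨σ, hσ, rfl⟩, rfl⟩
  refine ⟨⟨σ, hσ⟩, ?_⟩
  have h1 := congrArg ((CohB1.tensorMod F (CohB1.tensorPow P K)).presheaf.germ (CohB1.genLocus P s) y hy) (hξ ⟨σ, hσ⟩)
  rw [resT, TopCat.Presheaf.germ_res_apply] at h1
  exact h1.trans (germ_pairS _ _ y hy)

theorem top_le_range_of_secTensor {F G N E : X.Modules} (θ : CohB1.tensorMod G N ≅ F) {S : Type*} (ξ : S → Γ(G, ⊤))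
    (π : E ⟶ F) (y : X)
    (hspan : Submodule.span (X.presheaf.stalk y) (Set.range fun σ => G.presheaf.germ ⊤ y trivial (ξ σ)) = ⊤)
    (h : ∀ σ, LinearMap.range (stalkLin (secTensor θ (ξ σ)) y) ≤ LinearMap.range (stalkLin π y)) :
    ⊤ ≤ LinearMap.range (stalkLin π y) := by
  intro z _
  obtain ⟨w, rfl⟩ := ((isIso_iff_stalk θ.hom).1 inferInstance y).2 z
  obtain ⟨w, rfl⟩ := (stalkTensor y G N).surjective w
  induction w using TensorProduct.induction_on with
  | zero => simp only [map_zero]; exact zero_mem _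
  | add p q hp hq => simp only [map_add]; exact add_mem (hp trivial) (hq trivial)
  | tmul a q =>
    have ha : a ∈ Submodule.span (X.presheaf.stalk y) _ := hspan.ge (Submodule.mem_top (x := a))
    clear hspan
    rename_i hz
    clear hz
    induction ha using Submodule.span_induction with
    | zero => simp only [TensorProduct.zero_tmul, map_zero]; exact zero_mem _
    | add p p' _ _ hp hp' => simp only [TensorProduct.add_tmul, map_add]; exact add_mem hp hp'
    | smul c p _ hp => simp only [← TensorProduct.smul_tmul', map_smul]; exact Submodule.smul_mem _ _ hp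
    | mem p hp =>
      obtain ⟨σ, rfl⟩ := hp
      exact h σ (mem_range_secTensor θ (ξ σ) y q)

theorem exists_local_negPow [CompactSpace X] [QuasiSeparatedSpace X] {P : X.Modules} (hP : PicF.IsInvertible P)
    {s : Coh.structureModule X ⟶ P} (hU : IsAffineOpen (CohB1.genLocus P s)) (F : X.Modules) [Coh.IsQCoh F]
    (hF : CohB1.IsFT F) :
    ∃ (N : X.Modules) (k n : ℕ) (φ : Fin n → (N ⟶ F)), 0 < k ∧ PicF.IsInvertible N ∧
      Nonempty (CohB1.tensorMod N (CohB1.tensorPow P k) ≅ Coh.structureModule X) ∧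
      ∀ y ∈ CohB1.genLocus P s, ∀ (E : X.Modules) (π : E ⟶ F),
        (∀ i, LinearMap.range (stalkLin (φ i) y) ≤ LinearMap.range (stalkLin π y)) →
          ⊤ ≤ LinearMap.range (stalkLin π y) := by
  classical
  obtain ⟨S, hS⟩ := (QCohLib.finite_sections F hF hU).fg_top
  choose k₀ hk₀ using fun σ : Γ(F, CohB1.genLocus P s) => exists_extend_mod hP s F σ
  let K := S.sup k₀ + 1
  have hex : ∀ σ : S, ∃ ξ : Γ(CohB1.tensorMod F (CohB1.tensorPow P K), ⊤), resT ξ (CohB1.genLocus P s) =
      pairS F (CohB1.tensorPow P K) σ (powLoc (resT (sec s) (CohB1.genLocus P s)) K) := fun σ =>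
    hk₀ σ.1 K ((Finset.le_sup σ.2).trans (Nat.le_succ _))
  choose ξ hξ using hex
  obtain ⟨N, hN, ⟨η⟩⟩ := exists_isInverseOf (isInvertible_tensorPow hP K)
  let θ : CohB1.tensorMod (CohB1.tensorMod F (CohB1.tensorPow P K)) N ≅ F :=
    assoc _ _ _ ≪≫ tIso (Iso.refl F) η ≪≫ unitR F
  refine ⟨N, K, S.card, fun i => secTensor θ (ξ (S.equivFin.symm i)), Nat.succ_pos _, hN,
    ⟨comm _ _ ≪≫ η⟩, fun y hy E π h => ?_⟩
  refine top_le_range_of_secTensor θ ξ π y (span_germ_of_extend hP hU hS ξ hξ hy) fun σ => ?_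
  have := h (S.equivFin σ)
  simp only [Equiv.symm_apply_apply] at this
  exact this

/-- A quasi-coherent module of finite type receives a surjection from a finite sum of negative powers of any
family of invertible modules with sections whose affine loci cover. -/
theorem exists_epi_sigma_negPow [CompactSpace X] [QuasiSeparatedSpace X] {J : Type*} (P : J → X.Modules)
    (hP : ∀ j, PicF.IsInvertible (P j))
    (hcov : ∀ x : X, ∃ (j : J) (s : Coh.structureModule X ⟶ P j),
      x ∈ CohB1.genLocus (P j) s ∧ IsAffineOpen (CohB1.genLocus (P j) s))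
    (F : X.Modules) [Coh.IsQCoh F] (hF : CohB1.IsFT F) :
    ∃ (m : ℕ) (N : Fin m → X.Modules) (π : ∐ N ⟶ F), Epi π ∧
      ∀ i, PicF.IsInvertible (N i) ∧ ∃ (j : J) (k : ℕ), 0 < k ∧
        Nonempty (CohB1.tensorMod (N i) (CohB1.tensorPow (P j) k) ≅ Coh.structureModule X) := by
  classical
  choose j s hxs hsa using hcov
  obtain ⟨T, hT⟩ := isCompact_univ.elim_finite_subcover
    (fun x : X => (CohB1.genLocus _ (s x) : Set X)) (fun x => (CohB1.genLocus _ (s x)).2)
    (fun x _ => Set.mem_iUnion.2 ⟨x, hxs x⟩)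
  choose Q k n φ hk hQ hQi hrange using fun x : X => exists_local_negPow (hP (j x)) (hsa x) F hF
  let Idx := Σ x : T, Fin (n x.1)
  let e := (Fintype.equivFin Idx).symm
  refine ⟨_, fun i => Q (e i).1.1, Sigma.desc fun i => φ (e i).1.1 (e i).2, (epi_iff_stalk _).2 fun y => ?_,
    fun i => ⟨hQ _, j (e i).1.1, k (e i).1.1, hk _, hQi _⟩⟩
  obtain ⟨x, hxT, hyx⟩ := Set.mem_iUnion₂.1 (hT (Set.mem_univ y))
  rw [← LinearMap.range_eq_top]
  refine eq_top_iff.2 (hrange x y hyx _ _ fun c => ?_)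
  obtain ⟨i, hi⟩ := e.surjective (⟨⟨x, hxT⟩, c⟩ : Idx)
  have h3 := range_stalkLin_le (A := Q (e i).1.1) (fun i => φ (e i).1.1 (e i).2) i (𝟙 _) y
  rw [Category.id_comp] at h3
  refine le_trans ?_ h3
  rw [hi]

theorem quasiSeparatedSpace_of_genLocus_cover {J : Type*} (P : J → X.Modules) (hP : ∀ j, PicF.IsInvertible (P j))
    (hcov : ∀ x : X, ∃ (j : J) (s : Coh.structureModule X ⟶ P j),
      x ∈ CohB1.genLocus (P j) s ∧ IsAffineOpen (CohB1.genLocus (P j) s)) : QuasiSeparatedSpace X := by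
  choose j s hxs hsa using hcov
  exact Scheme.quasiSeparatedSpace_of_isOpenCover (fun x => CohB1.genLocus _ (s x))
    (eq_top_iff.2 fun x _ => Opens.mem_iSup.2 ⟨x, hxs x⟩) hsa fun a b =>
    (isAffineOpen_inf_genLocus (hP (j a)) (s a) (hsa b)).isCompact

theorem hasResolutionProperty_of_genLocus_cover [CompactSpace X] {J : Type*} (P : J → X.Modules)
    (hP : ∀ j, PicF.IsInvertible (P j))
    (hcov : ∀ x : X, ∃ (j : J) (s : Coh.structureModule X ⟶ P j),
      x ∈ CohB1.genLocus (P j) s ∧ IsAffineOpen (CohB1.genLocus (P j) s)) : PerfAux.HasResolutionProperty X := by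
  haveI := quasiSeparatedSpace_of_genLocus_cover P hP hcov
  intro F hF hF'
  haveI := hF
  obtain ⟨m, N, π, hπ, hN⟩ := exists_epi_sigma_negPow P hP hcov F hF'
  exact ⟨_, π, isFinLocFree_sigma m N fun i => CurveLib.isFinLocFree_of_isInvertible (hN i).1, hπ⟩

end Groth.Agent.AmpleEmb
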